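import Cfsg.Agent.Lib.M12Order.Eleven
import Cfsg.Agent.Lib.SmallOrder.Options
import Cfsg.Agent.Lib.SmallOrder.CentralizerSplit

/-!
A simple group of order 95040: the normalisers of the subgroups of order 11 and 5.
-/

set_option autoImplicit false
set_option linter.style.haveILetI false
set_option maxRecDepth 100000

namespace CfsgLib.M12Order

open Subgroup SmallOrder CfsgLib

universe u

variable {G : Type u} [Group G] [Finite G] [IsSimpleGroup G]

theorem check_five : optionsWithin 95040 5 19008 308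
    [(66, 72, 4), (66, 144, 2), (176, 27, 4), (176, 54, 2), (396, 12, 4), (396, 24, 2), (1056, 9, 2),
      (2376, 2, 4), (2376, 4, 2), (216, 22, 4), (216, 44, 2)] = true := by
  decide +kernel

theorem centralizer_zp {g : G} : centralizer ((zpowers g : Subgroup G) : Set G) = centralizer ({g} : Set G) := by
  rw [← centralizer_closure {g}, ← zpowers_eq_closure]

theorem eleven_data (hG : Nat.card G = 95040) {a : G} (ha : orderOf a = 11) :
    Nat.card ↥(centralizer ({a} : Set G)) = 11 ∧
      Nat.card ↥(normalizer ((zpowers a : Subgroup G) : Set G)) = 55 := by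
  haveI : Fact (Nat.Prime 11) := ⟨by norm_num⟩
  obtain ⟨P, hP⟩ := exists_sylow_eq (m := 8640) (p := 11) (G := G) (by rw [hG]) (by norm_num)
    (S := zpowers a) (by rw [Nat.card_zpowers, ha])
  rw [← centralizer_zp, ← hP]
  exact sylow_eleven hG P

theorem sylow_eleven_split {G : Type u} [Group G] [Fintype G] [IsSimpleGroup G] (hG : Nat.card G = 95040) [Fact (Nat.Prime 11)] (P : Sylow 11 G) (S : CSplit 11 P) :
    Nat.card S.V = 1 ∧ Nat.card S.act.range = 5 := by
  obtain ⟨h1, h2⟩ := sylow_eleven hG P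
  rw [S.card_centralizer] at h1
  have hV : Nat.card S.V = 1 := by omega
  rw [S.card_normalizer, hV] at h2
  exact ⟨hV, by omega⟩

/-- Every element of order 5 normalises a subgroup of order 11. -/
theorem exists_eleven_normalized (hG : Nat.card G = 95040) {y : G} (hy : orderOf y = 5) :
    ∃ a : G, orderOf a = 11 ∧ y * a * y⁻¹ ∈ zpowers a := by
  haveI : Fact (Nat.Prime 11) := ⟨by norm_num⟩
  haveI : Fact (Nat.Prime 5) := ⟨by norm_num⟩
  obtain ⟨a, ha⟩ := exists_prime_orderOf_dvd_card' (G := G) 11 (by rw [hG]; norm_num)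
  set N := normalizer ((zpowers a : Subgroup G) : Set G)
  obtain ⟨⟨z, hz⟩, hzo⟩ := exists_prime_orderOf_dvd_card' (G := N) 5 (by rw [(eleven_data hG ha).2]; norm_num)
  rw [Subgroup.orderOf_mk] at hzo
  obtain ⟨T, hT⟩ := exists_sylow_eq (m := 19008) (p := 5) (G := G) (by rw [hG]) (by norm_num)
    (S := zpowers y) (by rw [Nat.card_zpowers, hy])
  obtain ⟨U, hU⟩ := exists_sylow_eq (m := 19008) (p := 5) (G := G) (by rw [hG]) (by norm_num)
    (S := zpowers z) (by rw [Nat.card_zpowers, hzo])
  obtain ⟨g, hg⟩ := MulAction.exists_smul_eq G U T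
  have hyU : y ∈ ((g • U : Sylow 5 G) : Subgroup G) := by rw [hg, hT]; exact mem_zpowers y
  rw [Sylow.coe_subgroup_smul, hU] at hyU
  obtain ⟨w, hw, hwy⟩ := hyU
  refine ⟨g * a * g⁻¹, by rw [show g * a * g⁻¹ = MulAut.conj g a from rfl, MulEquiv.orderOf_eq, ha], ?_⟩
  obtain ⟨k, hk⟩ := mem_zpowers_iff.1 ((mem_normalizer_iff.1 (zpowers_le.2 hz hw) a).1 (mem_zpowers a))
  refine mem_zpowers_iff.2 ⟨k, ?_⟩
  rw [conj_zpow, hk, ← hwy]
  change g * (w * a * w⁻¹) * g⁻¹ = g * w * g⁻¹ * (g * a * g⁻¹) * (g * w * g⁻¹)⁻¹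
  group

theorem isConj_five (hG : Nat.card G = 95040) {x y : G} (hx : orderOf x = 5) (hy : orderOf y = 5) :
    ∃ g : G, (zpowers y : Subgroup G) = (zpowers x).map (MulAut.conj g).toMonoidHom := by
  haveI : Fact (Nat.Prime 5) := ⟨by norm_num⟩
  obtain ⟨T, hT⟩ := exists_sylow_eq (m := 19008) (p := 5) (G := G) (by rw [hG]) (by norm_num)
    (S := zpowers y) (by rw [Nat.card_zpowers, hy])
  obtain ⟨U, hU⟩ := exists_sylow_eq (m := 19008) (p := 5) (G := G) (by rw [hG]) (by norm_num)
    (S := zpowers x) (by rw [Nat.card_zpowers, hx])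
  obtain ⟨g, hg⟩ := MulAction.exists_smul_eq G U T
  refine ⟨g, ?_⟩
  rw [← hT, ← hg, Sylow.coe_subgroup_smul, hU]
  rfl

/-- The possible structures of the normaliser of a subgroup of order 5. -/
theorem five_options (hG : Nat.card G = 95040) {y : G} (hy : orderOf y = 5) :
    ∃ c e : ℕ, (c, e) ∈ [(72, 4), (144, 2), (27, 4), (54, 2), (12, 4), (24, 2), (9, 2), (2, 4), (4, 2)] ∧
      Nat.card ↥(centralizer ({y} : Set G)) = 5 * c ∧
      Nat.card ↥(normalizer ((zpowers y : Subgroup G) : Set G)) = 5 * c * e := by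
  haveI : Fact (Nat.Prime 5) := ⟨by norm_num⟩
  obtain ⟨T, hT⟩ := exists_sylow_eq (m := 19008) (p := 5) (G := G) (by rw [hG]) (by norm_num)
    (S := zpowers y) (by rw [Nat.card_zpowers, hy])
  obtain ⟨n, c, e, hmem, -, hC, hN⟩ :=
    exists_option hG 19008 308 _ (by norm_num) (by norm_num) (by norm_num) check_five T
  rw [hT, centralizer_zp] at hC
  rw [hT] at hN
  have h440 : c * e ≠ 88 := by
    intro h
    rw [mul_assoc, h] at hN
    haveI : Fact (Nat.Prime 11) := ⟨by norm_num⟩
    obtain ⟨⟨a, ha⟩, hao⟩ := exists_prime_orderOf_dvd_card' (G := normalizer ((zpowers y : Subgroup G) : Set G))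
      11 (by rw [hN]; norm_num)
    rw [Subgroup.orderOf_mk] at hao
    have hC' := mem_centralizer_of_coprime (S := zpowers y) (a := 5 * c) (e := e)
      (by rw [centralizer_zp]; exact hC) (by rw [hN, mul_assoc, h]) ha (by
        rw [hao]
        simp only [List.mem_cons, List.not_mem_nil, or_false, Prod.mk.injEq] at hmem
        rcases hmem with h | h | h | h | h | h | h | h | h | h | h <;> obtain ⟨-, -, rfl⟩ := h <;> norm_num)
    rw [centralizer_zp, mem_centralizer_singleton_iff] at hC'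
    have hy' : y ∈ centralizer ({a} : Set G) := mem_centralizer_singleton_iff.2 hC'.symm
    have := orderOf_dvd_natCard _ hy'
    rw [hy, (eleven_data hG hao).1] at this
    norm_num at this
  refine ⟨c, e, ?_, hC, hN⟩
  simp only [List.mem_cons, List.not_mem_nil, or_false, Prod.mk.injEq] at hmem ⊢
  rcases hmem with h | h | h | h | h | h | h | h | h | h | h <;> obtain ⟨-, rfl, rfl⟩ := h <;> omega

end CfsgLib.M12Order
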