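import Cfsg.Agent.Lib.SmallOrder.Options
import Cfsg.Agent.Lib.SmallOrder.CentralizerSplit

/-!
In a simple group of order `95040` with self-centralising elements of order `11` the centraliser of an
element of order `5` has order prime to `27` up to a factor `9`.
-/

set_option autoImplicit false

namespace CfsgLib.M12Order

open Subgroup CfsgLib.SmallOrder

theorem not_twentyseven_dvd {G : Type*} [Group G] [Finite G] [IsSimpleGroup G] (hG : Nat.card G = 95040)
    (h11 : ∀ a : G, orderOf a = 11 → Nat.card ↥(Subgroup.centralizer ({a} : Set G)) = 11) {y : G}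
    (hy : orderOf y = 5) : ¬ 27 ∣ Nat.card ↥(Subgroup.centralizer ({y} : Set G)) := by
  classical
  intro h27
  have : Fact (Nat.Prime 3) := ⟨Nat.prime_three⟩
  have : Fact (Nat.Prime 5) := ⟨by norm_num⟩
  have : Fact (Nat.Prime 11) := ⟨by norm_num⟩
  obtain ⟨P, hP⟩ := exists_sylow_eq (p := 5) (m := 19008) (G := G) (by rw [hG]) (by norm_num)
    (S := zpowers y) (by rw [Nat.card_zpowers, hy])
  have hP5 : Nat.card ↥(P : Subgroup G) = 5 := by rw [hP, Nat.card_zpowers, hy]
  have hCy : centralizer ({y} : Set G) = centralizer ((P : Subgroup G) : Set G) := by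
    ext g
    rw [hP, mem_centralizer_singleton_iff, mem_centralizer_iff]
    constructor
    · intro h w hw
      obtain ⟨k, rfl⟩ := mem_zpowers_iff.1 hw
      exact ((show Commute y g from h.symm).zpow_left k).eq
    · intro h
      exact (h y (mem_zpowers y)).symm
  obtain ⟨n, c, e, hmem, hn, hC, hN⟩ := exists_option hG 19008 308
    [(66, 72, 4), (66, 144, 2), (176, 27, 4), (176, 54, 2), (216, 22, 4), (216, 44, 2), (396, 12, 4),
      (396, 24, 2), (1056, 9, 2), (2376, 2, 4), (2376, 4, 2)]
    (by norm_num) (by norm_num) (by norm_num) (by decide +kernel) P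
  rw [hCy, hC] at h27
  obtain ⟨hcc, hce⟩ : (c = 27 ∨ c = 54) ∧ 5 * c * e = 540 := by
    simp only [List.mem_cons, List.not_mem_nil, or_false, Prod.mk.injEq] at hmem
    rcases hmem with h | h | h | h | h | h | h | h | h | h | h <;> obtain ⟨-, rfl, rfl⟩ := h <;> omega
  obtain ⟨S⟩ := exists_csplit P hP5
  have hVc : Nat.card S.V = c := by
    have := S.card_centralizer
    rw [hC] at this
    omega
  -- the Sylow `3`-subgroup of `C(y)`
  obtain ⟨Q⟩ := (inferInstance : Nonempty (Sylow 3 S.V))
  have hQ : Nat.card ↥(Q : Subgroup S.V) = 27 := by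
    simpa using card_sylow_eq (e := 3) (m := c / 27) (by rw [hVc]; rcases hcc with rfl | rfl <;> norm_num)
      (by rcases hcc with rfl | rfl <;> norm_num) Q
  have hsub : Subsingleton (Sylow 3 S.V) := by
    refine (Nat.card_eq_one_iff_unique.1 ?_).1
    have h1 := card_sylow_modEq_one 3 S.V
    have h2 : Nat.card (Sylow 3 S.V) ∣ 2 := by
      have h3 := (Q : Subgroup S.V).card_mul_index
      rw [hQ, hVc] at h3
      refine Q.card_dvd_index.trans ?_
      rcases hcc with rfl | rfl
      · rw [show (Q : Subgroup S.V).index = 1 by omega]; norm_num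
      · rw [show (Q : Subgroup S.V).index = 2 by omega]
    rcases (Nat.dvd_prime Nat.prime_two).1 h2 with h | h
    · exact h
    · rw [Nat.ModEq, h] at h1; omega
  set R := (Q : Subgroup S.V).map S.V.subtype with hRdef
  have hR : Nat.card R = 27 := by rw [hRdef, card_map_of_injective S.V.subtype_injective, hQ]
  have hRiff : ∀ v : S.V, v ^ 27 = 1 → v ∈ (Q : Subgroup S.V) := by
    intro v hv
    obtain ⟨Q', hQ'⟩ := (IsPGroup.of_card (p := 3) (G := zpowers v)
      (n := (Nat.dvd_prime_pow Nat.prime_three).1 (show Nat.card (zpowers v) ∣ 3 ^ 3 by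
        rw [Nat.card_zpowers]; exact orderOf_dvd_of_pow_eq_one hv) |>.choose)
      ((Nat.dvd_prime_pow Nat.prime_three).1 (show Nat.card (zpowers v) ∣ 3 ^ 3 by
        rw [Nat.card_zpowers]; exact orderOf_dvd_of_pow_eq_one hv) |>.choose_spec.2)).exists_le_sylow
    rw [← hsub.elim Q' Q]
    exact hQ' (mem_zpowers v)
  set M := normalizer (R : Set G) with hMdef
  have hNM : normalizer ((P : Subgroup G) : Set G) ≤ M := by
    intro g hg
    refine mem_normalizer_fintype fun w hw => ?_
    obtain ⟨v, hv, rfl⟩ := hw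
    have hmemV : g * (v : G) * g⁻¹ ∈ S.V := S.conj_mem hg v.2
    refine ⟨⟨_, hmemV⟩, hRiff _ (Subtype.ext ?_), rfl⟩
    have hv27 : (v : G) ^ 27 = 1 := by
      have := Subgroup.orderOf_dvd_natCard _ hv
      rw [hQ, orderOf_dvd_iff_pow_eq_one] at this
      simpa using congrArg Subtype.val this
    rw [SubmonoidClass.coe_pow, conj_pow, hv27, mul_one, mul_inv_cancel, coe_one]
  have hPM : (P : Subgroup G) ≤ M := le_normalizer.trans hNM
  set P' : Sylow 5 M := P.subtype hPM with hP'
  have hj := card_normalizer_mul P'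
  have hNP' : Nat.card ↥(normalizer ((P' : Subgroup M) : Set M)) = 540 := by
    rw [← hce, ← hN]
    have hmap : (normalizer ((P' : Subgroup M) : Set M)).map M.subtype =
        normalizer ((P : Subgroup G) : Set G) := by
      refine le_antisymm ?_ fun g hg => ⟨⟨g, hNM hg⟩, mem_normalizer_iff.2 fun w => ?_, rfl⟩
      · refine (le_normalizer_map _).trans ?_
        rw [show (P' : Subgroup M).map M.subtype = P from map_subgroupOf_eq_of_le hPM]
      · exact (mem_normalizer_iff.1 hg (w : G))
    rw [← hmap, card_map_of_injective M.subtype_injective]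
  set j := Nat.card (Sylow 5 M) with hjdef
  rw [hNP'] at hj
  have hj5 : j % 5 = 1 := card_sylow_modEq_one 5 M
  obtain ⟨T, hRT⟩ := (IsPGroup.of_card (p := 3) (G := R) (n := 3) (by rw [hR]; norm_num)).exists_le_sylow
  have hTR : (T : Subgroup G) = R := (eq_of_le_of_card_ge hRT (by
    rw [hR, card_sylow_eq (e := 3) (m := 3520) (by rw [hG]; norm_num) (by norm_num) T]; norm_num)).symm
  have hnT := card_normalizer_mul T
  rw [hTR, ← hMdef, ← hj, hG, mul_assoc] at hnT
  obtain ⟨-, hn3, hn1, -⟩ := card_sylow_facts (p := 3) (e := 3) (m := 3520) (G := G)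
    (by rw [hG]; norm_num) (by norm_num) (by norm_num) (by norm_num)
  have h176 : j * Nat.card (Sylow 3 G) = 176 := by omega
  have hj11 : j = 11 := by
    have hjm : j ∈ Nat.divisors 176 := Nat.mem_divisors.2 ⟨⟨_, h176.symm⟩, by norm_num⟩
    rw [show Nat.divisors 176 = {1, 2, 4, 8, 11, 16, 22, 44, 88, 176} by decide] at hjm
    simp only [Finset.mem_insert, Finset.mem_singleton] at hjm
    rcases hjm with h | h | h | h | h | h | h | h | h | h <;> rw [h] at hj5 h176 <;> omega
  -- an element of order eleven normalising `R`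
  obtain ⟨⟨a, haM⟩, hao⟩ := exists_prime_orderOf_dvd_card' (G := M) 11 (by rw [← hj, hj11]; norm_num)
  rw [orderOf_mk] at hao
  let _ : MulAction ↥(zpowers a) R :=
    { smul := fun u w => ⟨(u : G) * w.1 * (u : G)⁻¹,
        (mem_normalizer_iff.1 ((zpowers_le.2 haM : zpowers a ≤ M) u.2) w.1).1 w.2⟩
      one_smul := fun w => Subtype.ext (show (1 : G) * w.1 * 1⁻¹ = w.1 by group)
      mul_smul := fun u v w => Subtype.ext
        (show (u : G) * v * w.1 * ((u : G) * v)⁻¹ = u * (v * w.1 * (v : G)⁻¹) * (u : G)⁻¹ by group) }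
  have hfix := (IsPGroup.of_card (p := 11) (G := zpowers a) (n := 1)
    (by rw [Nat.card_zpowers, hao, pow_one])).card_modEq_card_fixedPoints R
  have hone : (MulAction.fixedPoints ↥(zpowers a) R) ⊆ {1} := by
    intro w hw
    have he : a * w.1 * a⁻¹ = w.1 := congrArg Subtype.val (MulAction.mem_fixedPoints.1 hw ⟨a, mem_zpowers a⟩)
    have hwC : w.1 ∈ centralizer ({a} : Set G) :=
      mem_centralizer_singleton_iff.2 (mul_inv_eq_iff_eq_mul.1 he).symm
    have h1 := Subgroup.orderOf_dvd_natCard _ hwC
    rw [h11 a hao] at h1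
    have h2 := Subgroup.orderOf_dvd_natCard _ w.2
    rw [hR] at h2
    exact Subtype.ext (orderOf_eq_one_iff.1 (Nat.eq_one_of_dvd_coprimes (by norm_num) h1 h2))
  have hle : Nat.card (MulAction.fixedPoints ↥(zpowers a) R) ≤ 1 := by
    rw [Nat.card_coe_set_eq]
    exact (Set.ncard_le_ncard hone (Set.toFinite _)).trans_eq (Set.ncard_singleton _)
  rw [hR, Nat.ModEq] at hfix
  omega

end CfsgLib.M12Order
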