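import Cfsg.Agent.Lib.M12Order.Values
import Cfsg.Agent.Lib.Char.Orth
import Cfsg.Agent.Lib.Char.Conj
import Cfsg.Agent.Lib.Char.GaloisConj
import Cfsg.Agent.Lib.ItoPrimeDegree.AltSquare
import Cfsg.Agent.Lib.DegMinusValue.SymSquare

/-!
A simple group of order `95040`: no character of degree `6`, and no centraliser of order `45` of an element
of order `5` next to a unique character of degree `10`.
-/

set_option autoImplicit false
set_option linter.style.haveILetI false

open scoped ComplexConjugate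

namespace CfsgLib.M12Order

open CfsgLib Subgroup

universe u

variable {G : Type u} [Group G] [Fintype G]

omit [Fintype G] in
theorem principal_deg_one : Char.degree (Char.principalIrr : Cfsg.IrrCharacter G).1 = 1 := by
  have h := Char.IsCharacter.degree_cast
    (Char.IsIrrCharacter.isCharacter (Char.principalIrr : Cfsg.IrrCharacter G).2)
  rw [Char.principalIrr_apply] at h
  exact_mod_cast h

/-- No character of degree `6` when the small degrees are `6`, `11`, `12` only. -/
theorem no_six {G : Type u} [Group G] [Fintype G] [IsSimpleGroup G] (hG : Nat.card G = 95040)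
    (χ : Cfsg.IrrCharacter G) (hd : Char.degree χ.1 = 6)
    (hsmall : ∀ ψ : Cfsg.IrrCharacter G, ψ ≠ Char.principalIrr → Char.degree ψ.1 ≤ 15 →
      Char.degree ψ.1 = 6 ∨ Char.degree ψ.1 = 11 ∨ Char.degree ψ.1 = 12) : False := by
  classical
  have _ := hG
  have hc := Char.IsIrrCharacter.isCharacter χ.2
  set A : G → ℂ := fun g => (χ.1 g * χ.1 g - χ.1 (g * g)) / 2 with hAdef
  set S : G → ℂ := fun g => (χ.1 g * χ.1 g + χ.1 (g * g)) / 2 with hSdef
  have hA : Cfsg.IsCharacter G A := ItoPrimeDegree.isCharacter_altSquare hc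
  have hS : Cfsg.IsCharacter G S := DegMinusValue.isCharacter_symSquare hc
  set one : Cfsg.IrrCharacter G := Char.principalIrr with hone
  obtain ⟨a, ha⟩ := Char.IsCharacter.exists_nat_classInner hA one.2
  obtain ⟨s, hs⟩ := Char.IsCharacter.exists_nat_classInner hS one.2
  have has : a + s ≤ 1 := by
    have hcj := Char.IsIrrCharacter.conj_apply' χ.2
    have h1 : Cfsg.classInner A one.1 + Cfsg.classInner S one.1 =
        Cfsg.classInner χ.1 (fun g => conj (χ.1 g)) := by
      simp only [Cfsg.classInner, hAdef, hSdef, hone, Char.principalIrr_apply, map_one, mul_one,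
        Complex.conj_conj]
      rw [← mul_add, ← Finset.sum_add_distrib]
      congr 1
      exact Finset.sum_congr rfl fun g _ => by ring
    rw [ha, hs, Char.classInner_irr χ.2 hcj] at h1
    split_ifs at h1
    · exact le_of_eq (by exact_mod_cast h1)
    · exact le_trans (le_of_eq (by exact_mod_cast h1)) zero_le_one
  obtain ⟨m, hm⟩ := Char.IsCharacter.exists_nat_combination hA
  have hma : m one = a := by
    rw [hm, Char.classInner_sum_smul_irr (fun φ => (m φ : ℂ)) one] at ha
    exact_mod_cast ha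
  have h15 : ∑ ψ, m ψ * Char.degree ψ.1 = 15 := by
    have h := congrFun hm 1
    simp only [hAdef, Finset.sum_apply, Pi.smul_apply, smul_eq_mul, mul_one,
      ← Char.IsCharacter.degree_cast (Char.IsIrrCharacter.isCharacter (Subtype.prop _)), hd] at h
    have h' : ((∑ ψ, m ψ * Char.degree ψ.1 : ℕ) : ℂ) = ((15 : ℕ) : ℂ) := by
      push_cast
      rw [← h]
      norm_num
    exact_mod_cast h'
  rw [← Finset.add_sum_erase Finset.univ _ (Finset.mem_univ one), hma] at h15
  have hdeg1 : Char.degree one.1 = 1 := principal_deg_one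
  rw [hdeg1, mul_one] at h15
  obtain ⟨X, Y, hXY⟩ : ∃ X Y, ∑ ψ ∈ Finset.univ.erase one, m ψ * Char.degree ψ.1 = 6 * X + 11 * Y := by
    refine Finset.sum_induction _ (fun n => ∃ X Y, n = 6 * X + 11 * Y) ?_ ⟨0, 0, rfl⟩ fun ψ hψ => ?_
    · rintro _ _ ⟨X, Y, rfl⟩ ⟨X', Y', rfl⟩
      exact ⟨X + X', Y + Y', by ring⟩
    · rcases Nat.eq_zero_or_pos (m ψ) with h0 | h0
      · exact ⟨0, 0, by simp [h0]⟩
      have hle : Char.degree ψ.1 ≤ 15 := by
        have h := Finset.single_le_sum (f := fun ψ => m ψ * Char.degree ψ.1) (fun _ _ => Nat.zero_le _) hψ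
        have := Nat.le_mul_of_pos_left (Char.degree ψ.1) h0
        omega
      rcases hsmall ψ (Finset.mem_erase.1 hψ).1 hle with h | h | h <;> rw [h]
      · exact ⟨m ψ, 0, by ring⟩
      · exact ⟨0, m ψ, by ring⟩
      · exact ⟨2 * m ψ, 0, by ring⟩
  rw [hXY] at h15
  have hX : X ≤ 2 := by omega
  have hY : Y ≤ 1 := by omega
  interval_cases X <;> interval_cases Y <;> omega

/-- A centraliser of order `45` of an element of order `5` excludes a unique character of degree `10`. -/
theorem no_ten_nine {G : Type u} [Group G] [Fintype G] [IsSimpleGroup G] (hG : Nat.card G = 95040)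
    (χ : Cfsg.IrrCharacter G) (hd : Char.degree χ.1 = 10)
    (huniq : ∀ ψ : Cfsg.IrrCharacter G, Char.degree ψ.1 = 10 → ψ = χ) {y : G} (hy : orderOf y = 5)
    (hC : Nat.card ↥(Subgroup.centralizer ({y} : Set G)) = 45) : False := by
  classical
  have hna : ¬ IsMulCommutative G := SmallOrder.not_comm_of_not_prime (by rw [hG]; norm_num)
  have hc := Char.IsIrrCharacter.isCharacter χ.2
  have hχ1 : χ.1 1 = 10 := by
    rw [← Char.IsCharacter.degree_cast hc, hd]; norm_num
  have hprin : χ ≠ Char.principalIrr := fun h => by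
    rw [h, principal_deg_one] at hd; omega
  have h7 : Nat.Coprime 7 (Nat.card G) := by rw [hG]; norm_num
  have hreal : ∀ g, χ.1 g⁻¹ = χ.1 g := by
    intro g
    have h := congrArg (fun φ : Cfsg.IrrCharacter G => φ.1 g) (huniq
      ⟨fun g => conj (χ.1 g), Char.IsIrrCharacter.conj_apply' χ.2⟩ (by
        have h := Char.IsCharacter.degree_cast (Char.IsCharacter.conj_apply' hc)
        rw [hχ1, map_ofNat] at h
        exact_mod_cast h))
    change conj (χ.1 g) = χ.1 g at h
    rw [Char.IsCharacter.apply_inv hc, h]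
  have hgal : ∀ g, χ.1 (g ^ 7) = χ.1 g := by
    intro g
    have hdeg : Char.degree (CharGalois.powIrr h7 χ).1 = 10 := by
      have h := Char.IsCharacter.degree_cast (Char.IsIrrCharacter.isCharacter (CharGalois.powIrr h7 χ).2)
      rw [CharGalois.powIrr_apply, one_pow, hχ1] at h
      exact_mod_cast h
    exact congrArg (fun φ : Cfsg.IrrCharacter G => φ.1 g) (huniq _ hdeg)
  have hvan : ∀ g : G, 5 ∣ orderOf g → χ.1 g = 0 := fun g hg =>
    vanish (by norm_num) hG χ hd (by norm_num) (by norm_num) hg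
  -- an element of order three commuting with `y`
  have hthree : ∀ u : G, orderOf u = 3 → Commute u y → χ.1 u = -5 := by
    intro u hu huy
    have hu3 : u ^ 3 = 1 := hu ▸ pow_orderOf_eq_one u
    have hu2 : χ.1 (u ^ 2) = χ.1 u := by
      rw [show u ^ 2 = u⁻¹ from eq_inv_of_mul_eq_one_left (by rw [← pow_succ, hu3]), hreal]
    have ho : orderOf (u * y) = 15 := by
      rw [huy.orderOf_mul_eq_mul_orderOf_of_coprime (by rw [hu, hy]; norm_num), hu, hy]
    have h0 : ∀ i : ℕ, i < 15 → ¬ 5 ∣ i → χ.1 ((u * y) ^ i) = 0 := fun i hi hi5 => by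
      refine hvan _ ?_
      rw [orderOf_pow, ho]
      interval_cases i <;> simp_all
    have hy5 : y ^ 5 = 1 := hy ▸ pow_orderOf_eq_one y
    have e5 : (u * y) ^ 5 = u ^ 2 := by
      rw [huy.mul_pow, hy5, mul_one, show (5 : ℕ) = 3 + 2 from rfl, pow_add, hu3, one_mul]
    have e10 : (u * y) ^ 10 = u := by
      rw [show (10 : ℕ) = 5 * 2 from rfl, pow_mul, e5, ← pow_mul, pow_succ, hu3, one_mul]
    have key : ∀ ζ : ℂ, ζ ^ 15 = 1 →
        ∃ m : ℕ, (10 : ℂ) + (ζ ^ 5 + ζ ^ 10) * χ.1 u = 15 * m := by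
      intro ζ hζ
      obtain ⟨m, hm⟩ := exists_sum_pow hc (u * y) (ζ := ζ) (by rw [ho]; exact hζ)
      refine ⟨m, ?_⟩
      rw [ho] at hm
      simp only [Finset.sum_range_succ, Finset.sum_range_zero] at hm
      rw [pow_zero, pow_zero, hχ1, e5, e10, hu2, h0 1 (by norm_num) (by norm_num),
        h0 2 (by norm_num) (by norm_num), h0 3 (by norm_num) (by norm_num), h0 4 (by norm_num) (by norm_num),
        h0 6 (by norm_num) (by norm_num), h0 7 (by norm_num) (by norm_num), h0 8 (by norm_num) (by norm_num),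
        h0 9 (by norm_num) (by norm_num), h0 11 (by norm_num) (by norm_num),
        h0 12 (by norm_num) (by norm_num), h0 13 (by norm_num) (by norm_num),
        h0 14 (by norm_num) (by norm_num)] at hm
      norm_num at hm
      linear_combination hm
    obtain ⟨m, hm⟩ := key 1 (one_pow _)
    set ω := Complex.exp (2 * Real.pi * Complex.I / 3) with hω
    have hω3 : IsPrimitiveRoot ω 3 := Complex.isPrimitiveRoot_exp 3 (by norm_num)
    have hωs : ω ^ 2 + ω = -1 := by
      have h := hω3.geom_sum_eq_zero (by norm_num)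
      simp only [Finset.sum_range_succ, Finset.sum_range_zero, pow_zero, pow_one] at h
      linear_combination h
    obtain ⟨n, hn⟩ := key ω (by rw [show (15 : ℕ) = 3 * 5 from rfl, pow_mul, hω3.pow_eq_one, one_pow])
    rw [show ω ^ 5 + ω ^ 10 = ω ^ 2 + ω by
      rw [show (5 : ℕ) = 3 + 2 from rfl, show (10 : ℕ) = 3 * 3 + 1 from rfl, pow_add, pow_add, pow_mul,
        hω3.pow_eq_one, one_pow, one_mul, one_mul, pow_one], hωs] at hn
    have hmn : m + 2 * n = 2 := by
      have : ((m + 2 * n : ℕ) : ℂ) = ((2 : ℕ) : ℂ) := by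
        push_cast
        linear_combination (-(hm + 2 * hn)) / 15
      exact_mod_cast this
    rcases Nat.eq_zero_or_pos n with hn0 | hn0
    · exfalso
      rw [hn0, Nat.cast_zero] at hn
      obtain ⟨μ, hμ, hval, -, hns⟩ := SmallOrder.exists_eigen_data hna hprin
        (fun h => by rw [h, orderOf_one] at hu; omega) hu3
      refine hns ⟨1, Char.eq_of_sum_eq_card_smul μ
        (fun i => Complex.norm_eq_one_of_pow_eq_one (hμ i) (by norm_num)) 1 norm_one ?_⟩
      have h1 := hval 1
      simp only [pow_one] at h1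
      rw [← h1, Fintype.card_fin, hd]
      push_cast
      linear_combination -hn
    · have : n = 1 := by omega
      rw [this, Nat.cast_one] at hn
      linear_combination -hn
  -- a subgroup of order nine
  obtain ⟨A⟩ := (inferInstance : Nonempty (Sylow 3 ↥(centralizer ({y} : Set G))))
  haveI : Fact (Nat.Prime 3) := ⟨Nat.prime_three⟩
  have hA : Nat.card ↥(A : Subgroup ↥(centralizer ({y} : Set G))) = 9 := by
    simpa using SmallOrder.card_sylow_eq (e := 2) (m := 5) (by rw [hC]; norm_num) (by norm_num) A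
  set B := (A : Subgroup ↥(centralizer ({y} : Set G))).map (centralizer ({y} : Set G)).subtype with hBdef
  have hB : Nat.card B = 9 := by rw [hBdef, card_map_of_injective (subtype_injective _), hA]
  have hBy : ∀ v ∈ B, Commute v y := by
    rintro _ ⟨v, -, rfl⟩
    exact mem_centralizer_singleton_iff.1 v.2
  by_cases hexp : ∀ v ∈ B, v ^ 3 = 1
  · haveI : Fintype B := Fintype.ofFinite B
    obtain ⟨m, hm⟩ := exists_average (Char.IsCharacter.restrict hc B) 1
    have hval : ∀ v : B, χ.1 (v : G) = -5 + if v = 1 then 15 else 0 := by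
      intro v
      split_ifs with h
      · rw [h, OneMemClass.coe_one, hχ1]; norm_num
      · rw [add_zero]
        refine hthree v (orderOf_eq_prime (hexp v v.2) fun h1 => h (Subtype.ext h1)) (hBy v v.2)
    simp only [MonoidHom.one_apply, one_mul, hval, Finset.sum_add_distrib, Finset.sum_const,
      Finset.card_univ, Fintype.sum_ite_eq', ← Nat.card_eq_fintype_card, hB] at hm
    have h' : ((9 * m + 30 : ℕ) : ℂ) = ((0 : ℕ) : ℂ) := by
      push_cast
      simp only [nsmul_eq_mul] at hm
      push_cast at hm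
      linear_combination -hm
    have : 9 * m + 30 = 0 := by exact_mod_cast h'
    omega
  · push Not at hexp
    obtain ⟨v, hvB, hv3⟩ := hexp
    have hv : orderOf v = 9 := by
      have h := (Subgroup.orderOf_dvd_natCard _ hvB)
      rw [hB] at h
      obtain ⟨i, hi, he⟩ := (Nat.dvd_prime_pow Nat.prime_three).1 (show orderOf v ∣ 3 ^ 2 by simpa using h)
      have hi2 : i = 2 := by
        by_contra hne
        refine hv3 (orderOf_dvd_iff_pow_eq_one.1 ?_)
        rw [he]
        exact (pow_dvd_pow 3 (show i ≤ 1 by omega)).trans (by norm_num)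
      rw [he, hi2]; norm_num
    have hv9 : v ^ 9 = 1 := hv ▸ pow_orderOf_eq_one v
    have h3 : χ.1 (v ^ 3) = -5 := by
      refine hthree _ ?_ ((hBy v hvB).pow_left 3)
      rw [orderOf_pow, hv]; norm_num
    have h6 : χ.1 (v ^ 6) = -5 := by
      rw [show v ^ 6 = (v ^ 3)⁻¹ from eq_inv_of_mul_eq_one_left (by rw [← pow_add, hv9]), hreal, h3]
    have hinv : ∀ i ≤ 9, χ.1 (v ^ (9 - i)) = χ.1 (v ^ i) := fun i hi => by
      rw [show v ^ (9 - i) = (v ^ i)⁻¹ from
        eq_inv_of_mul_eq_one_left (by rw [← pow_add, Nat.sub_add_cancel hi, hv9]), hreal]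
    have h7' : χ.1 (v ^ 7) = χ.1 v := hgal v
    have h4 : χ.1 (v ^ 4) = χ.1 v := by
      rw [show v ^ 4 = (v ^ 7) ^ 7 by
        rw [← pow_mul, show 7 * 7 = 9 * 5 + 4 from rfl, pow_add, pow_mul, hv9, one_pow, one_mul],
        hgal, h7']
    have h8 : χ.1 (v ^ 8) = χ.1 v := by
      have := hinv 1 (by norm_num)
      rwa [pow_one] at this
    have h2 : χ.1 (v ^ 2) = χ.1 v := by
      have := hinv 7 (by norm_num)
      rw [h7'] at this
      exact this
    have h5 : χ.1 (v ^ 5) = χ.1 v := by
      have := hinv 4 (by norm_num)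
      rw [h4] at this
      exact this
    have key : ∀ ζ : ℂ, ζ ^ 9 = 1 → ∃ m : ℕ,
        (10 : ℂ) - 5 * (ζ ^ 3 + ζ ^ 6) +
          (ζ + ζ ^ 2 + ζ ^ 4 + ζ ^ 5 + ζ ^ 7 + ζ ^ 8) * χ.1 v = 9 * m := by
      intro ζ hζ
      obtain ⟨m, hm⟩ := exists_sum_pow hc v (ζ := ζ) (by rw [hv]; exact hζ)
      refine ⟨m, ?_⟩
      rw [hv] at hm
      simp only [Finset.sum_range_succ, Finset.sum_range_zero, pow_zero, pow_one] at hm
      rw [hχ1, h2, h3, h4, h5, h6, h7', h8] at hm
      push_cast at hm
      linear_combination hm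
    set η := Complex.exp (2 * Real.pi * Complex.I / 9) with hη
    have hη9 : IsPrimitiveRoot η 9 := Complex.isPrimitiveRoot_exp 9 (by norm_num)
    have hω : IsPrimitiveRoot (η ^ 3) 3 := hη9.pow (by norm_num) (by norm_num)
    have hωs : η ^ 6 + η ^ 3 = -1 := by
      have h := hω.geom_sum_eq_zero (by norm_num)
      simp only [Finset.sum_range_succ, Finset.sum_range_zero, ← pow_mul] at h
      linear_combination h
    have h18 : η ^ 9 = 1 := hη9.pow_eq_one
    obtain ⟨m0, hm0⟩ := key 1 (one_pow _)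
    obtain ⟨m1, hm1⟩ := key (η ^ 3) (by rw [← pow_mul, show 3 * 9 = 9 * 3 from rfl, pow_mul, h18, one_pow])
    obtain ⟨m2, hm2⟩ := key η h18
    norm_num at hm0
    have e1 : (10 : ℂ) - 5 * 2 + (3 * (η ^ 6 + η ^ 3)) * χ.1 v = 9 * m1 := by
      have h3' : (η ^ 3) ^ 3 = 1 := hω.pow_eq_one
      have hp : ∀ i, (η ^ 3) ^ i = (η ^ 3) ^ (i % 3) := fun i => pow_eq_pow_mod i h3'
      rw [hp 3, hp 6, hp 4, hp 5, hp 7, hp 8] at hm1
      norm_num [← pow_mul] at hm1
      linear_combination hm1
    rw [hωs] at e1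
    have hz : m0 + 2 * m1 = 0 := by
      have : ((m0 + 2 * m1 : ℕ) : ℂ) = ((0 : ℕ) : ℂ) := by
        push_cast
        linear_combination (-(hm0 + 2 * e1)) / 9
      exact_mod_cast this
    have hv0 : χ.1 v = 0 := by
      rw [show m0 = 0 by omega, Nat.cast_zero] at hm0
      linear_combination hm0 / 6
    rw [hv0, mul_zero, add_zero] at hm2
    have : ((9 * m2 : ℕ) : ℂ) = ((15 : ℕ) : ℂ) := by
      push_cast
      linear_combination -hm2 - 5 * hωs
    have : 9 * m2 = 15 := by exact_mod_cast this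
    omega

end CfsgLib.M12Order
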