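import Cfsg.Agent.Lib.SmallOrder.Refined
import Cfsg.Agent.Lib.Sporadic.M11Order.Census

/-!
A simple group of order `95040`: the principal block at `5` with two exceptional characters of degree `12`.
-/

set_option autoImplicit false

namespace CfsgLib.M12Order

open Subgroup CfsgLib.SmallOrder

theorem twoTwelve_check :
    solCheck 95040 5 2 2 308 (fun f => Nat.ble 10 f) (fun _ f _ => Nat.beq f 12) = true := by
  decide +kernel

theorem exists_two_twelve {G : Type*} [Group G] [Fintype G] [IsSimpleGroup G] (hG : Nat.card G = 95040)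
    [Fact (Nat.Prime 5)] (P : Sylow 5 G) (c : ℕ) (hc : c ∈ [144, 54, 24, 9, 4])
    (hC : Nat.card ↥(Subgroup.centralizer ((P : Subgroup G) : Set G)) = 5 * c)
    (hN : Nat.card ↥(Subgroup.normalizer ((P : Subgroup G) : Set G)) = 5 * c * 2) :
    ∃ χ₁ χ₂ : Cfsg.IrrCharacter G, χ₁ ≠ χ₂ ∧ Char.degree χ₁.1 = 12 ∧ Char.degree χ₂.1 = 12 := by
  classical
  have hG' : ¬ IsMulCommutative G := not_comm_of_not_prime (by rw [hG]; norm_num)
  have hP : Nat.card ↥(P : Subgroup G) = 5 := by
    simpa using card_sylow_eq (e := 1) (m := 19008) (by rw [hG]; norm_num) (by norm_num) P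
  obtain ⟨S⟩ := exists_csplit P hP
  have hVc : Nat.card S.V = c := by
    have := S.card_centralizer
    rw [hC] at this
    omega
  have hc0 : 0 < c := hVc ▸ Nat.card_pos
  have he : Nat.card S.act.range = 2 := by
    have h := S.card_normalizer
    rw [hN, hVc] at h
    exact (Nat.eq_of_mul_eq_mul_left (by omega) h).symm
  have hb : 10 ≤ degBound 5 (Nat.card S.V) := by
    rw [hVc]
    exact (by decide : ∀ c ∈ [144, 54, 24, 9, 4], 10 ≤ degBound 5 c) c hc
  obtain ⟨B⟩ := S.exists_blockSolution (t := 2) (by rw [he]) (by omega)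
  have hD : ∀ χ, (χ = B.χ0 ∨ χ ∈ B.χs.map Prod.snd) → Nat.ble 10 (Char.degree χ.1) = true := fun χ hχ =>
    Nat.ble_eq.mpr (hb.trans (S.degBound_le hG' (B.good χ hχ).1 (B.good χ hχ).2))
  have hok := B.sol.of_solCheck (R := 308) (D := fun f => Nat.ble 10 f) (ok := fun _ f _ => Nat.beq f 12)
    (fun _ _ _ _ _ => rfl) (by norm_num) (by omega) B.hone (by rw [B.hf0]; exact hD _ (Or.inl rfl))
    (fun x hx => by
      rw [B.hl, List.mem_map] at hx
      obtain ⟨z, hz, rfl⟩ := hx
      exact hD z.2 (Or.inr (List.mem_map.2 ⟨z, hz, rfl⟩)))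
    (by rw [hG, he]; exact twoTwelve_check)
  simp only [Nat.beq_eq] at hok
  have h12 : Char.degree B.χ0.1 = 12 := B.hf0.symm.trans hok
  -- `χ0` is one of the exceptional characters of the census, as its weights have odd sum
  obtain ⟨K⟩ := S.exists_census
  have := Fintype.ofFinite S.Orb
  have hO : Fintype.card S.Orb = 2 := S.card_orb (by rw [he])
  obtain ⟨o, ho⟩ : ∃ o, B.χ0 = K.μ o := by
    by_contra hcon
    push Not at hcon
    have h := K.sum_vec_of_ne hcon
    rw [← finsum_eq_sum_of_fintype, B.hsum0, hO] at h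
    rcases B.sol.hε with hε | hε <;> rw [hε] at h <;> push_cast at h <;> omega
  obtain ⟨o', ho'⟩ := Fintype.exists_ne_of_one_lt_card (by omega) o
  exact ⟨K.μ o', K.μ o, fun h => ho' (K.hμ h), by rw [K.degree_const o' o, ← ho, h12], by rw [← ho, h12]⟩

end CfsgLib.M12Order
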