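import Cfsg.Agent.Lib.M12Order.Values

/-!
A simple group of order 95040: the possible values of the principal block at an involution.
-/

set_option autoImplicit false
set_option maxRecDepth 100000

namespace CfsgLib.M12Order

open CfsgLib

universe u

/-- The possible values of a character of degree `f` at an involution. -/
def invVals (f : ℕ) : List ℤ := (List.range ((f - 1) / 2)).map fun j : ℕ => (f : ℤ) - 4 * ((j : ℤ) + 1)

/-- The possible values divisible by 5. -/
def invValsFive (f : ℕ) : List ℤ := (invVals f).filter fun a => a % 5 == 0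

theorem mem_invVals {f : ℕ} {a : ℤ} (h1 : (4 : ℤ) ∣ (f : ℤ) - a) (h2 : -(f : ℤ) < a) (h3 : a < f) :
    a ∈ invVals f := by
  obtain ⟨t, ht⟩ := h1
  unfold invVals
  simp only [List.mem_map, List.mem_range]
  exact ⟨(t - 1).toNat, by omega, by omega⟩

theorem check_five_shape :
    ∀ a ∈ invVals 10, ∀ b ∈ invVals 12, ∀ c ∈ invVals 12, ∀ e ∈ invVals 12,
      ¬ (-27 < 1 - a + b + c + e ∧ 1 - a + b + c + e < 27 ∧
        -540 + 54 * (a * a) - 45 * (b * b + c * c + e * e) +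
          20 * ((1 - a + b + c + e) * (1 - a + b + c + e)) = 0) := by
  decide +kernel

theorem check_twenty_two :
    ∀ a ∈ invVals 12, ∀ b ∈ invVals 12, ∀ c ∈ invVals 45, ∀ d ∈ invVals 54,
      -16 < 1 + a + b + c - d → 1 + a + b + c - d < 16 →
        -2160 - 180 * (a * a + b * b) - 48 * (c * c) + 40 * (d * d) +
          135 * ((1 + a + b + c - d) * (1 + a + b + c - d)) = 0 → a = -8 ∧ b = -8 := by
  decide +kernel

theorem check_thirteen :
    ∀ a ∈ invValsFive 45, ∀ b ∈ invValsFive 45, ∀ c ∈ invValsFive 45, ∀ d ∈ invValsFive 120,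
      ¬ (-16 < 1 + a + b + c - d ∧ 1 + a + b + c - d < 16 ∧
        -720 - 16 * (a * a + b * b + c * c) + 6 * (d * d) +
          45 * ((1 + a + b + c - d) * (1 + a + b + c - d)) = 0) := by
  decide +kernel

theorem check_one_sixty :
    ∀ a ∈ invVals 32, ∀ b ∈ invValsFive 45, ∀ c ∈ invVals 54, ∀ d ∈ invValsFive 120,
      -160 < a - b + c + d - 1 → a - b + c + d - 1 < 160 → (a - b + c + d - 1) % 5 = 0 →
        -4320 + 135 * (a * a) - 96 * (b * b) + 80 * (c * c) + 36 * (d * d) -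
          27 * ((a - b + c + d - 1) * (a - b + c + d - 1)) = 0 → a = -8 ∧ c = -6 := by
  decide +kernel

variable {G : Type u} [Group G] [Fintype G] [IsSimpleGroup G]

theorem exists_invVal (hG : Nat.card G = 95040) (χ : Cfsg.IrrCharacter G) (hχ : χ ≠ Char.principalIrr)
    {d : ℕ} (hd : Char.degree χ.1 = d) {y : G} (hy : y ≠ 1) (hy2 : y ^ 2 = 1) :
    ∃ a : ℤ, a ∈ invVals d ∧ -(d : ℤ) < a ∧ a < d ∧ χ.1 y = (a : ℂ) := by
  have hna : ¬ IsMulCommutative G := SmallOrder.not_comm_of_not_prime (by rw [hG]; norm_num)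
  obtain ⟨k, ⟨j, hj⟩, hk0, hklt, hval⟩ := SmallOrder.exists_involution_value hna hχ hy hy2
  rw [hd] at hklt hval
  exact ⟨(d : ℤ) - 2 * k, mem_invVals ⟨j, by omega⟩ (by omega) (by omega), by omega, by omega, hval⟩

theorem exists_invValFive (hG : Nat.card G = 95040) (χ : Cfsg.IrrCharacter G) (hχ : χ ≠ Char.principalIrr)
    {d : ℕ} (hd : Char.degree χ.1 = d) (hdiv : d ∣ 95040) (h5 : 5 ∣ d)
    {y s : G} (hy : orderOf y = 5) (hs : orderOf s = 2) (hsy : Commute s y) :
    ∃ a : ℤ, a ∈ invValsFive d ∧ -(d : ℤ) < a ∧ a < d ∧ (5 : ℤ) ∣ a ∧ χ.1 s = (a : ℂ) := by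
  obtain ⟨a, ha, h5a, h4, h1, h2⟩ := exists_value_five hG χ hχ hd hdiv h5 hy hs hsy
  refine ⟨a, List.mem_filter.2 ⟨mem_invVals h4 h1 h2, ?_⟩, h1, h2, h5a, ha⟩
  rw [beq_iff_eq]
  exact Int.emod_eq_zero_of_dvd h5a

end CfsgLib.M12Order
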