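import Cfsg.Agent.Lib.M12Order.Conj5
import Cfsg.Agent.Lib.M12Order.Vec
import Cfsg.Agent.Lib.M12Order.Block11
import Cfsg.Agent.Lib.M12Order.NoTwentySeven
import Cfsg.Agent.Lib.M12Order.SmallDegrees
import Cfsg.Agent.Lib.M12Order.TwoTwelve

/-!
A simple group of order 95040: the centraliser of an element of order 5 and the principal block at 11.
-/

set_option autoImplicit false
set_option linter.style.haveILetI false
set_option linter.unusedSectionVars false
set_option maxHeartbeats 1000000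
set_option maxRecDepth 10000

namespace CfsgLib.M12Order

open CfsgLib Subgroup

universe u

theorem exists_perm_of_map_perm {α β : Type*} (g : α → β) {s t : List β} (h : s.Perm t) :
    ∀ l : List α, l.map g = s → ∃ l', l.Perm l' ∧ l'.map g = t := by
  induction h with
  | nil => exact fun l hl => ⟨l, List.Perm.refl l, hl⟩
  | cons x _ ih =>
    intro l hl
    obtain ⟨b, l0, rfl, rfl, hl0⟩ := List.map_eq_cons_iff.1 hl
    obtain ⟨l', h1, h2⟩ := ih l0 hl0
    exact ⟨b :: l', h1.cons b, by rw [List.map_cons, h2]⟩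
  | swap x y r =>
    intro l hl
    obtain ⟨b, l0, rfl, rfl, hl0⟩ := List.map_eq_cons_iff.1 hl
    obtain ⟨c, l1, rfl, rfl, rfl⟩ := List.map_eq_cons_iff.1 hl0
    exact ⟨c :: b :: l1, List.Perm.swap c b l1, rfl⟩
  | trans _ _ ih1 ih2 =>
    intro l hl
    obtain ⟨l1, h1, h2⟩ := ih1 l hl
    obtain ⟨l2, h3, h4⟩ := ih2 l1 h2
    exact ⟨l2, h1.trans h3, h4⟩

/-- A lower bound for the square of an integer congruent to `d` modulo 5. -/
def lowFive (d : ℕ) : ℕ := if d % 5 = 0 then 0 else if d % 5 = 1 ∨ d % 5 = 4 then 1 else 4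

theorem lowFive_le (d : ℕ) (v : ℤ) (h : (5 : ℤ) ∣ (d : ℤ) - v) : (lowFive d : ℤ) ≤ v ^ 2 := by
  obtain ⟨q, hq⟩ := h
  unfold lowFive
  split_ifs with h0 h1
  · simpa using sq_nonneg v
  · rcases le_or_gt 1 v with h2 | h2
    · push_cast; nlinarith
    · rcases le_or_gt v (-1) with h3 | h3
      · push_cast; nlinarith
      · omega
  · rcases le_or_gt 2 v with h2 | h2
    · push_cast; nlinarith
    · rcases le_or_gt v (-2) with h3 | h3
      · push_cast; nlinarith
      · omega

variable {G : Type u} [Group G] [Fintype G] [IsSimpleGroup G]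

namespace Eleven

variable (K : Eleven G)

theorem x1_ne : K.x1 ≠ Char.principalIrr := fun h => by
  have := K.nodup
  simp [h] at this

theorem mem_ne {χ : Cfsg.IrrCharacter G} (h : χ ∈ K.L) : χ ≠ Char.principalIrr := fun e => by
  have := K.nodup
  subst e
  simp [h] at this

/-- The characters in the list, once its shape is known. -/
theorem exists_four_chars {p q r t : ℤ × ℕ}
    (h : (K.L.map fun χ => (K.w χ, Char.degree χ.1)).Perm [p, q, r, t]) :
    ∃ a b c d : Cfsg.IrrCharacter G, K.L.Perm [a, b, c, d] ∧ (K.w a, Char.degree a.1) = p ∧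
      (K.w b, Char.degree b.1) = q ∧ (K.w c, Char.degree c.1) = r ∧ (K.w d, Char.degree d.1) = t := by
  obtain ⟨l', h1, h2⟩ := exists_perm_of_map_perm _ h K.L rfl
  obtain ⟨a, l1, rfl, ha, h3⟩ := List.map_eq_cons_iff.1 h2
  obtain ⟨b, l2, rfl, hb, h4⟩ := List.map_eq_cons_iff.1 h3
  obtain ⟨c, l3, rfl, hc, h5⟩ := List.map_eq_cons_iff.1 h4
  obtain ⟨d, l4, rfl, hd, h6⟩ := List.map_eq_cons_iff.1 h5
  obtain rfl := List.map_eq_nil_iff.1 h6
  exact ⟨a, b, c, d, h1, ha, hb, hc, hd⟩

theorem mem_four {a b c d : Cfsg.IrrCharacter G} (hp : K.L.Perm [a, b, c, d]) :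
    a ∈ K.L ∧ b ∈ K.L ∧ c ∈ K.L ∧ d ∈ K.L :=
  ⟨hp.symm.subset (by simp), hp.symm.subset (by simp), hp.symm.subset (by simp), hp.symm.subset (by simp)⟩

/-- The two relations at an involution. -/
theorem relations {a b c d : Cfsg.IrrCharacter G} (hp : K.L.Perm [a, b, c, d]) {y : G} (hy : y ≠ 1)
    (hy2 : y ^ 2 = 1) :
    (-1 + ((K.w a : ℂ) * a.1 y + (K.w b : ℂ) * b.1 y + (K.w c : ℂ) * c.1 y + (K.w d : ℂ) * d.1 y) +
      (K.W : ℂ) * K.x1.1 y = 0) ∧
    (-1 + ((K.w a : ℂ) * (a.1 y ^ 2 / (Char.degree a.1 : ℂ)) + (K.w b : ℂ) * (b.1 y ^ 2 / (Char.degree b.1 : ℂ)) +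
      (K.w c : ℂ) * (c.1 y ^ 2 / (Char.degree c.1 : ℂ)) + (K.w d : ℂ) * (d.1 y ^ 2 / (Char.degree d.1 : ℂ))) +
      (K.W : ℂ) * (K.x1.1 y ^ 2 / (K.f0 : ℂ)) = 0) := by
  have ho : ¬ 11 ∣ orderOf y := by
    rw [orderOf_eq_prime hy2 hy]; norm_num
  have h1 := (K.orth y ho).2
  have h2 := K.invol y hy hy2
  rw [(hp.map _).sum_eq] at h1 h2
  simp only [List.map_cons, List.map_nil, List.sum_cons, List.sum_nil] at h1 h2
  exact ⟨by linear_combination h1, by linear_combination h2⟩

theorem cases_ok :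
    K.f0 = 5 ∨ ((∃ χ ∈ K.L, Char.degree χ.1 = 10) ∧
        (K.L.countP fun χ => Nat.beq (Char.degree χ.1) 12) ≤ 1 ∧ K.f0 ≠ 12) ∨
      ∃ s ∈ shapes, K.W = s.1 ∧ K.f0 = s.2.1 ∧
        (K.L.map fun χ => (K.w χ, Char.degree χ.1)).Perm s.2.2 := by
  have h := K.ok
  simp only [okEleven, Bool.or_eq_true, Bool.and_eq_true, Nat.beq_eq, List.any_eq_true, List.mem_map,
    decide_eq_true_eq, Nat.ble_eq, List.countP_map, Bool.not_eq_true'] at h
  rcases h with (h | ⟨⟨⟨x, ⟨χ, hχ, rfl⟩, hd⟩, hc⟩, hf⟩) | ⟨s, hs, ⟨hW, hf⟩, hL⟩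
  · exact Or.inl h
  · refine Or.inr (Or.inl ⟨⟨χ, hχ, hd⟩, hc, fun e => ?_⟩)
    rw [e] at hf
    exact absurd hf (by decide)
  · exact Or.inr (Or.inr ⟨s, hs, hW, hf, hL⟩)

theorem out_cases (χ : Cfsg.IrrCharacter G) (hχ : χ ≠ Char.principalIrr) :
    χ ∈ K.L ∨ Char.degree χ.1 = K.f0 ∨ 11 ∣ Char.degree χ.1 := by
  by_cases h1 : χ ∈ K.L
  · exact Or.inl h1
  by_cases h2 : χ = K.x1
  · exact Or.inr (Or.inl (h2 ▸ K.hx1))
  by_cases h3 : χ = K.x2
  · exact Or.inr (Or.inl (h3 ▸ K.hx2))
  exact Or.inr (Or.inr (K.hout χ hχ h1 h2 h3))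

theorem two_le_countP {χ₁ χ₂ : Cfsg.IrrCharacter G} (hne : χ₁ ≠ χ₂) (h1 : Char.degree χ₁.1 = 12)
    (h2 : Char.degree χ₂.1 = 12) (hf : K.f0 ≠ 12) :
    2 ≤ K.L.countP fun χ => Nat.beq (Char.degree χ.1) 12 := by
  have hmem : ∀ χ : Cfsg.IrrCharacter G, Char.degree χ.1 = 12 →
      χ ∈ K.L.filter fun χ => Nat.beq (Char.degree χ.1) 12 := fun χ hd => by
    refine List.mem_filter.2 ⟨?_, by simp [hd]⟩
    rcases K.out_cases χ (fun e => by rw [e, principal_deg_one] at hd; omega) with h | h | h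
    · exact h
    · omega
    · omega
  rw [List.countP_eq_length_filter]
  exact (List.subperm_of_subset (l₁ := [χ₁, χ₂]) (by simp [hne])
    (fun χ hχ => by
      simp only [List.mem_cons, List.not_mem_nil, or_false] at hχ
      rcases hχ with rfl | rfl
      · exact hmem _ h1
      · exact hmem _ h2)).length_le

theorem countP_shape {l : List (ℤ × ℕ)} (h : (K.L.map fun χ => (K.w χ, Char.degree χ.1)).Perm l) :
    (K.L.countP fun χ => Nat.beq (Char.degree χ.1) 12) = l.countP fun x => Nat.beq x.2 12 := by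
  rw [← h.countP_eq, List.countP_map]
  rfl

/-- An upper bound from the column norm at an element of order 5. -/
theorem norm_five {l : List (ℤ × ℕ)} (h : (K.L.map fun χ => (K.w χ, Char.degree χ.1)).Perm l) {y : G}
    (hy : orderOf y = 5) (hC : Nat.card ↥(centralizer ({y} : Set G)) = 10)
    (hN : Nat.card ↥(normalizer ((zpowers y : Subgroup G) : Set G)) = 40) :
    1 + (lowFive K.f0 + (lowFive K.f0 + (l.map fun x => lowFive x.2).sum)) ≤ 10 := by
  classical
  set l0 := Char.principalIrr :: K.x1 :: K.x2 :: K.L with hl0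
  have hsum := sum_norm_sq_le y l0.toFinset
  rw [hC, List.sum_toFinset _ K.nodup] at hsum
  have hlow : ∀ χ : Cfsg.IrrCharacter G, ((lowFive (Char.degree χ.1) : ℕ) : ℝ) ≤ ‖χ.1 y‖ ^ 2 := fun χ => by
    obtain ⟨v, hv, hv5, -⟩ := exists_value_y χ hy (by rw [hN, hC])
    rw [hv, Complex.norm_intCast, sq_abs]
    exact_mod_cast lowFive_le _ v hv5
  have hle : ((l0.map fun χ => lowFive (Char.degree χ.1)).sum : ℝ) ≤
      (l0.map fun χ => ‖χ.1 y‖ ^ 2).sum := by
    rw [Nat.cast_list_sum, List.map_map]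
    exact List.sum_le_sum fun χ _ => hlow χ
  have e : (l0.map fun χ => lowFive (Char.degree χ.1)).sum =
      1 + (lowFive K.f0 + (lowFive K.f0 + (l.map fun x => lowFive x.2).sum)) := by
    rw [← (h.map fun x => lowFive x.2).sum_eq, List.map_map]
    simp [hl0, principal_deg_one, K.hx1, K.hx2, lowFive, Function.comp_def]
  rw [e] at hle
  exact_mod_cast hle.trans hsum

variable (hG : Nat.card G = 95040)
include hG

/-- The shape with two characters of degree 45 and 54 and two of degree 12 does not occur. -/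
theorem not_twenty_two (hW : K.W = 1) (hf : K.f0 = 16)
    (h : (K.L.map fun χ => (K.w χ, Char.degree χ.1)).Perm [(-1, 12), (-1, 12), (-1, 45), (1, 54)]) : False := by
  obtain ⟨a, b, c, d, hp, ha, hb, hc, hd⟩ := K.exists_four_chars h
  obtain ⟨ma, mb, mc, md⟩ := K.mem_four hp
  simp only [Prod.mk.injEq] at ha hb hc hd
  obtain ⟨y, hy, hy2, hne⟩ := exists_invol_ne_neg_eight hG a ha.2
  obtain ⟨va, ma', -, -, ea⟩ := exists_invVal hG a (K.mem_ne ma) ha.2 hy hy2
  obtain ⟨vb, mb', -, -, eb⟩ := exists_invVal hG b (K.mem_ne mb) hb.2 hy hy2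
  obtain ⟨vc, mc', -, -, ec⟩ := exists_invVal hG c (K.mem_ne mc) hc.2 hy hy2
  obtain ⟨vd, md', -, -, ed⟩ := exists_invVal hG d (K.mem_ne md) hd.2 hy hy2
  obtain ⟨x, -, hx1, hx2, ex⟩ := exists_invVal hG K.x1 K.x1_ne (K.hx1.trans hf) hy hy2
  obtain ⟨h1, h2⟩ := K.relations hp hy hy2
  rw [ha.1, hb.1, hc.1, hd.1, ea, eb, ec, ed, ex, hW] at h1 h2
  rw [ha.2, hb.2, hc.2, hd.2, hf] at h2
  have e1 : x = 1 + va + vb + vc - vd := by
    apply Int.cast_injective (α := ℂ)
    push_cast at h1 ⊢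
    linear_combination h1
  have e2 : -2160 - 180 * (va * va + vb * vb) - 48 * (vc * vc) + 40 * (vd * vd) + 135 * (x * x) = 0 := by
    apply Int.cast_injective (α := ℂ)
    push_cast at h2 ⊢
    linear_combination 2160 * h2
  subst e1
  obtain ⟨r, -⟩ := check_twenty_two va ma' vb mb' vc mc' vd md' (by omega) (by omega) e2
  exact hne (by rw [ea, r]; norm_num)

theorem not_five_shape (hW : K.W = 1) (hf : K.f0 = 27)
    (h : (K.L.map fun χ => (K.w χ, Char.degree χ.1)).Perm [(1, 10), (-1, 12), (-1, 12), (-1, 12)]) : False := by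
  obtain ⟨a, b, c, d, hp, ha, hb, hc, hd⟩ := K.exists_four_chars h
  obtain ⟨ma, mb, mc, md⟩ := K.mem_four hp
  simp only [Prod.mk.injEq] at ha hb hc hd
  obtain ⟨y, hy, hy2, -⟩ := exists_invol_ne_neg_eight hG b hb.2
  obtain ⟨va, ma', -, -, ea⟩ := exists_invVal hG a (K.mem_ne ma) ha.2 hy hy2
  obtain ⟨vb, mb', -, -, eb⟩ := exists_invVal hG b (K.mem_ne mb) hb.2 hy hy2
  obtain ⟨vc, mc', -, -, ec⟩ := exists_invVal hG c (K.mem_ne mc) hc.2 hy hy2
  obtain ⟨vd, md', -, -, ed⟩ := exists_invVal hG d (K.mem_ne md) hd.2 hy hy2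
  obtain ⟨x, -, hx1, hx2, ex⟩ := exists_invVal hG K.x1 K.x1_ne (K.hx1.trans hf) hy hy2
  obtain ⟨h1, h2⟩ := K.relations hp hy hy2
  rw [ha.1, hb.1, hc.1, hd.1, ea, eb, ec, ed, ex, hW] at h1 h2
  rw [ha.2, hb.2, hc.2, hd.2, hf] at h2
  have e1 : x = 1 - va + vb + vc + vd := by
    apply Int.cast_injective (α := ℂ)
    push_cast at h1 ⊢
    linear_combination h1
  have e2 : -540 + 54 * (va * va) - 45 * (vb * vb + vc * vc + vd * vd) + 20 * (x * x) = 0 := by
    apply Int.cast_injective (α := ℂ)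
    push_cast at h2 ⊢
    linear_combination 540 * h2
  subst e1
  exact check_five_shape va ma' vb mb' vc mc' vd md' ⟨by omega, by omega, e2⟩

theorem not_thirteen (hW : K.W = 1) (hf : K.f0 = 16)
    (h : (K.L.map fun χ => (K.w χ, Char.degree χ.1)).Perm [(-1, 45), (-1, 45), (-1, 45), (1, 120)])
    {y s : G} (hy : orderOf y = 5) (hs : orderOf s = 2) (hsy : Commute s y) : False := by
  obtain ⟨a, b, c, d, hp, ha, hb, hc, hd⟩ := K.exists_four_chars h
  obtain ⟨ma, mb, mc, md⟩ := K.mem_four hp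
  simp only [Prod.mk.injEq] at ha hb hc hd
  have hs1 : s ≠ 1 := fun e => by rw [e, orderOf_one] at hs; norm_num at hs
  have hs2 : s ^ 2 = 1 := by rw [← hs]; exact pow_orderOf_eq_one s
  obtain ⟨va, ma', -, -, -, ea⟩ := exists_invValFive hG a (K.mem_ne ma) ha.2 (by norm_num) (by norm_num) hy hs hsy
  obtain ⟨vb, mb', -, -, -, eb⟩ := exists_invValFive hG b (K.mem_ne mb) hb.2 (by norm_num) (by norm_num) hy hs hsy
  obtain ⟨vc, mc', -, -, -, ec⟩ := exists_invValFive hG c (K.mem_ne mc) hc.2 (by norm_num) (by norm_num) hy hs hsy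
  obtain ⟨vd, md', -, -, -, ed⟩ := exists_invValFive hG d (K.mem_ne md) hd.2 (by norm_num) (by norm_num) hy hs hsy
  obtain ⟨x, -, hx1, hx2, ex⟩ := exists_invVal hG K.x1 K.x1_ne (K.hx1.trans hf) hs1 hs2
  obtain ⟨h1, h2⟩ := K.relations hp hs1 hs2
  rw [ha.1, hb.1, hc.1, hd.1, ea, eb, ec, ed, ex, hW] at h1 h2
  rw [ha.2, hb.2, hc.2, hd.2, hf] at h2
  have e1 : x = 1 + va + vb + vc - vd := by
    apply Int.cast_injective (α := ℂ)
    push_cast at h1 ⊢
    linear_combination h1
  have e2 : -720 - 16 * (va * va + vb * vb + vc * vc) + 6 * (vd * vd) + 45 * (x * x) = 0 := by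
    apply Int.cast_injective (α := ℂ)
    push_cast at h2 ⊢
    linear_combination 720 * h2
  subst e1
  exact check_thirteen va ma' vb mb' vc mc' vd md' ⟨by omega, by omega, e2⟩

theorem not_one_sixty (hW : K.W = -1) (hf : K.f0 = 160)
    (h : (K.L.map fun χ => (K.w χ, Char.degree χ.1)).Perm [(1, 32), (-1, 45), (1, 54), (1, 120)])
    {y : G} (hy : orderOf y = 5) (hC : Nat.card ↥(centralizer ({y} : Set G)) = 10)
    (hN : Nat.card ↥(normalizer ((zpowers y : Subgroup G) : Set G)) = 40) : False := by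
  classical
  obtain ⟨a, b, c, d, hp, ha, hb, hc, hd⟩ := K.exists_four_chars h
  obtain ⟨ma, mb, mc, md⟩ := K.mem_four hp
  simp only [Prod.mk.injEq] at ha hb hc hd
  obtain ⟨s, hs, hsy, hfix⟩ := exists_invol_ten hy hC hN
  have hs1 : s ≠ 1 := fun e => by rw [e, orderOf_one] at hs; norm_num at hs
  have hs2 : s ^ 2 = 1 := by rw [← hs]; exact pow_orderOf_eq_one s
  obtain ⟨va, ma', -, -, ea⟩ := exists_invVal hG a (K.mem_ne ma) ha.2 hs1 hs2
  obtain ⟨vb, mb', -, -, -, eb⟩ := exists_invValFive hG b (K.mem_ne mb) hb.2 (by norm_num) (by norm_num) hy hs hsy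
  obtain ⟨vc, mc', -, -, ec⟩ := exists_invVal hG c (K.mem_ne mc) hc.2 hs1 hs2
  obtain ⟨vd, md', -, -, -, ed⟩ := exists_invValFive hG d (K.mem_ne md) hd.2 (by norm_num) (by norm_num) hy hs hsy
  obtain ⟨x, -, hx1, hx2, hx5, ex⟩ := exists_invValFive hG K.x1 K.x1_ne (K.hx1.trans hf) (by norm_num)
    (by norm_num) hy hs hsy
  obtain ⟨h1, h2⟩ := K.relations hp hs1 hs2
  rw [ha.1, hb.1, hc.1, hd.1, ea, eb, ec, ed, ex, hW] at h1 h2
  rw [ha.2, hb.2, hc.2, hd.2, hf] at h2
  have e1 : x = va - vb + vc + vd - 1 := by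
    apply Int.cast_injective (α := ℂ)
    push_cast at h1 ⊢
    linear_combination -h1
  have e2 : -4320 + 135 * (va * va) - 96 * (vb * vb) + 80 * (vc * vc) + 36 * (vd * vd) - 27 * (x * x) = 0 := by
    apply Int.cast_injective (α := ℂ)
    push_cast at h2 ⊢
    linear_combination 4320 * h2
  subst e1
  obtain ⟨ra, rc⟩ := check_one_sixty va ma' vb mb' vc mc' vd md' (by omega) (by omega)
    (Int.emod_eq_zero_of_dvd hx5) e2
  subst ra rc
  obtain ⟨ta, hta, ha10⟩ := exists_value_sum a hy hs hsy hfix ea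
  obtain ⟨tc, htc, hc10⟩ := exists_value_sum c hy hs hsy hfix ec
  rw [ha.2] at ha10
  rw [hc.2] at hc10
  have ho : orderOf (s * y) = 10 := by
    rw [hsy.orderOf_mul_eq_mul_orderOf_of_coprime (by rw [hs, hy]; norm_num), hs, hy]
  have hnc : ¬ IsConj y (s * y) := fun e => by
    obtain ⟨g, hg⟩ := isConj_iff.1 e
    rw [← hg, show g * y * g⁻¹ = MulAut.conj g y from rfl, MulEquiv.orderOf_eq, hy] at ho
    norm_num at ho
  have hCsy : Nat.card ↥(centralizer ({s * y} : Set G)) ≤ 10 := by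
    rw [← hC]
    refine Nat.le_of_dvd Nat.card_pos (Subgroup.card_dvd_of_le fun g hg => ?_)
    refine mem_centralizer_singleton_iff.2 ?_
    have h6 : (s * y) ^ 6 = y := by
      rw [hsy.mul_pow, show s ^ 6 = 1 by rw [show 6 = 2 * 3 from rfl, pow_mul, hs2, one_pow], one_mul,
        show 6 = 5 + 1 from rfl, pow_succ, show y ^ 5 = 1 by rw [← hy]; exact pow_orderOf_eq_one y, one_mul]
    have := (show Commute g (s * y) from mem_centralizer_singleton_iff.1 hg).pow_right 6
    rwa [h6] at this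
  have hne : a ≠ c := fun e => by rw [e, hc.2] at ha; exact absurd ha.2 (by norm_num)
  have hsum := sum_norm_add_sq_le hnc {Char.principalIrr, a, c}
  rw [Finset.sum_insert (by simp [(K.mem_ne ma).symm, (K.mem_ne mc).symm]), Finset.sum_pair hne, hta, htc, hC,
    Char.principalIrr_apply, Char.principalIrr_apply, Complex.norm_intCast, Complex.norm_intCast,
    sq_abs, sq_abs] at hsum
  have h4 : (4 : ℤ) + (2 * ta) ^ 2 + (2 * tc) ^ 2 ≤ 20 := by
    have hR : ((Nat.card ↥(centralizer ({s * y} : Set G)) : ℕ) : ℝ) ≤ 10 := by exact_mod_cast hCsy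
    have : ((4 : ℝ) + ((2 * ta : ℤ) : ℝ) ^ 2 + ((2 * tc : ℤ) : ℝ) ^ 2) ≤ ((20 : ℤ) : ℝ) := by
      norm_num [-Nat.card_eq_fintype_card] at hsum ⊢
      linarith
    exact_mod_cast this
  have ba : (2 * ta) ^ 2 ≥ 16 := by
    have : 2 * ta ≤ -4 ∨ 4 ≤ 2 * ta := by omega
    rcases this with h' | h' <;> nlinarith
  have bc : (2 * tc) ^ 2 ≥ 4 := by
    have : 2 * tc ≤ -2 ∨ 2 ≤ 2 * tc := by omega
    rcases this with h' | h' <;> nlinarith
  omega

/-- A character of degree 54 or 27 forbids elements of order 3 centralising an element of order 5. -/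
theorem not_twentyseven_degree (χ : Cfsg.IrrCharacter G) {d : ℕ} (hd : Char.degree χ.1 = d)
    (hd' : d = 54 ∨ d = 27) {y u : G} (hy : orderOf y = 5)
    (hN : Nat.card ↥(normalizer ((zpowers y : Subgroup G) : Set G)) =
      4 * Nat.card ↥(centralizer ({y} : Set G)))
    (hu : orderOf u = 3) (huy : Commute u y) : False := by
  obtain ⟨v, -, hv5, hS⟩ := exists_value_y χ hy hN
  obtain ⟨q, hq⟩ := exists_S4_three hG χ hd (by rcases hd' with rfl | rfl <;> norm_num)
    (by rcases hd' with rfl | rfl <;> norm_num) hy hu huy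
  obtain ⟨a, ha, hya⟩ := exists_eleven_normalized hG hy
  obtain ⟨m, n, hnm, hsq, h5n⟩ := rel55 χ ha hy hya (eleven_data hG ha).1 (eleven_data hG ha).2
  rw [hd] at hsq hv5
  rw [hS] at hq h5n
  have e1 : (d : ℤ) + 4 * v = 15 * q := by
    apply Int.cast_injective (α := ℂ)
    push_cast
    linear_combination hq
  have e2 : 5 * (n : ℤ) = m + 4 * v := by
    apply Int.cast_injective (α := ℂ)
    push_cast
    linear_combination h5n
  have b1 : 11 * (m : ℤ) - d < 34 := by
    by_contra hh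
    push Not at hh
    nlinarith
  have b2 : -34 < 11 * (m : ℤ) - d := by
    by_contra hh
    push Not at hh
    nlinarith
  rcases hd' with rfl | rfl <;> omega

/-- The centraliser of an element of order 5 has order 10 and the block has the shape of M12. -/
theorem five_data {y : G} (hy : orderOf y = 5) :
    (K.W = 1 ∧ K.f0 = 16) ∧
      (K.L.map fun χ => (K.w χ, Char.degree χ.1)).Perm [(-1, 45), (1, 54), (1, 120), (-1, 144)] ∧
      Nat.card ↥(centralizer ({y} : Set G)) = 10 ∧
      Nat.card ↥(normalizer ((zpowers y : Subgroup G) : Set G)) = 40 := by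
  classical
  obtain ⟨c, e, hce, hC, hN⟩ := five_options hG hy
  have h27 := not_twentyseven_dvd hG (fun a ha => (eleven_data hG ha).1) hy
  have hexists : ∀ p : ℕ, p.Prime → p ∣ c → ∃ u : G, orderOf u = p ∧ Commute u y := by
    intro p hp hpc
    haveI := Fact.mk hp
    obtain ⟨⟨u, hu⟩, huo⟩ := exists_prime_orderOf_dvd_card' (G := centralizer ({y} : Set G)) p
      (by rw [hC]; exact hpc.trans (dvd_mul_left c 5))
    rw [Subgroup.orderOf_mk] at huo
    exact ⟨u, huo, mem_centralizer_singleton_iff.1 hu⟩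
  -- consequences of an involution centralising `y`
  have heven : ∀ s : G, orderOf s = 2 → Commute s y → K.f0 ≠ 5 ∧ ∀ χ ∈ K.L, Char.degree χ.1 ≠ 10 := by
    intro s hs hsy
    refine ⟨fun h5 => ?_, fun χ hχ h10 => ?_⟩
    · obtain ⟨a, ha, -⟩ := exists_invValFive hG K.x1 K.x1_ne (K.hx1.trans h5) (by norm_num) (by norm_num) hy hs hsy
      exact absurd ha (by
        have : invValsFive 5 = [] := by decide
        simp [this])
    · obtain ⟨a, ha, -⟩ := exists_invValFive hG χ (K.mem_ne hχ) h10 (by norm_num) (by norm_num) hy hs hsy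
      exact absurd ha (by
        have : invValsFive 10 = [] := by decide
        simp [this])
  -- two characters of degree 12 when `y` is not conjugate to all its powers
  have htwo : e = 2 → K.f0 ≠ 12 → 2 ≤ K.L.countP fun χ => Nat.beq (Char.degree χ.1) 12 := by
    intro he hf
    subst he
    haveI : Fact (Nat.Prime 5) := ⟨by norm_num⟩
    obtain ⟨T, hT⟩ := SmallOrder.exists_sylow_eq (m := 19008) (p := 5) (G := G) (by rw [hG]) (by norm_num)
      (S := zpowers y) (by rw [Nat.card_zpowers, hy])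
    obtain ⟨χ₁, χ₂, hne, h1, h2⟩ := exists_two_twelve hG T c (by
      simp only [List.mem_cons, List.not_mem_nil, or_false, Prod.mk.injEq] at hce ⊢
      omega) (by rw [hT, centralizer_zp]; exact hC) (by rw [hT]; exact hN)
    exact K.two_le_countP hne h1 h2 hf
  rcases K.cases_ok with h5 | ⟨⟨χ, hχ, h10⟩, hcount, hf⟩ | ⟨sh, hsh, hW, hf, hL⟩
  · exfalso
    simp only [List.mem_cons, List.not_mem_nil, or_false, Prod.mk.injEq] at hce
    by_cases h2 : 2 ∣ c
    · obtain ⟨s, hs, hsy⟩ := hexists 2 (by norm_num) h2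
      exact (heven s hs hsy).1 h5
    · obtain ⟨u, hu, huy⟩ := hexists 3 (by norm_num) (by omega)
      exact no_five_three hG K.x1 K.x1_ne (K.hx1.trans h5) hy hu huy
  · exfalso
    simp only [List.mem_cons, List.not_mem_nil, or_false, Prod.mk.injEq] at hce
    by_cases h2 : 2 ∣ c
    · obtain ⟨s, hs, hsy⟩ := hexists 2 (by norm_num) h2
      exact (heven s hs hsy).2 χ hχ h10
    · have := htwo (by omega) hf
      omega
  · -- the shapes
    have hcount := K.countP_shape hL
    -- shapes with at most one character of degree 12 have `e = 4`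
    have he4 : (sh.2.2.countP fun x => Nat.beq x.2 12) ≤ 1 → K.f0 ≠ 12 → e = 4 ∧ (c = 2 ∨ 3 ∣ c) ∧ 2 ∣ c := by
      intro h1 h2
      simp only [List.mem_cons, List.not_mem_nil, or_false, Prod.mk.injEq] at hce
      have he : e = 4 := by
        by_contra hh
        have := htwo (by omega) h2
        omega
      refine ⟨he, by omega, ?_⟩
      rcases hce with h | h | h | h | h | h | h | h | h <;> obtain ⟨rfl, rfl⟩ := h <;>
        first
        | (norm_num; done)
        | omega
        | exact absurd (by rw [hC]; norm_num) h27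
    have h54 : ∀ d : ℕ, (d = 54 ∨ d = 27) → (d = K.f0 ∨ ∃ x ∈ sh.2.2, x.2 = d) → e = 4 → c = 2 ∨ 3 ∣ c →
        c = 2 := by
      intro d hd hmem he hc23
      rcases hc23 with h | h
      · exact h
      exfalso
      obtain ⟨u, hu, huy⟩ := hexists 3 (by norm_num) h
      have hN' : Nat.card ↥(normalizer ((zpowers y : Subgroup G) : Set G)) =
          4 * Nat.card ↥(centralizer ({y} : Set G)) := by rw [hN, hC, he]; ring
      rcases hmem with hm | ⟨x, hx, hxd⟩
      · exact not_twentyseven_degree hG K.x1 (K.hx1.trans hm.symm) hd hy hN' hu huy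
      · obtain ⟨χ, -, rfl⟩ := List.mem_map.1 (hL.symm.subset hx)
        exact not_twentyseven_degree hG χ hxd hd hy hN' hu huy
    have hnorm : e = 4 → c = 2 → 1 + (lowFive K.f0 + (lowFive K.f0 + (sh.2.2.map fun x => lowFive x.2).sum)) ≤ 10 :=
      fun he hc => K.norm_five hL hy (by rw [hC, hc]) (by rw [hN, hc, he])
    have hten : 2 ∣ c → ∀ x ∈ sh.2.2, x.2 ≠ 10 := by
      intro h2 x hx hxd
      obtain ⟨s, hs, hsy⟩ := hexists 2 (by norm_num) h2
      obtain ⟨χ, hχ, rfl⟩ := List.mem_map.1 (hL.symm.subset hx)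
      exact (heven s hs hsy).2 χ hχ hxd
    simp only [shapes, List.mem_cons, List.not_mem_nil, or_false] at hsh
    rcases hsh with rfl | rfl | rfl | rfl | rfl | rfl | rfl | rfl | rfl | rfl
    · -- 72
      exfalso
      obtain ⟨he, hc23, -⟩ := he4 (by decide) (by rw [hf]; decide)
      have := hnorm he (h54 54 (Or.inl rfl) (Or.inr ⟨(1, 54), by simp, rfl⟩) he hc23)
      rw [hf] at this
      exact absurd this (by decide)
    · -- 160
      exfalso
      obtain ⟨he, hc23, -⟩ := he4 (by decide) (by rw [hf]; decide)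
      have hc := h54 54 (Or.inl rfl) (Or.inr ⟨(1, 54), by simp, rfl⟩) he hc23
      exact not_one_sixty K hG hW hf hL hy (by rw [hC, hc]) (by rw [hN, hc, he])
    · -- the shape of M12
      obtain ⟨he, hc23, -⟩ := he4 (by decide) (by rw [hf]; decide)
      have hc := h54 54 (Or.inl rfl) (Or.inr ⟨(1, 54), by simp, rfl⟩) he hc23
      exact ⟨⟨hW, hf⟩, hL, by rw [hC, hc], by rw [hN, hc, he]⟩
    · -- three of degree 45
      exfalso
      obtain ⟨-, -, h2⟩ := he4 (by decide) (by rw [hf]; decide)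
      obtain ⟨s, hs, hsy⟩ := hexists 2 (by norm_num) h2
      exact not_thirteen K hG hW hf hL hy hs hsy
    · -- 27 with 144
      exfalso
      obtain ⟨he, hc23, -⟩ := he4 (by decide) (by rw [hf]; decide)
      have := hnorm he (h54 27 (Or.inr rfl) (Or.inl hf.symm) he hc23)
      rw [hf] at this
      exact absurd this (by decide)
    · -- 27 with 45, 45
      exfalso
      obtain ⟨he, hc23, -⟩ := he4 (by decide) (by rw [hf]; decide)
      have := hnorm he (h54 27 (Or.inr rfl) (Or.inl hf.symm) he hc23)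
      rw [hf] at this
      exact absurd this (by decide)
    · -- two of degree 12
      exact (not_twenty_two K hG hW hf hL).elim
    · -- 60
      exfalso
      by_cases h2 : 2 ∣ c
      · exact hten h2 (1, 10) (by simp) rfl
      · simp only [List.mem_cons, List.not_mem_nil, or_false, Prod.mk.injEq] at hce
        have hc9 : c = 9 := by
          rcases hce with h | h | h | h | h | h | h | h | h <;> obtain ⟨rfl, -⟩ := h <;>
            first
            | rfl
            | omega
            | exact absurd (by rw [hC]; norm_num) h27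
        obtain ⟨a, b, c', d, hp, ha, hb, hc', hd⟩ := K.exists_four_chars hL
        simp only [Prod.mk.injEq] at ha hb hc' hd
        refine no_ten_nine hG a ha.2 (fun ψ hψ => ?_) hy (by rw [hC, hc9])
        rcases K.out_cases ψ (fun e' => by rw [e', principal_deg_one] at hψ; omega) with h | h | h
        · have := hp.subset h
          simp only [List.mem_cons, List.not_mem_nil, or_false] at this
          rcases this with rfl | rfl | rfl | rfl
          · rfl
          all_goals omega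
        · have hf60 : K.f0 = 60 := hf
          omega
        · omega
    · -- 27 with 10
      exact (not_five_shape K hG hW hf hL).elim
    · -- 6
      exfalso
      obtain ⟨a, b, c', d, hp, ha, hb, hc', hd⟩ := K.exists_four_chars hL
      simp only [Prod.mk.injEq] at ha hb hc' hd
      refine no_six hG K.x1 (K.hx1.trans hf) fun ψ hψ h15 => ?_
      rcases K.out_cases ψ hψ with h | h | h
      · have := hp.subset h
        simp only [List.mem_cons, List.not_mem_nil, or_false] at this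
        rcases this with rfl | rfl | rfl | rfl <;> omega
      · exact Or.inl (h.trans hf)
      · have := Char.IsIrrCharacter.degree_pos ψ.2
        omega

end Eleven

/-- The census of a simple group of order 95040. -/
theorem exists_census (hG : Nat.card G = 95040) :
    ∃ K : Eleven G, (K.W = 1 ∧ K.f0 = 16) ∧
      (K.L.map fun χ => (K.w χ, Char.degree χ.1)).Perm [(-1, 45), (1, 54), (1, 120), (-1, 144)] ∧
      ∀ y : G, orderOf y = 5 → Nat.card ↥(centralizer ({y} : Set G)) = 10 ∧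
        Nat.card ↥(normalizer ((zpowers y : Subgroup G) : Set G)) = 40 := by
  obtain ⟨K⟩ := exists_eleven hG (fun P S => sylow_eleven_split hG P S)
  haveI : Fact (Nat.Prime 5) := ⟨by norm_num⟩
  obtain ⟨y, hy⟩ := exists_prime_orderOf_dvd_card' (G := G) 5 (by rw [hG]; norm_num)
  exact ⟨K, (K.five_data hG hy).1, (K.five_data hG hy).2.1, fun z hz => (K.five_data hG hz).2.2⟩

end CfsgLib.M12Order
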