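import Cfsg.Agent.Lib.M12Order.ClassAct
import Cfsg.Agent.Lib.M12Counts.Amalgam
import Cfsg.Agent.Lib.Golay.Mathieu
import Mathlib.GroupTheory.Nilpotent

/-!
A simple group of order 95040 with the census of M12 is M12.
-/

set_option autoImplicit false
set_option maxRecDepth 100000
set_option linter.style.haveILetI false

namespace CfsgLib.M12Order

open Subgroup MulAction CfsgLib.M12Counts
open scoped Pointwise

variable {G : Type*} [Group G]

/-- The four group on two commuting involutions. -/
def fourGroup (s d : G) (hs : s * s = 1) (hd : d * d = 1) (hc : Commute s d) : Subgroup G where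
  carrier := {v | v = 1 ∨ v = s ∨ v = d ∨ v = s * d}
  one_mem' := Or.inl rfl
  mul_mem' := by
    have k1 : s * (s * d) = d := by rw [← mul_assoc, hs, one_mul]
    have k2 : s * d * d = s := by rw [mul_assoc, hd, mul_one]
    have k3 : d * (s * d) = s := by rw [← mul_assoc, ← hc.eq, k2]
    have k4 : s * d * s = d := by rw [hc.eq, mul_assoc, hs, mul_one]
    have k5 : s * d * (s * d) = 1 := by rw [mul_assoc, k3, hs]
    rintro v w (h | h | h | h) <;> subst h <;> rintro (h | h | h | h) <;> subst h <;>
      simp [hs, hd, k1, k2, k3, k4, k5, ← hc.eq]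
  inv_mem' := by
    rintro v (h | h | h | h) <;> subst h
    · exact Or.inl inv_one
    · exact Or.inr (Or.inl (inv_eq_of_mul_eq_one_right hs))
    · exact Or.inr (Or.inr (Or.inl (inv_eq_of_mul_eq_one_right hd)))
    · refine Or.inr (Or.inr (Or.inr (inv_eq_of_mul_eq_one_right ?_)))
      calc s * d * (s * d) = s * (d * s) * d := by group
        _ = s * (s * d) * d := by rw [hc.eq]
        _ = (s * s) * (d * d) := by group
        _ = 1 := by rw [hs, hd, one_mul]

variable [Finite G]

/-- No element of order 4 commutes with the element of order 3. -/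
theorem no_four [IsSimpleGroup G] (hna : ¬ IsMulCommutative G) (F : Frame G)
    (h396 : Nat.card {t : G // IsConj F.s t} = 396) (hse : IsConj F.s (F.s * F.f pe))
    (hne : ¬ IsConj F.s (F.f pe))
    (hinv : ∀ t : G, orderOf t = 2 → IsConj F.s t ∨ IsConj (F.f pe) t)
    (a : G) (ha : Commute a (F.f pu)) : orderOf a ≠ 4 := by
  classical
  intro ha4
  haveI : Fact (Nat.Prime 2) := ⟨Nat.prime_two⟩
  set s := F.s with hsdef
  set d := F.f pd with hddef
  set u := F.f pu with hudef
  have hs : s * s = 1 := F.s_sq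
  have hd : d * d = 1 := by rw [hddef, ← map_mul, show pd * pd = 1 by decide, map_one]
  have hc : Commute s d := F.comm pd
  have hsu : Commute s u := F.comm pu
  have hdu : Commute d u := by
    show F.f pd * F.f pu = F.f pu * F.f pd
    rw [← map_mul, ← map_mul, show pd * pu = pu * pd by decide]
  have hu3 : u ^ 3 = 1 := by rw [hudef, ← map_pow, show pu ^ 3 = 1 by decide, map_one]
  -- squares of elements of order 4 are conjugate to `e`
  have hsq : ∀ b : G, orderOf b = 4 → IsConj (F.f pe) (b * b) := by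
    intro b hb
    have h2 : orderOf (b * b) = 2 := by
      rw [← pow_two, orderOf_pow_of_dvd two_ne_zero (hb ▸ by norm_num), hb]
    refine (hinv _ h2).resolve_left fun hcj => ?_
    obtain ⟨g, hg⟩ := isConj_iff.1 hcj.symm
    set c := g * b * g⁻¹ with hcdef
    have hcc : c * c = s := by rw [hcdef, ← hg]; group
    obtain ⟨p, hp | hp⟩ := F.cent c (show c * s = s * c by rw [← hcc]; exact (mul_assoc c c c).symm)
    · exact F.ne_s (p * p) (by rw [map_mul, ← hp]; exact hcc)
    · refine F.ne_s (p * p) ?_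
      show F.f (p * p) = s
      rw [map_mul, ← hcc, hp]
      symm
      calc s * F.f p * (s * F.f p) = s * (F.f p * s) * F.f p := by group
        _ = s * (s * F.f p) * F.f p := by rw [F.comm]
        _ = (s * s) * (F.f p * F.f p) := by group
        _ = _ := by rw [hs, one_mul]
  -- 2-elements centralising `s` and `u`
  have htwo : ∀ q : G, Commute q u → Commute q s → (∃ k : ℕ, q ^ 2 ^ k = 1) →
      q ∈ fourGroup s d hs hd hc := by
    intro q hqu hqs ⟨k, hk⟩
    have hpu : ∀ p : Equiv.Perm (Fin 5), p * pu = pu * p →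
        ∃ i : Fin 3, p = pu ^ (i : ℕ) ∨ p = pd * pu ^ (i : ℕ) := by decide
    obtain ⟨v, i, hv, hqv⟩ : ∃ (v : G) (i : ℕ), v ∈ fourGroup s d hs hd hc ∧ q = v * u ^ i := by
      obtain ⟨p, hp | hp⟩ := F.cent q hqs
      · obtain ⟨i, hi | hi⟩ := hpu p (F.inj (by rw [map_mul, map_mul, ← hp]; exact hqu))
        · exact ⟨1, i, one_mem _, by rw [hp, hi, map_pow, one_mul]⟩
        · exact ⟨d, i, Or.inr (Or.inr (Or.inl rfl)), by rw [hp, hi, map_mul, map_pow]⟩
      · have hp' : F.f p = s * q := by rw [hp, ← mul_assoc, F.s_sq, one_mul]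
        have hu' : Commute (s * q) u := Commute.mul_left hsu hqu
        obtain ⟨i, hi | hi⟩ := hpu p (F.inj (by rw [map_mul, map_mul, hp']; exact hu'))
        · exact ⟨s, i, Or.inr (Or.inl rfl), by rw [hp, hi, map_pow]⟩
        · exact ⟨s * d, i, Or.inr (Or.inr (Or.inr rfl)), by
            rw [hp, hi, map_mul, map_pow, mul_assoc]⟩
    have hvu : Commute v (u ^ i) := by
      refine Commute.pow_right ?_ i
      rcases hv with h | h | h | h <;> subst h
      · exact Commute.one_left u
      · exact hsu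
      · exact hdu
      · exact hsu.mul_left hdu
    have hv2 : v ^ 2 = 1 := by
      rw [pow_two]
      rcases hv with h | h | h | h <;> subst h
      · exact one_mul 1
      · exact hs
      · exact hd
      · calc s * d * (s * d) = s * (d * s) * d := by group
          _ = s * (s * d) * d := by rw [hc.eq]
          _ = (s * s) * (d * d) := by group
          _ = 1 := by rw [hs, hd, one_mul]
    have h1 : (u ^ i) ^ (2 ^ (k + 1)) = 1 := by
      have h := hvu.mul_pow (2 ^ (k + 1))
      rw [← hqv, pow_succ, pow_mul, hk, one_pow, ← pow_succ] at h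
      have hv' : v ^ 2 ^ (k + 1) = 1 := by rw [pow_succ', pow_mul, hv2, one_pow]
      rw [hv', one_mul] at h
      exact h.symm
    have h3 : (u ^ i) ^ 3 = 1 := by rw [← pow_mul, mul_comm, pow_mul, hu3, one_pow]
    have hcop : Nat.Coprime (2 ^ (k + 1)) 3 := Nat.Coprime.pow_left _ (by norm_num)
    have : u ^ i = 1 := orderOf_eq_one_iff.1 (Nat.eq_one_of_dvd_coprimes hcop
      (orderOf_dvd_of_pow_eq_one h1) (orderOf_dvd_of_pow_eq_one h3))
    rw [hqv, this, mul_one]
    exact hv
  set X := centralizer ({u} : Set G) with hXdef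
  set V := fourGroup s d hs hd hc with hVdef
  have hVsq : ∀ v ∈ V, v * v = 1 := by
    intro v hv
    rcases hv with h | h | h | h <;> subst h
    · exact one_mul 1
    · exact hs
    · exact hd
    · calc s * d * (s * d) = s * (d * s) * d := by group
        _ = s * (s * d) * d := by rw [hc.eq]
        _ = (s * s) * (d * d) := by group
        _ = 1 := by rw [hs, hd, one_mul]
  have hVX : IsPGroup 2 ↥(V.subgroupOf X) := fun v => ⟨1, Subtype.ext (Subtype.ext (by
    rw [pow_one, pow_two]
    exact hVsq _ v.2))⟩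
  obtain ⟨P, hP⟩ := hVX.exists_le_sylow
  by_cases hPV : (P : Subgroup X) ≤ V.subgroupOf X
  · -- exponent two
    have haX : a ∈ X := mem_centralizer_singleton_iff.2 ha
    obtain ⟨Q, hQ⟩ := (IsPGroup.of_card (n := 2) (by
      rw [Nat.card_zpowers, Subgroup.orderOf_mk, ha4]; norm_num) :
      IsPGroup 2 ↥(zpowers (⟨a, haX⟩ : X))).exists_le_sylow
    obtain ⟨g, hg⟩ := MulAction.exists_smul_eq ↥X Q P
    have hmem : g * ⟨a, haX⟩ * g⁻¹ ∈ (P : Subgroup X) := by
      rw [← hg, Sylow.coe_subgroup_smul]
      exact ⟨⟨a, haX⟩, hQ (mem_zpowers _), rfl⟩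
    have h := hVsq _ (mem_subgroupOf.1 (hPV hmem))
    rw [Subgroup.coe_mul, Subgroup.coe_mul, Subgroup.coe_inv, conj_mul, conj_eq_one_iff,
      ← pow_two] at h
    have := orderOf_dvd_of_pow_eq_one h
    rw [ha4] at this
    norm_num at this
  -- an element normalising the four group, outside it
  let R : Subgroup ↥(P : Subgroup X) := (V.subgroupOf X).subgroupOf (P : Subgroup X)
  have hR : R < ⊤ := lt_top_iff_ne_top.2 fun h => hPV (subgroupOf_eq_top.1 h)
  haveI : Group.IsNilpotent ↥(P : Subgroup X) := P.isPGroup'.isNilpotent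
  obtain ⟨q', hqN, hqR⟩ := SetLike.exists_of_lt (Group.normalizerCondition_of_isNilpotent R hR)
  set q : G := ((q' : X) : G) with hqdef
  have hqu : Commute q u := mem_centralizer_singleton_iff.1 (q' : X).2
  have hqV : q ∉ V := hqR
  obtain ⟨k, hk⟩ := P.isPGroup' q'
  have hqk : q ^ 2 ^ k = 1 := congrArg (fun z : ↥(P : Subgroup X) => ((z : X) : G)) hk
  have hnorm : ∀ v ∈ V, q * v * q⁻¹ ∈ V := by
    intro v hv
    have hvX : v ∈ X := mem_centralizer_singleton_iff.2 (by
      rcases hv with h | h | h | h <;> subst h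
      · exact (Commute.one_left u).eq
      · exact hsu.eq
      · exact hdu.eq
      · exact (hsu.mul_left hdu).eq)
    exact (mem_normalizer_iff.1 hqN (⟨⟨v, hvX⟩, hP (mem_subgroupOf.2 hv)⟩ : ↥(P : Subgroup X))).1
      (mem_subgroupOf.2 (mem_subgroupOf.2 hv))
  have hfixs : ∀ m : ℕ, q ^ m * s = s * q ^ m → q ^ m ∈ V := fun m hm =>
    htwo _ (hqu.pow_left m) hm ⟨k, by rw [← pow_mul, mul_comm, pow_mul, hqk, one_pow]⟩
  set w := q * s * q⁻¹ with hwdef
  have hw1 : w ≠ 1 := fun h => F.s_ne (conj_eq_one_iff.1 h)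
  have hws : w ≠ s := fun h => hqV (by
    have := hfixs 1 (by rw [pow_one]; exact mul_inv_eq_iff_eq_mul.1 h)
    rwa [pow_one] at this)
  have hwd : w = d ∨ w = s * d := by
    rcases hnorm s (Or.inr (Or.inl rfl)) with h | h | h | h
    · exact absurd h hw1
    · exact absurd h hws
    · exact Or.inl h
    · exact Or.inr h
  have hwV : w ∈ V := hnorm s (Or.inr (Or.inl rfl))
  -- `q` moves `w` back to `s`
  have hqw : q * w * q⁻¹ = s := by
    have h1 : q * w * q⁻¹ ≠ 1 := fun h => hw1 (conj_eq_one_iff.1 h)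
    have h2 : q * w * q⁻¹ ≠ w := fun h => hws (by
      apply mul_left_cancel (a := q)
      apply mul_right_cancel (b := q⁻¹)
      rw [h, hwdef])
    have hV4 : ∀ v ∈ V, v ≠ 1 → v ≠ w → v = s ∨ v = s * w := by
      intro v hv hv1 hvw
      rcases hwd with hw | hw <;> rw [hw] at hvw ⊢ <;> rcases hv with h | h | h | h <;>
        subst h
      all_goals first
        | exact absurd rfl hv1
        | exact absurd rfl hvw
        | exact Or.inl rfl
        | exact Or.inr rfl
        | exact Or.inr (by rw [← mul_assoc, hs, one_mul])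
    refine (hV4 _ (hnorm w hwV) h1 h2).resolve_right fun h => ?_
    have hcyc : q ^ 3 * s = s * q ^ 3 := by
      refine mul_inv_eq_iff_eq_mul.1 ?_
      calc q ^ 3 * s * (q ^ 3)⁻¹ = q * (q * (q * s * q⁻¹) * q⁻¹) * q⁻¹ := by
            rw [show q ^ 3 = q * q * q by rw [pow_succ, pow_two]]
            group
        _ = q * (s * w) * q⁻¹ := by rw [← hwdef, h]
        _ = (q * s * q⁻¹) * (q * w * q⁻¹) := by group
        _ = w * (s * w) := by rw [← hwdef, h]
        _ = s := by
          have hwc : w * s = s * w := by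
            rcases hwd with hw | hw <;> rw [hw]
            · exact hc.symm.eq
            · exact ((Commute.refl s).mul_left hc.symm).eq
          rw [← mul_assoc, hwc, mul_assoc, hVsq w hwV, mul_one]
    have hq6 : q ^ (3 * 2) = 1 := by
      rw [pow_mul, pow_two]
      exact hVsq _ (hfixs 3 hcyc)
    have hd' : orderOf q ∣ Nat.gcd (2 ^ k) (3 * 2) :=
      Nat.dvd_gcd (orderOf_dvd_of_pow_eq_one hqk) (orderOf_dvd_of_pow_eq_one hq6)
    rw [Nat.Coprime.gcd_mul_left_cancel_right 2 (Nat.Coprime.pow_right k (by norm_num))] at hd'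
    have hq2 : q * q = 1 := by
      rw [← pow_two]
      exact orderOf_dvd_iff_pow_eq_one.1 (hd'.trans (Nat.gcd_dvd_right _ _))
    have hs2 : q * w * q⁻¹ = s := by
      rw [hwdef, show q * (q * s * q⁻¹) * q⁻¹ = (q * q) * s * (q * q)⁻¹ by group, hq2]
      group
    rw [hs2, left_eq_mul] at h
    exact hw1 h
  have hq2V : q * q ∈ V := by
    rw [← pow_two]
    refine hfixs 2 (mul_inv_eq_iff_eq_mul.1 ?_)
    calc q ^ 2 * s * (q ^ 2)⁻¹ = q * (q * s * q⁻¹) * q⁻¹ := by rw [pow_two]; group
      _ = s := hqw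
  -- `s * w` is the square of an element of order 4 commuting with `u`
  have hsw1 : s * w ≠ 1 := fun h => hws (mul_left_cancel (h.trans hs.symm))
  have hswe : IsConj (F.f pe) (s * w) := by
    have hwc : w * s = s * w := by
      rcases hwd with hw | hw <;> rw [hw]
      · exact hc.symm.eq
      · exact ((Commute.refl s).mul_left hc.symm).eq
    have hfour : ∀ b : G, b * b = s * w → IsConj (F.f pe) (s * w) := by
      intro b hb
      rw [← hb]
      refine hsq b ?_
      refine orderOf_eq_prime_pow (p := 2) (n := 1) ?_ ?_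
      · rw [pow_one, pow_two, hb]
        exact hsw1
      · rw [show 2 ^ (1 + 1) = 2 * 2 by norm_num, pow_mul, pow_two b, hb, pow_two]
        exact hVsq _ (mul_mem (Or.inr (Or.inl rfl)) hwV)
    have hfixq : q * (q * q) * q⁻¹ = q * q := by group
    rcases hwd with hw | hw <;> rcases hq2V with h | h | h | h
    all_goals first
      | (refine hfour (q * s) ?_
         calc q * s * (q * s) = (q * s * q⁻¹) * (q * q) * s := by group
           _ = s * w := by rw [← hwdef, h, mul_one, hwc])
      | (exfalso; rw [h] at hfixq; exact hws hfixq)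
      | (exfalso
         rw [h, ← hw, hqw] at hfixq
         exact hws hfixq.symm)
      | exact hfour q (by rw [h, hw, ← mul_assoc, hs, one_mul])
      | exact hfour q (by rw [h, hw])
  have hsw : IsConj s w := isConj_iff.2 ⟨q, rfl⟩
  have hnot : ¬ IsConj s (s * w) := fun h => hne (h.trans hswe.symm)
  refine false_of_one_lift hna F h396 hse hne ?_
  rcases hwd with hw | hw
  · rw [hw] at hsw hnot
    exact iff_of_true hsw hnot
  · rw [hw] at hsw
    rw [hw, ← mul_assoc, hs, one_mul] at hnot
    exact iff_of_false hnot (fun h => h hsw)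

/-- A simple group of order 95040 with the census of M12 is M12. -/
theorem nonempty_equiv_of_census [IsSimpleGroup G] (hG : Nat.card G = 95040)
    (h11 : ∀ a : G, orderOf a = 11 → Nat.card ↥(centralizer ({a} : Set G)) = 11)
    (h5 : ∀ y : G, orderOf y = 5 → Nat.card ↥(centralizer ({y} : Set G)) = 10 ∧
      Nat.card ↥(normalizer ((zpowers y : Subgroup G) : Set G)) = 40)
    (hs : ∀ y s : G, orderOf y = 5 → orderOf s = 2 → Commute s y →
      Nat.card ↥(centralizer ({s} : Set G)) = 240)
    (hI : Nat.card {g : G // orderOf g = 2} ≤ 923) : Nonempty (G ≃* ↥Cfsg.Spor.M12) := by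
  have H : Census G := ⟨hG, h11, h5, hs, hI⟩
  have hna : ¬ IsMulCommutative G := SmallOrder.not_comm_of_not_prime (by rw [hG]; norm_num)
  obtain ⟨x, s, P⟩ := H.exists_pair
  obtain ⟨D, hD⟩ := exists_cov_census H P (H.card_centralizer_s P) (H.card_sub_five P)
  subst hD
  obtain ⟨F, hFs, hFe⟩ := D.exists_frame (sq_lift_pd hna D (H.class_s D) (H.not_isConj_se D))
  have hne : ¬ IsConj F.s (F.f pe) := by rw [hFs, hFe]; exact H.not_isConj_se D
  have hse : IsConj F.s (F.s * F.f pe) := by rw [hFs, hFe]; exact D.hse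
  have hinv : ∀ t : G, orderOf t = 2 → IsConj F.s t ∨ IsConj (F.f pe) t := by
    rw [hFs, hFe]; exact H.invol_cases D P
  have h396 : Nat.card {t : G // IsConj F.s t} = 396 := by rw [hFs]; exact H.class_s D
  obtain ⟨f, g, hf, hsf, -, hg3, hgs, hgd, hgu, hge, hx⟩ := exists_amalgam_of_no_four hG F
    (by rw [hFe]; exact H.centralizer_e D P) hse hne hinv (no_four hna F h396 hse hne hinv)
  exact nonempty_equiv_of_amalgam hG F.s g f hf F.s_sq hsf hg3 hgs hgd hgu hge hx

/-- The same for the stabiliser of any dodecad. -/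
theorem nonempty_equiv_stabilizer_of_m12 {H : Type*} [Group H] (h : Nonempty (H ≃* ↥Cfsg.Spor.M12))
    {d : Finset Cfsg.GolayPt} (hd : d ∈ Cfsg.dodecads) :
    Nonempty (H ≃* ↥(MulAction.stabilizer Cfsg.M24 d)) := by
  obtain ⟨e⟩ := h
  obtain ⟨e'⟩ := Golay.nonempty_stab_dodecad hd
  exact ⟨e.trans e'.symm⟩

end CfsgLib.M12Order
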