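import Cfsg.Agent.Lib.Char.Virtual
import Mathlib.RepresentationTheory.Character
import Mathlib.GroupTheory.OrderOfElement

/-!
Averages of characters against linear characters of subgroups are natural numbers.
-/

set_option autoImplicit false
set_option linter.style.haveILetI false

namespace CfsgLib.M12Order

open CfsgLib

universe u

variable {H : Type u} [Group H] [Fintype H]

/-- The twist of a representation by a linear character. -/
noncomputable def twist {n : ℕ} (ρ : Representation ℂ H (Fin n → ℂ)) (l : H →* ℂ) :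
    Representation ℂ H (Fin n → ℂ) where
  toFun h := l h • ρ h
  map_one' := by simp
  map_mul' a b := by
    rw [map_mul, map_mul]
    ext v
    simp [mul_smul, Module.End.mul_apply, smul_comm (l a) (l b)]

theorem exists_average {χ : H → ℂ} (hχ : Cfsg.IsCharacter H χ) (l : H →* ℂ) :
    ∃ m : ℕ, ∑ h : H, l h * χ h = (Fintype.card H : ℂ) * m := by
  classical
  obtain ⟨n, ρ, rfl⟩ := hχ
  haveI : Invertible (Nat.card H : ℂ) := invertibleOfNonzero (Nat.cast_ne_zero.2 Nat.card_pos.ne')
  refine ⟨Module.finrank ℂ (Representation.invariants (twist ρ l)), ?_⟩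
  have h := Representation.card_inv_mul_sum_char_eq_finrank (twist ρ l)
  have e : ∀ g : H, (twist ρ l).character g = l g * ρ.character g := fun g => by
    change LinearMap.trace ℂ _ (l g • ρ g) = _
    rw [map_smul, smul_eq_mul]; rfl
  simp only [e] at h
  rw [← h, Fintype.card_eq_nat_card, mul_inv_cancel_left₀ (Nat.cast_ne_zero.2 Nat.card_pos.ne')]

/-- The average over the powers of an element. -/
theorem exists_sum_pow {G : Type u} [Group G] [Finite G] {χ : G → ℂ} (hχ : Cfsg.IsCharacter G χ) (w : G)
    {ζ : ℂ} (hζ : ζ ^ orderOf w = 1) :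
    ∃ m : ℕ, ∑ k ∈ Finset.range (orderOf w), ζ ^ k * χ (w ^ k) = (orderOf w : ℂ) * m := by
  classical
  haveI := Fintype.ofFinite G
  set n := orderOf w with hn
  haveI : NeZero n := ⟨(orderOf_pos w).ne'⟩
  let f : Multiplicative (ZMod n) →* G :=
    AddMonoidHom.toMultiplicativeLeft (ZMod.lift n ⟨(zmultiplesHom (Additive G)) (Additive.ofMul w), by
      simp only [zmultiplesHom_apply, natCast_zsmul]
      rw [← ofMul_pow, pow_orderOf_eq_one]; rfl⟩)
  have hf : ∀ a : ZMod n, f (Multiplicative.ofAdd a) = w ^ a.val := by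
    intro a
    obtain ⟨k, rfl⟩ := ZMod.natCast_zmod_surjective a
    rw [ZMod.val_natCast, show w ^ (k % n) = w ^ k from pow_mod_orderOf w k]
    change Additive.toMul ((ZMod.lift n _) ((k : ℕ) : ZMod n)) = _
    rw [show ((k : ℕ) : ZMod n) = ((k : ℤ) : ZMod n) from (Int.cast_natCast k).symm, ZMod.lift_coe]
    simp
  let l : Multiplicative (ZMod n) →* ℂ :=
    { toFun := fun a => ζ ^ a.toAdd.val
      map_one' := by simp
      map_mul' := fun a b => by
        rw [toAdd_mul, ZMod.val_add, ← pow_add, ← pow_eq_pow_mod _ hζ] }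
  obtain ⟨m, hm⟩ := exists_average (H := Multiplicative (ZMod n))
    (χ := fun a => χ (f a)) (Char.IsCharacter.comp hχ f) l
  refine ⟨m, ?_⟩
  rw [Fintype.card_multiplicative, ZMod.card] at hm
  rw [← hm, ← Equiv.sum_comp Multiplicative.ofAdd (fun a => l a * χ (f a))]
  refine Finset.sum_bij' (fun k _ => (k : ZMod n)) (fun a _ => a.val) (fun k _ => Finset.mem_univ _)
    (fun a _ => Finset.mem_range.2 a.val_lt) (fun k hk => ZMod.val_natCast_of_lt (Finset.mem_range.1 hk))
    (fun a _ => ZMod.natCast_zmod_val a) fun k hk => ?_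
  rw [hf, ZMod.val_natCast_of_lt (Finset.mem_range.1 hk)]
  change ζ ^ k * χ (w ^ k) = ζ ^ (k : ZMod n).val * χ (w ^ k)
  rw [ZMod.val_natCast_of_lt (Finset.mem_range.1 hk)]

end CfsgLib.M12Order
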