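import Cfsg.Agent.Lib.Sporadic.M11Order.Census
import Cfsg.Agent.Lib.SmallOrder.Options

/-!
A simple group of order 95040: the numerical checks at the prime 11.
-/

set_option autoImplicit false
set_option maxRecDepth 100000

namespace CfsgLib.M12Order

open SmallOrder

/-- The possible shapes of the principal block at 11 with all degrees at least 11, two with a character of
degree 10 and one with exceptional characters of degree 6: weight and degree of the exceptional characters,
the others. -/
def shapes : List (ℤ × ℕ × List (ℤ × ℕ)) :=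
  [(-1, 72, [(1, 32), (1, 32), (-1, 45), (1, 54)]),
   (-1, 160, [(1, 32), (-1, 45), (1, 54), (1, 120)]),
   (1, 16, [(-1, 45), (1, 54), (1, 120), (-1, 144)]),
   (1, 16, [(-1, 45), (-1, 45), (-1, 45), (1, 120)]),
   (1, 27, [(1, 32), (1, 32), (1, 54), (-1, 144)]),
   (1, 27, [(1, 32), (1, 32), (-1, 45), (-1, 45)]),
   (1, 16, [(-1, 12), (-1, 12), (-1, 45), (1, 54)]),
   (1, 60, [(1, 10), (-1, 12), (-1, 12), (-1, 45)]),
   (1, 27, [(1, 10), (-1, 12), (-1, 12), (-1, 12)]),
   (-1, 6, [(-1, 12), (1, 32), (1, 32), (-1, 45)])]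

/-- The test selecting the shapes: an exceptional character of degree 5, or a character of degree 10 with
fewer than two of degree 12, or one of the shapes. -/
def okEleven (W : ℤ) (f : ℕ) (l : List (ℤ × ℕ)) : Bool :=
  Nat.beq f 5 ||
    ((l.any fun x => Nat.beq x.2 10) && Nat.ble (l.countP fun x => Nat.beq x.2 12) 1 && !Nat.beq f 12) ||
    shapes.any fun s => decide (W = s.1) && Nat.beq f s.2.1 && decide (l.Perm s.2.2)

theorem okEleven_perm (W : ℤ) (f : ℕ) (a b : List (ℤ × ℕ)) (h : a.Perm b) :
    okEleven W f a = okEleven W f b := by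
  have e1 : (a.any fun x => Nat.beq x.2 10) = b.any fun x => Nat.beq x.2 10 := by
    rw [Bool.eq_iff_iff, List.any_eq_true, List.any_eq_true]
    exact ⟨fun ⟨x, hx, e⟩ => ⟨x, h.mem_iff.1 hx, e⟩, fun ⟨x, hx, e⟩ => ⟨x, h.mem_iff.2 hx, e⟩⟩
  have e2 : (a.countP fun x => Nat.beq x.2 12) = b.countP fun x => Nat.beq x.2 12 := h.countP_eq _
  simp only [okEleven, e1, e2]
  congr 1
  congr 1
  funext s
  congr 1
  exact decide_eq_decide.2 ⟨fun e => h.symm.trans e, fun e => h.trans e⟩

theorem check_eleven :
    solCheck 95040 11 5 2 308 (fun _ => true) okEleven = true := by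
  decide +kernel

end CfsgLib.M12Order
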