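import Cfsg.Agent.Lib.M12Order.ClassCount
import Cfsg.Agent.Lib.FixityFour.Setup

/-!
The action on the 396 conjugates of `s`: parity excludes the non-split covering and the fusion of
exactly one lift of a transposition.
-/

set_option autoImplicit false
set_option maxRecDepth 100000
set_option linter.style.haveILetI false

namespace CfsgLib.M12Order

open Subgroup MulAction CfsgLib.M12Counts
open scoped Pointwise

variable {G : Type*} [Group G]

/-- Conjugation on the class of `s`. -/
@[reducible] def classAct (s : G) : MulAction G {t : G // IsConj s t} where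
  smul g t := ⟨g * t.1 * g⁻¹, t.2.trans (isConj_iff.2 ⟨g, rfl⟩)⟩
  one_smul t := Subtype.ext (show (1 : G) * t.1 * 1⁻¹ = t.1 by simp)
  mul_smul a b t := Subtype.ext (show a * b * t.1 * (a * b)⁻¹ = a * (b * t.1 * b⁻¹) * a⁻¹ by
    simp [mul_assoc])

theorem mem_fix_classAct {s g : G} {t : {t : G // IsConj s t}} :
    letI := classAct s
    t ∈ fixedBy {t : G // IsConj s t} g ↔ g * t.1 = t.1 * g := by
  letI := classAct s
  rw [MulAction.mem_fixedBy, Subtype.ext_iff]
  exact mul_inv_eq_iff_eq_mul

/-- The involutions and the identity of `Sym 5`. -/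
def sqrtOne : Finset (Equiv.Perm (Fin 5)) := Finset.univ.filter fun p => p * p = 1

theorem card_sqrtOne : sqrtOne.card = 26 := by decide +kernel

theorem involution_types : ∀ p : Equiv.Perm (Fin 5), p * p = 1 →
    p = 1 ∨ ∃ r, r * p * r⁻¹ = pd ∨ r * p * r⁻¹ = pe := by decide +kernel

theorem card_even_sqrtOne : (sqrtOne.filter fun p => Equiv.Perm.sign p = 1).card = 16 := by
  decide +kernel

theorem card_even_commute : ((sqrtOne.filter fun p => Equiv.Perm.sign p = 1).filter
    fun p => p * pd = pd * p).card = 4 := by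
  decide +kernel

variable [Finite G]

/-- An involution of the class fixes `26` classmates, against parity. -/
theorem false_of_one_lift [IsSimpleGroup G] (hna : ¬ IsMulCommutative G) (F : Frame G)
    (h396 : Nat.card {t : G // IsConj F.s t} = 396) (hse : IsConj F.s (F.s * F.f pe))
    (hne : ¬ IsConj F.s (F.f pe))
    (hd : IsConj F.s (F.f pd) ↔ ¬ IsConj F.s (F.s * F.f pd)) : False := by
  classical
  letI := classAct F.s
  have hs2 : orderOf F.s = 2 := orderOf_eq_prime (by rw [pow_two]; exact F.s_sq) F.s_ne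
  have hone : ¬ IsConj F.s 1 := fun h => by
    have := Invol.orderOf_eq_two_of_isConj hs2 h
    rw [orderOf_one] at this
    omega
  have hiff : ∀ p ∈ sqrtOne, (IsConj F.s (F.f p) ↔ ¬ IsConj F.s (F.s * F.f p)) := by
    intro p hp
    have hconj : ∀ r : Equiv.Perm (Fin 5),
        IsConj (F.f p) (F.f (r * p * r⁻¹)) ∧ IsConj (F.s * F.f p) (F.s * F.f (r * p * r⁻¹)) := fun r =>
      ⟨isConj_iff.2 ⟨F.f r, by rw [map_mul, map_mul, map_inv]⟩, isConj_iff.2 ⟨F.f r, by
        rw [map_mul, map_mul, map_inv, show F.f r * (F.s * F.f p) * (F.f r)⁻¹ =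
          (F.f r * F.s) * F.f p * (F.f r)⁻¹ by group, ← F.comm r]
        group⟩⟩
    rcases involution_types p (Finset.mem_filter.1 hp).2 with rfl | ⟨r, hr | hr⟩
    · rw [map_one, mul_one]
      exact iff_of_false hone (fun h => h (IsConj.refl _))
    · obtain ⟨h1, h2⟩ := hconj r
      rw [hr] at h1 h2
      exact ⟨fun h h' => hd.1 (h.trans h1) (h'.trans h2),
        fun h => (hd.2 fun h' => h (h'.trans h2.symm)).trans h1.symm⟩
    · obtain ⟨h1, h2⟩ := hconj r
      rw [hr] at h1 h2
      exact iff_of_false (fun h => hne (h.trans h1)) (fun h => h (hse.trans h2.symm))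
  let ψ : sqrtOne → fixedBy {t : G // IsConj F.s t} F.s := fun p =>
    if h : IsConj F.s (F.f p.1) then ⟨⟨F.f p.1, h⟩, mem_fix_classAct.2 (F.comm p.1)⟩
    else ⟨⟨F.s * F.f p.1, not_not.1 fun h' => h ((hiff p.1 p.2).2 h')⟩, mem_fix_classAct.2 (by
      show F.s * (F.s * F.f p.1) = F.s * F.f p.1 * F.s
      rw [mul_assoc F.s (F.f p.1), F.comm])⟩
  have hψ : ∀ p, (ψ p).1.1 = F.f p.1 ∨ (ψ p).1.1 = F.s * F.f p.1 := by
    intro p
    by_cases h : IsConj F.s (F.f p.1)
    · left; simp only [ψ, dif_pos h]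
    · right; simp only [ψ, dif_neg h]
  have hbij : Function.Bijective ψ := by
    constructor
    · intro p q h
      have e : (ψ p).1.1 = (ψ q).1.1 := by rw [h]
      apply Subtype.ext
      apply F.inj
      rcases hψ p with hp | hp <;> rcases hψ q with hq | hq <;> rw [hp, hq] at e
      · exact e
      · exfalso
        refine F.ne_s (p.1 * q.1⁻¹) ?_
        rw [map_mul, map_inv, e, mul_inv_cancel_right]
      · exfalso
        refine F.ne_s (q.1 * p.1⁻¹) ?_
        rw [map_mul, map_inv, ← e, mul_inv_cancel_right]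
      · exact mul_left_cancel e
    · rintro ⟨⟨t, ht⟩, htc⟩
      have htc' : F.s * t = t * F.s := mem_fix_classAct.1 htc
      have ht2 : t * t = 1 := by
        have := pow_orderOf_eq_one t
        rwa [Invol.orderOf_eq_two_of_isConj hs2 ht, pow_two] at this
      obtain ⟨p, hp | hp⟩ := F.cent t htc'.symm
      · have hpp : p ∈ sqrtOne := Finset.mem_filter.2 ⟨Finset.mem_univ _, F.inj (by
          rw [map_mul, ← hp, ht2, map_one])⟩
        refine ⟨⟨p, hpp⟩, Subtype.ext (Subtype.ext ?_)⟩
        simp only [ψ, dif_pos (hp ▸ ht : IsConj F.s (F.f p))]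
        exact hp.symm
      · have hpp : p ∈ sqrtOne := Finset.mem_filter.2 ⟨Finset.mem_univ _, F.inj (by
          rw [map_mul, map_one, ← ht2, hp]
          calc F.f p * F.f p = (F.s * F.s) * (F.f p * F.f p) := by rw [F.s_sq, one_mul]
            _ = F.s * (F.s * F.f p) * F.f p := by group
            _ = F.s * (F.f p * F.s) * F.f p := by rw [F.comm]
            _ = _ := by group)⟩
        refine ⟨⟨p, hpp⟩, Subtype.ext (Subtype.ext ?_)⟩
        have hn : ¬ IsConj F.s (F.f p) := fun h => (hiff p hpp).1 h (hp ▸ ht)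
        simp only [ψ, dif_neg hn]
        exact hp.symm
  have h26 : (fixedBy {t : G // IsConj F.s t} F.s).ncard = 26 := by
    rw [← Nat.card_coe_set_eq, ← Nat.card_eq_of_bijective ψ hbij, Nat.card_eq_finsetCard, card_sqrtOne]
  have hpar := FixityFour.involution_parity (Ω := {t : G // IsConj F.s t}) hna hs2
  rw [h396, h26] at hpar
  omega

/-- The covering splits: parity of an element of order four over a transposition. -/
theorem sq_lift_pd [IsSimpleGroup G] (hna : ¬ IsMulCommutative G) (D : Cov G)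
    (h396 : Nat.card {t : G // IsConj D.s t} = 396) (hne : ¬ IsConj D.s (D.e : G)) :
    ∀ g, D.π g = pd → (g : G) ^ 2 = 1 := by
  classical
  by_contra hcon
  push Not at hcon
  obtain ⟨g0, hg0, hg02⟩ := hcon
  have hg0s : g0 * g0 = D.sC := by
    rcases D.ker (g0 * g0) (by rw [map_mul, hg0]; decide) with h | h
    · exact absurd (by rw [pow_two]; exact h) hg02
    · exact Subtype.ext h
  have hpd : ∀ g, D.π g = pd → g * g = D.sC := fun g hg => by
    rcases D.lift_eq' (a := g) (b := g0) (hg.trans hg0.symm) with h | h <;> subst h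
    · exact hg0s
    · rw [D.sC_mul_sq, hg0s]
  have hsC1 : D.sC ≠ 1 := fun h => D.s_ne (congrArg Subtype.val h)
  have hone : ¬ IsConj D.s 1 := fun h => by
    have := Invol.orderOf_eq_two_of_isConj D.hs h
    rw [orderOf_one] at this
    omega
  set I := sqrtOne.filter fun p => Equiv.Perm.sign p = 1 with hI
  -- exactly one lift of each even involution is in the class
  have hiff : ∀ p ∈ I, ∀ g, D.π g = p →
      (IsConj D.s (g : G) ↔ ¬ IsConj D.s ((D.sC * g : ↥(centralizer ({D.s} : Set G))) : G)) := by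
    intro p hp g hg
    obtain ⟨hp1, hp2⟩ := Finset.mem_filter.1 hp
    rcases involution_types p (Finset.mem_filter.1 hp1).2 with rfl | ⟨r, hr | hr⟩
    · rcases D.ker g hg with h | h
      · refine iff_of_false (fun hc => hone (h ▸ hc)) (fun hc => hc ?_)
        rw [Subgroup.coe_mul, h, mul_one]
        exact IsConj.refl _
      · refine iff_of_true (isConj_iff.2 ⟨1, by rw [h]; simp⟩) (fun hc => hone ?_)
        rw [Subgroup.coe_mul, h] at hc
        exact (show ((D.sC : ↥(centralizer ({D.s} : Set G))) : G) * D.s = 1 from D.s_sq) ▸ hc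
    · exfalso
      have h1 := congrArg Equiv.Perm.sign hr
      rw [map_mul, map_mul, map_inv, mul_right_comm, mul_inv_cancel, one_mul, hp2] at h1
      exact absurd h1 (by decide)
    · obtain ⟨h, rfl⟩ := D.surj r
      have hconj : ∀ a : ↥(centralizer ({D.s} : Set G)),
          IsConj (a : G) ((h * a * h⁻¹ : ↥(centralizer ({D.s} : Set G))) : G) := fun a =>
        isConj_iff.2 ⟨(h : G), rfl⟩
      have hmove : h * (D.sC * g) * h⁻¹ = D.sC * (h * g * h⁻¹) := by
        rw [show h * (D.sC * g) * h⁻¹ = h * D.sC * g * h⁻¹ by group, (D.sC_central h).eq]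
        group
      have hs : D.sC * (D.sC * D.e) = D.e := by rw [← mul_assoc, D.sC_sq, one_mul]
      rcases D.lift_eq' (a := h * g * h⁻¹) (b := D.e)
        (by rw [map_mul, map_mul, map_inv, hg, hr, D.hπe]) with he | he
      · refine iff_of_false (fun hc => hne (he ▸ hc.trans (hconj g))) (fun hc => hc ?_)
        refine D.hse.trans (IsConj.symm ?_)
        have := hconj (D.sC * g)
        rw [hmove, he] at this
        exact this
      · refine iff_of_true ((he ▸ D.hse : IsConj D.s
          ((h * g * h⁻¹ : ↥(centralizer ({D.s} : Set G))) : G)).trans (hconj g).symm) (fun hc => hne ?_)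
        have := hc.trans (hconj (D.sC * g))
        rw [hmove, he, hs] at this
        exact this
  letI := classAct D.s
  have hmem : ∀ t : fixedBy {t : G // IsConj D.s t} D.s, t.1.1 ∈ centralizer ({D.s} : Set G) :=
    fun t => mem_centralizer_singleton_iff.2 (mem_fix_classAct.1 t.2).symm
  let π' : fixedBy {t : G // IsConj D.s t} D.s → Equiv.Perm (Fin 5) := fun t => D.π ⟨t.1.1, hmem t⟩
  have himg : ∀ t, π' t ∈ I := by
    intro t
    have ht2 : (⟨t.1.1, hmem t⟩ : ↥(centralizer ({D.s} : Set G))) * ⟨t.1.1, hmem t⟩ = 1 := by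
      refine Subtype.ext ?_
      show t.1.1 * t.1.1 = 1
      have := pow_orderOf_eq_one t.1.1
      rwa [Invol.orderOf_eq_two_of_isConj D.hs t.1.2, pow_two] at this
    have hsq : π' t * π' t = 1 := by rw [← map_mul, ht2, map_one]
    refine Finset.mem_filter.2 ⟨Finset.mem_filter.2 ⟨Finset.mem_univ _, hsq⟩, ?_⟩
    rcases involution_types _ hsq with h | ⟨r, h | h⟩
    · rw [h, map_one]
    · exfalso
      obtain ⟨a, rfl⟩ := D.surj r
      have := hpd (a * ⟨t.1.1, hmem t⟩ * a⁻¹) (by rw [map_mul, map_mul, map_inv]; exact h)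
      rw [show a * ⟨t.1.1, hmem t⟩ * a⁻¹ * (a * ⟨t.1.1, hmem t⟩ * a⁻¹) =
        a * (⟨t.1.1, hmem t⟩ * ⟨t.1.1, hmem t⟩) * a⁻¹ by group, ht2, mul_one, mul_inv_cancel] at this
      exact hsC1 this.symm
    · have h1 := congrArg Equiv.Perm.sign h
      rw [map_mul, map_mul, map_inv, mul_right_comm, mul_inv_cancel, one_mul] at h1
      rw [h1]
      decide
  have hπinj : Function.Injective π' := by
    intro t t' h
    rcases D.lift_eq h with e | e
    · exact Subtype.ext (Subtype.ext e)
    · exfalso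
      have hc : IsConj D.s (t.1.1) := t.1.2
      have hiff' := hiff _ (himg t') ⟨t'.1.1, hmem t'⟩ rfl
      refine hiff'.1 t'.1.2 ?_
      rw [Subgroup.coe_mul, show ((D.sC : ↥(centralizer ({D.s} : Set G))) : G) *
        ((⟨t'.1.1, hmem t'⟩ : ↥(centralizer ({D.s} : Set G))) : G) = t.1.1 from e.symm]
      exact hc
  have hπsurj : ∀ p ∈ I, ∃ t, π' t = p := by
    intro p hp
    obtain ⟨g, hg⟩ := D.surj p
    by_cases hc : IsConj D.s (g : G)
    · exact ⟨⟨⟨g, hc⟩, mem_fix_classAct.2 (D.comm g).eq.symm⟩, hg⟩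
    · refine ⟨⟨⟨((D.sC * g : ↥(centralizer ({D.s} : Set G))) : G),
        not_not.1 fun hc' => hc ((hiff p hp g hg).2 hc')⟩, mem_fix_classAct.2 (D.comm (D.sC * g)).eq.symm⟩, ?_⟩
      show D.π (D.sC * g) = p
      rw [map_mul, D.π_s, one_mul, hg]
  have h16 : (fixedBy {t : G // IsConj D.s t} D.s).ncard = 16 := by
    rw [← Nat.card_coe_set_eq, ← card_even_sqrtOne, ← Nat.card_eq_finsetCard]
    exact Nat.card_eq_of_bijective (fun t => (⟨π' t, himg t⟩ : I))
      ⟨fun t t' h => hπinj (congrArg Subtype.val h),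
        fun p => (hπsurj p.1 p.2).imp fun t ht => Subtype.ext ht⟩
  set d := (g0 : G) with hd
  have hdd : d * d = D.s := congrArg Subtype.val hg0s
  have hdcomm : d * D.s = D.s * d := (D.comm g0).eq
  have hfix4 : (fixedBy {t : G // IsConj D.s t} D.s ∩ fixedBy {t : G // IsConj D.s t} d).ncard = 4 := by
    rw [← Nat.card_coe_set_eq, ← card_even_commute, ← hI, ← Nat.card_eq_finsetCard]
    have hkey : ∀ t : fixedBy {t : G // IsConj D.s t} D.s,
        t.1 ∈ fixedBy {t : G // IsConj D.s t} d ↔ π' t * pd = pd * π' t := by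
      intro t
      have hconjmem : d • t.1 ∈ fixedBy {t : G // IsConj D.s t} D.s := by
        refine mem_fix_classAct.2 ?_
        show D.s * (d * t.1.1 * d⁻¹) = d * t.1.1 * d⁻¹ * D.s
        calc D.s * (d * t.1.1 * d⁻¹) = (D.s * d) * t.1.1 * d⁻¹ := by group
          _ = (d * D.s) * t.1.1 * d⁻¹ := by rw [hdcomm]
          _ = d * (D.s * t.1.1) * d⁻¹ := by group
          _ = d * (t.1.1 * D.s) * d⁻¹ := by rw [mem_fix_classAct.1 t.2]
          _ = d * t.1.1 * (D.s * d⁻¹) := by group
          _ = d * t.1.1 * (d⁻¹ * D.s) := by rw [(show Commute d D.s from hdcomm).inv_left.eq]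
          _ = _ := by group
      have hval : π' ⟨d • t.1, hconjmem⟩ = pd * π' t * pd⁻¹ := by
        rw [← hg0, ← map_inv, ← map_mul, ← map_mul]
        exact congrArg D.π (Subtype.ext rfl)
      rw [MulAction.mem_fixedBy]
      constructor
      · intro h
        have : π' ⟨d • t.1, hconjmem⟩ = π' t := congrArg π' (Subtype.ext h)
        rw [hval, mul_inv_eq_iff_eq_mul] at this
        exact this.symm
      · intro h
        have : π' ⟨d • t.1, hconjmem⟩ = π' t := by rw [hval, ← h, mul_inv_cancel_right]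
        exact congrArg Subtype.val (hπinj this)
    refine Nat.card_eq_of_bijective
      (fun t => (⟨π' ⟨t.1, t.2.1⟩, Finset.mem_filter.2 ⟨himg _, (hkey ⟨t.1, t.2.1⟩).1 t.2.2⟩⟩ :
        ↥(I.filter fun p => p * pd = pd * p))) ⟨?_, ?_⟩
    · intro t t' h
      have h' := hπinj (congrArg Subtype.val h)
      exact Subtype.ext (congrArg Subtype.val h' :)
    · rintro ⟨p, hp⟩
      obtain ⟨hpI, hpc⟩ := Finset.mem_filter.1 hp
      obtain ⟨t, rfl⟩ := hπsurj p hpI
      exact ⟨⟨t.1, t.2, (hkey t).2 hpc⟩, rfl⟩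
  have hd4 : orderOf d = 2 ^ (1 + 1) := by
    refine orderOf_eq_prime_pow ?_ ?_
    · rw [pow_one, pow_two, hdd]; exact D.s_ne
    · rw [show 2 ^ (1 + 1) = 2 * 2 by norm_num, pow_mul, pow_two d, hdd, pow_two, D.s_sq]
  have hsp := FixityFour.sign_split (Ω := {t : G // IsConj D.s t}) hna d
    (fixedBy {t : G // IsConj D.s t} D.s) (FixityFour.smul_eq_self_of_commute hdcomm) 4 2 ⟨2, rfl⟩
    (by norm_num) even_two two_pos
    (FixityFour.period_of_involution_free (e := 1) hd4 fun x hx hx' => hx (by
      rw [pow_one, pow_two, hdd] at hx'; exact hx'))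
    (fun z hz hzm j => by
      rcases Nat.mod_two_eq_zero_or_one j with hj | hj
      · refine iff_of_true ?_ (Nat.dvd_of_mod_eq_zero hj)
        obtain ⟨k, rfl⟩ := Nat.dvd_of_mod_eq_zero hj
        rw [pow_mul, pow_two, hdd]
        exact FixityFour.fixedBy_pow_subset k hz
      · refine iff_of_false (fun hjz => hzm ?_) (by omega)
        obtain ⟨k, rfl⟩ : ∃ k, j = 2 * k + 1 := ⟨j / 2, by omega⟩
        rw [pow_succ, mul_smul] at hjz
        have hzk : (d ^ (2 * k)) • (d • z) = d • z := by
          rw [pow_mul, pow_two, hdd]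
          refine FixityFour.fixedBy_pow_subset k ?_
          show d • z ∈ fixedBy {t : G // IsConj D.s t} D.s
          rw [← FixityFour.smul_eq_self_of_commute hdcomm]
          exact Set.smul_mem_smul_set hz
        rwa [hzk] at hjz)
  rw [h396, h16, hfix4] at hsp
  exact absurd hsp.2 (by decide)

end CfsgLib.M12Order
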