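import Cfsg.Agent.Lib.M12Order.CoverS
import Cfsg.Agent.Lib.M12Counts.Classes
import Cfsg.Agent.Lib.M12Counts.PureFour
import Cfsg.Agent.Lib.SmallOrder.Basic

/-!
Groups of order 95040 given by a census: elements of order 5, the classes of involutions.
-/

set_option autoImplicit false
set_option linter.style.haveILetI false

namespace CfsgLib.M12Order

open Subgroup MulAction CfsgLib.M12Counts

variable {G : Type*} [Group G] [Finite G] (H : Census G)
include H

namespace Census

theorem exists_sylow_eq {y : G} (hy : orderOf y = 5) [Fact (Nat.Prime 5)] :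
    ∃ T : Sylow 5 G, (T : Subgroup G) = zpowers y :=
  ⟨Sylow.ofCard (zpowers y) (by
    rw [card_zp hy, H.card, show (95040 : ℕ) = 5 ^ 1 * 19008 by norm_num,
      Nat.factorization_mul (by norm_num) (by norm_num), Finsupp.add_apply,
      (by norm_num : Nat.Prime 5).factorization_pow, Finsupp.single_eq_same,
      Nat.factorization_eq_zero_of_not_dvd (by norm_num : ¬ 5 ∣ 19008)]
    norm_num), rfl⟩

/-- Every element of order 5 is conjugate into the given subgroup. -/
theorem exists_conj_mem {x y : G} (hx : orderOf x = 5) (hy : orderOf y = 5) :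
    ∃ g : G, g * y * g⁻¹ ∈ zpowers x := by
  haveI : Fact (Nat.Prime 5) := ⟨by norm_num⟩
  obtain ⟨T, hT⟩ := H.exists_sylow_eq hx
  obtain ⟨U, hU⟩ := H.exists_sylow_eq hy
  obtain ⟨c, hc⟩ := MulAction.exists_smul_eq G U T
  refine ⟨c, ?_⟩
  rw [← hT, ← hc, Sylow.coe_subgroup_smul]
  exact ⟨y, hU ▸ mem_zpowers y, rfl⟩

theorem exists_pair : ∃ x s : G, Pair G x s := by
  haveI : Fact (Nat.Prime 5) := ⟨by norm_num⟩
  obtain ⟨x, hx⟩ := exists_prime_orderOf_dvd_card' (G := G) 5 (by rw [H.card]; norm_num)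
  obtain ⟨s, hs, hsC, hu⟩ := exists_unique_invol (H.five x hx).1 hx
    (fun g hg => mem_centralizer_singleton_iff.1 hg) (mem_centralizer_singleton_iff.2 rfl)
  exact ⟨x, s, hx, hs, mem_centralizer_singleton_iff.1 hsC,
    fun t ht htx => hu t (mem_centralizer_singleton_iff.2 htx) ht⟩

theorem card_five : Nat.card {y : G // orderOf y = 5} = 9504 := by
  haveI : Fact (Nat.Prime 5) := ⟨by norm_num⟩
  obtain ⟨y, hy⟩ := exists_prime_orderOf_dvd_card' (G := G) 5 (by rw [H.card]; norm_num)
  obtain ⟨T, hT⟩ := H.exists_sylow_eq hy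
  have h := SmallOrder.card_normalizer_mul T
  rw [hT, (H.five y hy).2, H.card] at h
  have he : Recog.OrderCounts.cnt G 5 = Nat.card (Sylow 5 G) * (5 - 1) :=
    Recog.OrderCounts.cnt_prime_eq (by rw [H.card]; norm_num) (by rw [H.card]; norm_num)
  rw [Recog.OrderCounts.cnt] at he
  omega

variable {x s : G} (P : Pair G x s)
include P

theorem card_centralizer_s : Nat.card ↥(centralizer ({s} : Set G)) = 240 :=
  H.invol x s P.hx P.hs P.comm

omit P in
theorem card_sub_five {x s : G} (P : Pair G x s) :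
    Order175560.numSub 5 (centralizer ({s} : Set G)) = 6 := by
  haveI : Fact (Nat.Prime 5) := ⟨by norm_num⟩
  obtain ⟨-, hn⟩ := Order175560.numSub_facts (p := 5) (H := centralizer ({s} : Set G)) (K := zpowers x)
    (zpowers_le.2 (mem_centralizer_singleton_iff.2 P.comm.symm)) (card_zp P.hx)
    (by rw [H.card_centralizer_s P]; norm_num)
  rw [inf_eq_right.2 (normalizer_le P), (H.five x P.hx).2, H.card_centralizer_s P] at hn
  omega

/-- An involution commuting with an element of order 5 is conjugate to `s`. -/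
theorem isConj_of_commute {t y : G} (ht : orderOf t = 2) (hy : orderOf y = 5) (h : t * y = y * t) :
    IsConj s t := by
  obtain ⟨g, hg⟩ := H.exists_conj_mem P.hx hy
  have hzy : zpowers (g * y * g⁻¹) = zpowers x := eq_of_le_of_card_ge (zpowers_le.2 hg) (by
    rw [card_zp P.hx, card_zp (show orderOf (g * y * g⁻¹) = 5 by
      rw [← MulAut.conj_apply, MulEquiv.orderOf_eq, hy])])
  obtain ⟨k, hk⟩ := mem_zpowers_iff.1 (hzy ▸ mem_zpowers x : x ∈ zpowers (g * y * g⁻¹))
  have hc : Commute (g * t * g⁻¹) (g * y * g⁻¹) := by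
    show g * t * g⁻¹ * (g * y * g⁻¹) = g * y * g⁻¹ * (g * t * g⁻¹)
    rw [show g * t * g⁻¹ * (g * y * g⁻¹) = g * (t * y) * g⁻¹ by group, h]
    group
  have e := P.uniq (g * t * g⁻¹) (by rw [← MulAut.conj_apply, MulEquiv.orderOf_eq, ht])
    (hk ▸ (hc.zpow_right k).eq)
  exact IsConj.symm (isConj_iff.2 ⟨g, e⟩)

end Census

/-- The class of a second kind of involution has size divisible by 55. -/
theorem Census.class_dvd {x s : G} (P : Pair G x s) {t : G} (ht : orderOf t = 2) (hn : ¬ IsConj s t) :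
    55 ∣ Nat.card {u : G // IsConj t u} := by
  have h : Nat.card {u : G // IsConj t u} * Nat.card ↥(centralizer ({t} : Set G)) = 95040 := by
    rw [M12Counts.card_isConj_mul, H.card]
  have h5 : ¬ 5 ∣ Nat.card ↥(centralizer ({t} : Set G)) := fun h => by
    haveI : Fact (Nat.Prime 5) := ⟨Nat.prime_five⟩
    obtain ⟨⟨y, hy⟩, hyo⟩ := exists_prime_orderOf_dvd_card' 5 h
    rw [Subgroup.orderOf_mk] at hyo
    exact hn (H.isConj_of_commute P ht hyo (mem_centralizer_singleton_iff.1 hy).symm)
  have h11 : ¬ 11 ∣ Nat.card ↥(centralizer ({t} : Set G)) := fun h => by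
    haveI : Fact (Nat.Prime 11) := ⟨by norm_num⟩
    obtain ⟨⟨a, ha⟩, hao⟩ := exists_prime_orderOf_dvd_card' 11 h
    rw [Subgroup.orderOf_mk] at hao
    have := orderOf_dvd_natCard _ (mem_centralizer_singleton_iff.2
      (mem_centralizer_singleton_iff.1 ha).symm : t ∈ centralizer ({a} : Set G))
    rw [H.eleven a hao, ht] at this
    norm_num at this
  refine Nat.Coprime.dvd_of_dvd_mul_right (n := Nat.card ↥(centralizer ({t} : Set G))) ?_
    (by rw [h]; norm_num)
  rw [show (55 : ℕ) = 5 * 11 by norm_num]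
  exact Nat.Coprime.mul_left (Nat.prime_five.coprime_iff_not_dvd.2 h5)
    ((by norm_num : Nat.Prime 11).coprime_iff_not_dvd.2 h11)

variable (D : Cov G)

theorem Census.class_s : Nat.card {t : G // IsConj D.s t} = 396 := by
  have h := M12Counts.card_isConj_mul D.s
  rw [D.card, H.card] at h
  omega

theorem Census.not_isConj_se : ¬ IsConj D.s (D.e : G) := fun hc => by
  have h := D.h64
  rw [← M12Counts.card_centralizer_conj hc, D.card] at h
  norm_num at h

/-- Each element of order 5 is a product of two conjugates of `e` in five ways. -/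
theorem Census.pair_bound : 9504 * 5 + Nat.card {t : G // IsConj (D.e : G) t} ≤
    Nat.card {t : G // IsConj (D.e : G) t} * Nat.card {t : G // IsConj (D.e : G) t} := by
  classical
  obtain ⟨y₀, hy₀, hinv₀⟩ := D.exists_inverted
  have hex : ∀ y : {y : G // orderOf y = 5}, ∃ c, IsConj (D.e : G) c ∧ c * y.1 * c⁻¹ = y.1⁻¹ := by
    intro y
    obtain ⟨g, hg⟩ := H.exists_conj_mem hy₀ y.2
    obtain ⟨k, hk⟩ := mem_zpowers_iff.1 hg
    refine ⟨g⁻¹ * (D.e : G) * g, isConj_iff.2 ⟨g⁻¹, by group⟩, ?_⟩
    have he : (D.e : G) * (g * y.1 * g⁻¹) * (D.e : G)⁻¹ = (g * y.1 * g⁻¹)⁻¹ := by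
      rw [← hk, ← conj_zpow, hinv₀, inv_zpow]
    calc g⁻¹ * (D.e : G) * g * y.1 * (g⁻¹ * (D.e : G) * g)⁻¹
        = g⁻¹ * ((D.e : G) * (g * y.1 * g⁻¹) * (D.e : G)⁻¹) * g := by group
      _ = g⁻¹ * (g * y.1 * g⁻¹)⁻¹ * g := by rw [he]
      _ = y.1⁻¹ := by group
  choose c hc hcy using hex
  have hmem : ∀ (y : {y : G // orderOf y = 5}) (j : ℤ), IsConj (D.e : G) (c y * y.1 ^ j) := by
    intro y j
    refine (hc y).trans (isConj_iff.2 ⟨y.1 ^ (2 * j), ?_⟩)
    have h5 : y.1 ^ (5 * j) = 1 := by
      have := pow_orderOf_eq_one y.1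
      rw [y.2] at this
      rw [zpow_mul, zpow_ofNat, this, one_zpow]
    have hmove : y.1 ^ (2 * j) * c y = c y * y.1 ^ (-(2 * j)) := by
      have hcy' : ∀ m : ℤ, c y * y.1 ^ m * (c y)⁻¹ = y.1 ^ (-m) := fun m => by
        rw [← conj_zpow, hcy, inv_zpow, zpow_neg]
      have := hcy' (-(2 * j))
      rw [neg_neg] at this
      rw [← this]; group
    rw [hmove, ← zpow_neg, mul_assoc, ← zpow_add,
      show -(2 * j) + -(2 * j) = j + -(5 * j) by ring, zpow_add, zpow_neg, h5, inv_one, mul_one]
  have := Fintype.ofFinite G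
  let K : Finset G := Finset.univ.filter fun t => IsConj (D.e : G) t
  have hK : Nat.card {t : G // IsConj (D.e : G) t} = K.card := by
    rw [Nat.card_eq_fintype_card, Fintype.card_subtype]
  have hinj : Nat.card ({y : G // orderOf y = 5} × Fin 5) ≤ K.offDiag.card := by
    rw [← Nat.card_eq_finsetCard K.offDiag]
    refine Nat.card_le_card_of_injective (fun z =>
      ⟨(c z.1 * z.1.1 ^ (z.2.1 : ℤ), c z.1 * z.1.1 ^ ((z.2.1 : ℤ) + 1)), ?_⟩) ?_
    · refine Finset.mem_offDiag.2 ⟨Finset.mem_filter.2 ⟨Finset.mem_univ _, hmem _ _⟩,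
        Finset.mem_filter.2 ⟨Finset.mem_univ _, hmem _ _⟩, fun h => ?_⟩
      rw [zpow_add_one, ← mul_assoc, left_eq_mul] at h
      have := z.1.2
      rw [h, orderOf_one] at this
      omega
    · rintro ⟨y, i⟩ ⟨y', i'⟩ e
      have e' := congrArg Subtype.val e
      simp only [Prod.mk.injEq, zpow_add_one, ← mul_assoc] at e'
      obtain ⟨e1, e2⟩ := e'
      have hy : y = y' := Subtype.ext (by rw [e1] at e2; exact mul_left_cancel e2)
      subst hy
      have h := mul_left_cancel e1
      rw [zpow_natCast, zpow_natCast, pow_eq_pow_iff_modEq, y.2, Nat.ModEq,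
        Nat.mod_eq_of_lt i.2, Nat.mod_eq_of_lt i'.2] at h
      exact Prod.ext rfl (Fin.ext h)
  rw [Finset.offDiag_card, Nat.card_prod, H.card_five, Nat.card_fin] at hinj
  rw [hK]
  omega

variable {x : G} (P : Pair G x D.s)
include P

theorem Census.class_sum_le {t : G} (ht : orderOf t = 2) (hts : ¬ IsConj D.s t) :
    Nat.card {u : G // IsConj t u} + 396 ≤ 923 := by
  rw [← H.class_s D, ← Nat.card_sum]
  refine le_trans (Nat.card_le_card_of_injective (fun v : _ ⊕ _ => (Sum.elim
    (fun u : {u : G // IsConj t u} =>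
      (⟨u.1, Invol.orderOf_eq_two_of_isConj ht u.2⟩ : {g : G // orderOf g = 2}))
    (fun u : {u : G // IsConj D.s u} => ⟨u.1, Invol.orderOf_eq_two_of_isConj D.hs u.2⟩)) v) ?_) H.bound
  rintro (u | u) (v | v) e <;>
    simp only [Sum.elim_inl, Sum.elim_inr, Subtype.mk.injEq] at e <;> have e' : u.1 = v.1 := e
  · exact congrArg Sum.inl (Subtype.ext e')
  · exact absurd (v.2.trans (e' ▸ u.2).symm) hts
  · exact absurd (u.2.trans (e' ▸ v.2.symm)) hts
  · exact congrArg Sum.inr (Subtype.ext e')

theorem Census.class_e : Nat.card {t : G // IsConj (D.e : G) t} = 495 := by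
  obtain ⟨k, hk⟩ := H.class_dvd P D.he (H.not_isConj_se D)
  have h1 := H.class_sum_le D P D.he (H.not_isConj_se D)
  have h2 := H.pair_bound D
  have hmul := M12Counts.card_isConj_mul (D.e : G)
  rw [H.card] at hmul
  obtain ⟨m, hm⟩ := D.h64
  rw [hk, hm] at hmul
  rw [hk] at h1 h2 ⊢
  have hkm : k * m = 27 := by nlinarith
  have hk4 : 4 ≤ k := by
    by_contra h
    interval_cases k <;> omega
  have hk10 : k ≤ 9 := by omega
  interval_cases k <;> omega

theorem Census.centralizer_e : Nat.card ↥(centralizer ({(D.e : G)} : Set G)) = 192 := by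
  have h := M12Counts.card_isConj_mul (D.e : G)
  rw [H.class_e D P, H.card] at h
  omega

theorem Census.invol_cases (t : G) (ht : orderOf t = 2) : IsConj D.s t ∨ IsConj (D.e : G) t := by
  classical
  have := Fintype.ofFinite G
  by_contra hn
  push Not at hn
  have hpos : 0 < Nat.card {u : G // IsConj t u} := by
    haveI : Nonempty {u : G // IsConj t u} := ⟨⟨t, IsConj.refl t⟩⟩
    exact Nat.card_pos
  have h55 : 55 ≤ Nat.card {u : G // IsConj t u} := Nat.le_of_dvd hpos (H.class_dvd P ht hn.1)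
  have h : Nat.card {u : G // IsConj (D.e : G) u} + 396 + Nat.card {u : G // IsConj t u} ≤
      Nat.card {g : G // orderOf g = 2} := by
    rw [← H.class_s D, Nat.card_eq_fintype_card, Nat.card_eq_fintype_card, Nat.card_eq_fintype_card,
      Nat.card_eq_fintype_card, Fintype.card_subtype, Fintype.card_subtype, Fintype.card_subtype,
      Fintype.card_subtype, ← Finset.card_union_of_disjoint, ← Finset.card_union_of_disjoint]
    · refine Finset.card_le_card fun u hu => ?_
      simp only [Finset.mem_union, Finset.mem_filter, Finset.mem_univ, true_and] at hu ⊢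
      rcases hu with (hu | hu) | hu
      · exact Invol.orderOf_eq_two_of_isConj D.he hu
      · exact Invol.orderOf_eq_two_of_isConj D.hs hu
      · exact Invol.orderOf_eq_two_of_isConj ht hu
    · rw [Finset.disjoint_union_left]
      exact ⟨Finset.disjoint_filter.2 fun u _ he ht' => hn.2 (he.trans ht'.symm),
        Finset.disjoint_filter.2 fun u _ hs ht' => hn.1 (hs.trans ht'.symm)⟩
    · exact Finset.disjoint_filter.2 fun u _ he hs => H.not_isConj_se D (hs.trans he.symm)
  rw [H.class_e D P] at h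
  have := H.bound
  omega

end CfsgLib.M12Order
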