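import Cfsg.Agent.Lib.M12Order.Values
import Cfsg.Agent.Lib.Char.Complete

/-!
A simple group of order 95040: characters restricted to a Frobenius group of order 55.
-/

set_option autoImplicit false
set_option linter.style.haveILetI false

namespace CfsgLib.M12Order

open CfsgLib Subgroup

universe u

variable {G : Type u} [Group G] [Fintype G]

open scoped ComplexConjugate in
theorem sum_norm_sq_le (a : G) (s : Finset (Cfsg.IrrCharacter G)) :
    ∑ χ ∈ s, ‖χ.1 a‖ ^ 2 ≤ (Nat.card ↥(centralizer ({a} : Set G)) : ℝ) := by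
  classical
  have h := Char.sum_mul_conj a a
  rw [if_pos (IsConj.refl a)] at h
  have h' : ∑ χ : Cfsg.IrrCharacter G, ‖χ.1 a‖ ^ 2 = (Nat.card ↥(centralizer ({a} : Set G)) : ℝ) := by
    apply Complex.ofReal_injective
    push_cast
    rw [← h]
    exact Finset.sum_congr rfl fun χ _ => by rw [Complex.mul_conj, Complex.normSq_eq_norm_sq]; push_cast; rfl
  rw [← h']
  exact Finset.sum_le_sum_of_subset_of_nonneg (Finset.subset_univ _) fun χ _ _ => sq_nonneg _

/-- The averages over `⟨a⟩` and over `⟨a, y⟩`. -/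
theorem rel55 (χ : Cfsg.IrrCharacter G) {a y : G} (ha : orderOf a = 11) (hy : orderOf y = 5)
    (hya : y * a * y⁻¹ ∈ zpowers a) (hCa : Nat.card ↥(centralizer ({a} : Set G)) = 11)
    (hN : Nat.card ↥(normalizer ((zpowers a : Subgroup G) : Set G)) = 55) :
    ∃ m n : ℕ, n ≤ m ∧ (11 * (m : ℤ) - Char.degree χ.1) ^ 2 ≤ 1100 ∧ (5 * n : ℂ) = m + S4 χ.1 y := by
  classical
  obtain ⟨d, ρ, hρ, hχ⟩ := χ.2
  set H := normalizer ((zpowers a : Subgroup G) : Set G) with hH
  haveI : Fintype H := Fintype.ofFinite H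
  haveI : Fintype ↥(zpowers a) := Fintype.ofFinite _
  haveI : Invertible (Nat.card ↥H : ℂ) := invertibleOfNonzero (Nat.cast_ne_zero.2 Nat.card_pos.ne')
  haveI : Invertible (Nat.card ↥(zpowers a) : ℂ) := invertibleOfNonzero (Nat.cast_ne_zero.2 Nat.card_pos.ne')
  let ρH : Representation ℂ H (Fin d → ℂ) := ρ.comp H.subtype
  let ρA : Representation ℂ ↥(zpowers a) (Fin d → ℂ) := ρ.comp (zpowers a).subtype
  have hH1 := Representation.card_inv_mul_sum_char_eq_finrank ρH
  have hA1 := Representation.card_inv_mul_sum_char_eq_finrank ρA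
  have hcH : ∀ h : H, ρH.character h = χ.1 (h : G) := fun h => congrFun hχ (h : G)
  have hcA : ∀ h : ↥(zpowers a), ρA.character h = χ.1 (h : G) := fun h => congrFun hχ (h : G)
  simp only [hcH] at hH1
  simp only [hcA] at hA1
  set n := Module.finrank ℂ (Representation.invariants ρH) with hn
  set m := Module.finrank ℂ (Representation.invariants ρA) with hm
  have haH : zpowers a ≤ H := le_normalizer
  have hnm : n ≤ m := Submodule.finrank_mono fun v hv g => hv ⟨g.1, haH g.2⟩
  rw [inv_mul_eq_iff_eq_mul₀ (Nat.cast_ne_zero.2 Nat.card_pos.ne'), hN] at hH1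
  rw [inv_mul_eq_iff_eq_mul₀ (Nat.cast_ne_zero.2 Nat.card_pos.ne'), Nat.card_zpowers, ha] at hA1
  -- the sum over the powers of `a`
  have hA : ∑ i ∈ Finset.range 11, χ.1 (a ^ i) = 11 * (m : ℂ) := by
    rw [show (11 : ℂ) = ((11 : ℕ) : ℂ) by norm_num, ← hA1, ← Fin.sum_univ_eq_sum_range]
    exact Fintype.sum_equiv ((finCongr ha.symm).trans (finEquivZPowers (isOfFinOrder_of_finite a))) _ _
      (fun i => rfl)
  have hyN : y ∈ H := by
    refine Subgroup.mem_normalizer_fintype fun g hg => ?_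
    obtain ⟨k, rfl⟩ := mem_zpowers_iff.1 hg
    rw [← conj_zpow]
    exact zpow_mem hya k
  have hy1 : ∀ j, 0 < j → j < 5 → orderOf (y ^ j) = 5 := fun j h1 h2 => by
    rw [orderOf_pow, hy]; interval_cases j <;> norm_num
  have hinj : ∀ i i' j j' : ℕ, i < 11 → i' < 11 → j < 5 → j' < 5 → a ^ i * y ^ j = a ^ i' * y ^ j' →
      i = i' ∧ j = j' := by
    intro i i' j j' hi hi' hj hj' he
    have h1 : (a ^ i')⁻¹ * a ^ i = y ^ j' * (y ^ j)⁻¹ :=
      eq_mul_inv_of_mul_eq (by rw [mul_assoc, he, inv_mul_cancel_left])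
    have hA' : (a ^ i')⁻¹ * a ^ i ∈ zpowers a := mul_mem (inv_mem (npow_mem_zpowers _ _)) (npow_mem_zpowers _ _)
    have hY' : (a ^ i')⁻¹ * a ^ i ∈ zpowers y :=
      h1 ▸ mul_mem (npow_mem_zpowers _ _) (inv_mem (npow_mem_zpowers _ _))
    have hd : orderOf ((a ^ i')⁻¹ * a ^ i) = 1 := Nat.dvd_one.1 ((by norm_num : Nat.gcd 11 5 = 1) ▸ Nat.dvd_gcd
      (ha ▸ (Nat.card_zpowers a ▸ orderOf_dvd_natCard _ hA'))
      (hy ▸ (Nat.card_zpowers y ▸ orderOf_dvd_natCard _ hY')))
    rw [orderOf_eq_one_iff] at hd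
    rw [hd] at h1
    exact ⟨(pow_injOn_Iio_orderOf (Set.mem_Iio.2 (ha ▸ hi')) (Set.mem_Iio.2 (ha ▸ hi)) (inv_mul_eq_one.1 hd)).symm,
      pow_injOn_Iio_orderOf (Set.mem_Iio.2 (hy ▸ hj)) (Set.mem_Iio.2 (hy ▸ hj')) (mul_inv_eq_one.1 h1.symm).symm⟩
  -- the sum over a coset
  have hC : ∀ j, 0 < j → j < 5 → ∑ i ∈ Finset.range 11, χ.1 (a ^ i * y ^ j) = 11 * χ.1 (y ^ j) := by
    intro j h1 h2
    have hcomm : ∀ b < 11, a ^ b * y ^ j = y ^ j * a ^ b → b = 0 := by
      intro b hb he
      by_contra hb0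
      have hob : orderOf (a ^ b) = 11 := by
        rw [orderOf_pow, ha, Nat.Coprime.gcd_eq_one ((Nat.Prime.coprime_iff_not_dvd (by norm_num)).2
          fun h => hb0 (Nat.eq_zero_of_dvd_of_lt h hb)), Nat.div_one]
      have hmem : a ∈ zpowers (a ^ b) :=
        (eq_of_le_of_card_ge (zpowers_le.2 (npow_mem_zpowers a b)) (by
          rw [Nat.card_zpowers, Nat.card_zpowers, hob, ha])) ▸ mem_zpowers a
      obtain ⟨k, hk⟩ := mem_zpowers_iff.1 hmem
      have hc : y ^ j ∈ centralizer ({a} : Set G) := by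
        rw [mem_centralizer_singleton_iff]
        have h := (Commute.zpow_left (show Commute (a ^ b) (y ^ j) from he) k).eq
        rw [hk] at h
        exact h.symm
      have := orderOf_dvd_natCard _ hc
      rw [hy1 j h1 h2, hCa] at this
      norm_num at this
    have hmaps : ∀ b, ∃ i, i < 11 ∧ a ^ b * y ^ j * (a ^ b)⁻¹ = a ^ i * y ^ j := by
      intro b
      have hmem : a ^ b * (y ^ j * (a ^ b)⁻¹ * (y ^ j)⁻¹) ∈ zpowers a :=
        mul_mem (npow_mem_zpowers _ _) ((mem_normalizer_iff.1 (pow_mem hyN j) _).1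
          (inv_mem (npow_mem_zpowers _ _)))
      rw [mem_zpowers_iff_mem_range_orderOf, Finset.mem_image] at hmem
      obtain ⟨i, hi, he⟩ := hmem
      rw [Finset.mem_range, ha] at hi
      exact ⟨i, hi, by rw [he]; group⟩
    choose f hf hfe using hmaps
    have hfinj : Set.InjOn f (Finset.range 11 : Finset ℕ) := by
      have key : ∀ b c, b < 11 → c ≤ b → f c = f b → b = c := by
        intro b c hb hcb he
        have e := (hfe c).trans ((by rw [he]) : a ^ f c * y ^ j = a ^ f b * y ^ j) |>.trans (hfe b).symm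
        have h0 : b - c = 0 := by
          refine hcomm _ (by omega) ?_
          rw [show b = c + (b - c) by omega, pow_add] at e
          have e2 : y ^ j = a ^ (b - c) * y ^ j * (a ^ (b - c))⁻¹ := by
            simp only [mul_inv_rev, mul_assoc] at e ⊢
            have e' := mul_left_cancel e
            simp only [← mul_assoc] at e' ⊢
            exact mul_right_cancel e'
          conv_rhs => rw [e2]
          rw [inv_mul_cancel_right]
        omega
      intro b hb c hc he
      simp only [Finset.coe_range, Set.mem_Iio] at hb hc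
      rcases Nat.le_total c b with h | h
      · exact key b c hb h he.symm
      · exact (key c b hc h he).symm
    have himg : (Finset.range 11).image f = Finset.range 11 :=
      Finset.eq_of_subset_of_card_le (Finset.image_subset_iff.2 fun b _ => Finset.mem_range.2 (hf b))
        (by rw [Finset.card_image_of_injOn hfinj])
    conv_lhs => rw [← himg]
    rw [Finset.sum_image hfinj, Finset.sum_congr rfl (g := fun _ => χ.1 (y ^ j)) (fun b _ => by
      rw [← hfe b]
      exact (Char.IsClassFunction.eq_of_isConj (Char.IsIrrCharacter.isClassFunction χ.2)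
        (isConj_iff.2 ⟨a ^ b, rfl⟩)).symm)]
    simp
  have hbij : ∑ p ∈ Finset.range 5 ×ˢ Finset.range 11, χ.1 (a ^ p.2 * y ^ p.1) = ∑ h : H, χ.1 (h : G) := by
    refine Finset.sum_bij
      (fun p _ => (⟨a ^ p.2 * y ^ p.1, mul_mem (haH (npow_mem_zpowers _ _)) (pow_mem hyN _)⟩ : H))
      (fun _ _ => Finset.mem_univ _) (fun p hp q hq he => ?_) ?_ (fun p _ => rfl)
    · simp only [Finset.mem_product, Finset.mem_range] at hp hq
      obtain ⟨h1, h2⟩ := hinj _ _ _ _ hp.2 hq.2 hp.1 hq.1 (congrArg Subtype.val he)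
      exact Prod.ext h2 h1
    · intro h _
      have hs := Finset.surj_on_of_inj_on_of_card_le
        (s := Finset.range 5 ×ˢ Finset.range 11) (t := (Finset.univ : Finset H))
        (fun p _ => (⟨a ^ p.2 * y ^ p.1, mul_mem (haH (npow_mem_zpowers _ _)) (pow_mem hyN _)⟩ : H))
        (fun _ _ => Finset.mem_univ _) (fun p q hp hq he => by
          simp only [Finset.mem_product, Finset.mem_range] at hp hq
          obtain ⟨h1, h2⟩ := hinj _ _ _ _ hp.2 hq.2 hp.1 hq.1 (congrArg Subtype.val he)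
          exact Prod.ext h2 h1)
        (by rw [Finset.card_univ, ← Nat.card_eq_fintype_card, hN]; simp) h (Finset.mem_univ _)
      obtain ⟨p, hp, e⟩ := hs
      exact ⟨p, hp, e.symm⟩
  rw [Finset.sum_product] at hbij
  refine ⟨m, n, hnm, ?_, ?_⟩
  · -- the bound
    have hb : ∀ i ∈ Finset.range 10, ‖χ.1 (a ^ (i + 1))‖ ≤ Real.sqrt 11 := by
      intro i hi
      rw [Finset.mem_range] at hi
      apply Real.le_sqrt_of_sq_le
      have h := sum_norm_sq_le (a ^ (i + 1)) {χ}
      rw [Finset.sum_singleton] at h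
      refine h.trans ?_
      have he : centralizer ({a ^ (i + 1)} : Set G) = centralizer ({a} : Set G) := by
        rw [← centralizer_closure, ← centralizer_closure {a}, ← zpowers_eq_closure, ← zpowers_eq_closure]
        congr 1
        refine congrArg SetLike.coe (eq_of_le_of_card_ge (zpowers_le.2 (npow_mem_zpowers a _)) ?_)
        rw [Nat.card_zpowers, Nat.card_zpowers, orderOf_pow, ha, Nat.Coprime.gcd_eq_one
          ((Nat.Prime.coprime_iff_not_dvd (by norm_num)).2 fun h =>
            absurd (Nat.le_of_dvd (by omega) h) (by omega)), Nat.div_one]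
      rw [he, hCa]; norm_num
    have hsum : ‖(11 * (m : ℂ)) - (Char.degree χ.1 : ℂ)‖ ≤ 10 * Real.sqrt 11 := by
      rw [← hA, Finset.sum_range_succ' _ 10, pow_zero,
        ← Char.IsCharacter.degree_cast (Char.IsIrrCharacter.isCharacter χ.2), add_sub_cancel_right]
      exact (norm_sum_le _ _).trans ((Finset.sum_le_sum hb).trans (le_of_eq (by simp)))
    have hsq := pow_le_pow_left₀ (norm_nonneg _) hsum 2
    rw [mul_pow, Real.sq_sqrt (by norm_num)] at hsq
    have e : (11 * (m : ℂ)) - (Char.degree χ.1 : ℂ) = (((11 * (m : ℤ) - Char.degree χ.1 : ℤ) : ℝ) : ℂ) := by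
      push_cast; ring
    rw [e, Complex.norm_real, Real.norm_eq_abs, sq_abs] at hsq
    have : ((11 * (m : ℤ) - Char.degree χ.1) ^ 2 : ℤ) ≤ (1100 : ℤ) := by
      exact_mod_cast hsq.trans (le_of_eq (by norm_num : (10 : ℝ) ^ 2 * 11 = 1100))
    exact this
  · rw [Finset.sum_range_succ' _ 4] at hbij
    rw [Finset.sum_congr rfl (g := fun j => 11 * χ.1 (y ^ (j + 1))) (fun j hj => hC _ (by omega)
      (by rw [Finset.mem_range] at hj; omega))] at hbij
    simp only [pow_zero, mul_one, hA, Finset.sum_range_succ, Finset.sum_range_zero] at hbij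
    rw [hH1] at hbij
    norm_num at hbij
    rw [S4]
    linear_combination (-1 / 11 : ℂ) * hbij

end CfsgLib.M12Order
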