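import Cfsg.Agent.Lib.M12Order.Five
import Cfsg.Agent.Lib.M12Order.Frob55
import Cfsg.Agent.Lib.SelfCentNoncyclic.Shape

/-!
A simple group of order 95040: character values at elements of order 5 conjugate to all their powers.
-/

set_option autoImplicit false
set_option linter.style.haveILetI false

namespace CfsgLib.M12Order

open CfsgLib Subgroup
open scoped ComplexConjugate

universe u

variable {G : Type u} [Group G] [Fintype G]

theorem orderOf_pow_five {y : G} (hy : orderOf y = 5) {k : ℕ} (hk : ¬ 5 ∣ k) : orderOf (y ^ k) = 5 := by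
  rw [orderOf_pow, hy, (Nat.Prime.coprime_iff_not_dvd (by norm_num : Nat.Prime 5)).2 hk, Nat.div_one]

/-- When the normaliser of `⟨y⟩` is four times its centraliser, it moves `y` to all the other generators. -/
theorem exists_conj_pow_five {y : G} (hy : orderOf y = 5)
    (hN : Nat.card ↥(normalizer ((zpowers y : Subgroup G) : Set G)) =
      4 * Nat.card ↥(centralizer ({y} : Set G))) {k : ℕ} (hk : ¬ 5 ∣ k) :
    ∃ g : G, g ∈ normalizer ((zpowers y : Subgroup G) : Set G) ∧ g * y * g⁻¹ = y ^ k := by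
  classical
  set N : Finset G := Finset.univ.filter fun g => g ∈ normalizer ((zpowers y : Subgroup G) : Set G) with hNdef
  set C : Finset G := Finset.univ.filter fun g => g ∈ centralizer ({y} : Set G) with hCdef
  have hNc : N.card = 4 * C.card := by
    rw [hNdef, hCdef, ← Fintype.card_subtype, ← Fintype.card_subtype, ← Nat.card_eq_fintype_card,
      ← Nat.card_eq_fintype_card]
    exact hN
  have hfib : ∀ b ∈ N.image (fun g => g * y * g⁻¹), (N.filter fun g => g * y * g⁻¹ = b).card ≤ C.card := by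
    intro b hb
    obtain ⟨g0, hg0, rfl⟩ := Finset.mem_image.1 hb
    refine Finset.card_le_card_of_injOn (fun g => g0⁻¹ * g) ?_ ?_
    · intro g hg
      have h1 := (Finset.mem_filter.1 hg).2
      refine Finset.mem_filter.2 ⟨Finset.mem_univ _, mem_centralizer_singleton_iff.2 ?_⟩
      change g0⁻¹ * g * y = y * (g0⁻¹ * g)
      calc g0⁻¹ * g * y = g0⁻¹ * (g * y * g⁻¹) * g := by group
        _ = g0⁻¹ * (g0 * y * g0⁻¹) * g := by rw [h1]
        _ = y * (g0⁻¹ * g) := by group
    · exact fun a _ b _ h => mul_left_cancel h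
  have hle := Finset.card_le_mul_card_image N C.card hfib
  have hsub : N.image (fun g => g * y * g⁻¹) ⊆ ({y ^ 1, y ^ 2, y ^ 3, y ^ 4} : Finset G) := by
    intro b hb
    obtain ⟨g, hg, rfl⟩ := Finset.mem_image.1 hb
    have hm : g * y * g⁻¹ ∈ zpowers y :=
      (mem_normalizer_iff.1 (Finset.mem_filter.1 hg).2 y).1 (mem_zpowers y)
    obtain ⟨j, hj, hj'⟩ := (IsOfFinOrder.mem_powers_iff_mem_range_orderOf (isOfFinOrder_of_finite y)).1
      (mem_powers_iff_mem_zpowers.2 hm) |> Finset.mem_image.1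
    rw [Finset.mem_range, hy] at hj
    rw [← hj']
    interval_cases j
    · exfalso
      rw [pow_zero, eq_comm, conj_eq_one_iff] at hj'
      rw [hj', orderOf_one] at hy
      norm_num at hy
    all_goals simp
  have hpos : 0 < C.card :=
    Finset.card_pos.2 ⟨1, Finset.mem_filter.2 ⟨Finset.mem_univ _, one_mem _⟩⟩
  have h4 : ({y ^ 1, y ^ 2, y ^ 3, y ^ 4} : Finset G).card ≤ 4 := Finset.card_le_four
  have heq := Finset.eq_of_subset_of_card_le hsub (by nlinarith)
  have hmem : y ^ k ∈ ({y ^ 1, y ^ 2, y ^ 3, y ^ 4} : Finset G) := by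
    rw [← pow_mod_orderOf y k, hy]
    have h1 : k % 5 < 5 := Nat.mod_lt _ (by norm_num)
    have h0 : k % 5 ≠ 0 := fun h => hk (Nat.dvd_of_mod_eq_zero h)
    interval_cases h : k % 5
    · exact absurd rfl h0
    all_goals simp
  rw [← heq, Finset.mem_image] at hmem
  obtain ⟨g, hg, hg'⟩ := hmem
  exact ⟨g, (Finset.mem_filter.1 hg).2, hg'⟩

theorem apply_conj (χ : Cfsg.IrrCharacter G) (g x : G) : χ.1 (g * x * g⁻¹) = χ.1 x :=
  Char.IsClassFunction.eq_of_isConj (Char.IsCharacter.isClassFunction (Char.IsIrrCharacter.isCharacter χ.2))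
    (isConj_iff.2 ⟨g, rfl⟩).symm

/-- The value at an element of order 5 conjugate to all its powers is an integer congruent to the degree. -/
theorem exists_value_y (χ : Cfsg.IrrCharacter G) {y : G} (hy : orderOf y = 5)
    (hN : Nat.card ↥(normalizer ((zpowers y : Subgroup G) : Set G)) =
      4 * Nat.card ↥(centralizer ({y} : Set G))) :
    ∃ v : ℤ, χ.1 y = (v : ℂ) ∧ (5 : ℤ) ∣ (Char.degree χ.1 : ℤ) - v ∧ S4 χ.1 y = 4 * (v : ℂ) := by
  have hv : ∀ k, ¬ 5 ∣ k → χ.1 (y ^ k) = χ.1 y := fun k hk => by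
    obtain ⟨g, -, hg⟩ := exists_conj_pow_five hy hN hk
    rw [← hg, apply_conj]
  have hS : S4 χ.1 y = 4 * χ.1 y := by
    rw [S4, hv 2 (by norm_num), hv 3 (by norm_num), hv 4 (by norm_num)]; ring
  obtain ⟨m, hm⟩ := exists_S4 χ hy
  obtain ⟨ζ, hζ⟩ : ∃ ζ : ℂ, IsPrimitiveRoot ζ 5 := ⟨_, Complex.isPrimitiveRoot_exp 5 (by norm_num)⟩
  have hsum : 1 + ζ + ζ ^ 2 + ζ ^ 3 + ζ ^ 4 = 0 := by
    have h := hζ.geom_sum_eq_zero (by norm_num)
    simpa [Finset.sum_range_succ] using h
  obtain ⟨q, hq⟩ := exists_sum_pow (Char.IsIrrCharacter.isCharacter χ.2) y (ζ := ζ)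
    (by rw [hy]; exact hζ.pow_eq_one)
  rw [hy] at hq
  simp only [Finset.sum_range_succ, Finset.sum_range_zero, pow_one, pow_zero, hv 2 (by norm_num),
    hv 3 (by norm_num), hv 4 (by norm_num)] at hq
  rw [← Char.IsCharacter.degree_cast (Char.IsIrrCharacter.isCharacter χ.2)] at hq
  rw [hS] at hm
  have hval : χ.1 y = (((m : ℤ) - q : ℤ) : ℂ) := by
    push_cast at hq ⊢
    linear_combination (1 / 5 : ℂ) * hm - (1 / 5 : ℂ) * hq + (χ.1 y / 5) * hsum
  refine ⟨(m : ℤ) - q, hval, ⟨(q : ℤ), ?_⟩, by rw [hS, hval]⟩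
  apply Int.cast_injective (α := ℂ)
  push_cast at hq hval ⊢
  linear_combination hq - χ.1 y * hsum - hval * (-1)

/-- A centraliser of order ten holds one involution, fixed by the normaliser of `⟨y⟩`. -/
theorem exists_invol_ten {y : G} (hy : orderOf y = 5)
    (hC : Nat.card ↥(centralizer ({y} : Set G)) = 10)
    (hN : Nat.card ↥(normalizer ((zpowers y : Subgroup G) : Set G)) = 40) :
    ∃ s : G, orderOf s = 2 ∧ Commute s y ∧
      ∀ k, ¬ 5 ∣ k → ∃ g : G, g * y * g⁻¹ = y ^ k ∧ g * s * g⁻¹ = s := by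
  classical
  haveI : Fact (Nat.Prime 2) := ⟨by norm_num⟩
  set C := centralizer ({y} : Set G) with hCdef
  obtain ⟨⟨s, hs⟩, hso⟩ := exists_prime_orderOf_dvd_card' (G := C) 2 (by rw [hC]; norm_num)
  rw [Subgroup.orderOf_mk] at hso
  have hsy : Commute s y := mem_centralizer_singleton_iff.1 hs
  refine ⟨s, hso, hsy, fun k hk => ?_⟩
  obtain ⟨g, hgN, hg⟩ := exists_conj_pow_five hy (by rw [hN, hC]) hk
  refine ⟨g, hg, ?_⟩
  have ho : orderOf (s * y) = 10 := by
    rw [hsy.orderOf_mul_eq_mul_orderOf_of_coprime (by rw [hso, hy]; norm_num), hso, hy]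
  have hgen : zpowers (s * y) = C := by
    refine eq_of_le_of_card_ge (zpowers_le.2 (mul_mem hs (mem_centralizer_singleton_iff.2 rfl))) ?_
    rw [hC, Nat.card_zpowers, ho]
  have hgs : g * s * g⁻¹ ∈ C := by
    refine mem_centralizer_singleton_iff.2 ?_
    have h1 : Commute (g * s * g⁻¹) (y ^ k) := by
      rw [← hg]; exact hsy.conj g
    have hj : k * k ^ 3 % 5 = 1 := by
      rw [Nat.mul_mod, Nat.pow_mod]
      have h2 : k % 5 < 5 := Nat.mod_lt _ (by norm_num)
      have h0 : k % 5 ≠ 0 := fun h => hk (Nat.dvd_of_mod_eq_zero h)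
      interval_cases h : k % 5 <;> simp_all
    have e : (y ^ k) ^ (k ^ 3) = y := by
      rw [← pow_mul, ← pow_mod_orderOf, hy, hj, pow_one]
    exact e ▸ (h1.pow_right (k ^ 3))
  rw [← hgen] at hgs hs
  obtain ⟨i, hi, hi'⟩ := (IsOfFinOrder.mem_powers_iff_mem_range_orderOf (isOfFinOrder_of_finite (s * y))).1
    (mem_powers_iff_mem_zpowers.2 hgs) |> Finset.mem_image.1
  obtain ⟨j, hj, hj'⟩ := (IsOfFinOrder.mem_powers_iff_mem_range_orderOf (isOfFinOrder_of_finite (s * y))).1
    (mem_powers_iff_mem_zpowers.2 hs) |> Finset.mem_image.1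
  rw [Finset.mem_range, ho] at hi hj
  have h5 : ∀ n, n < 10 → orderOf ((s * y) ^ n) = 2 → n = 5 := by
    intro n hn h
    rcases Nat.eq_zero_or_pos n with rfl | hn0
    · simp at h
    rw [orderOf_pow, ho] at h
    interval_cases n <;> simp_all
  have ei := h5 i hi (by rw [hi', show g * s * g⁻¹ = MulAut.conj g s from rfl, MulEquiv.orderOf_eq, hso])
  have ej := h5 j hj (by rw [hj', hso])
  subst ei
  subst ej
  exact hi'.symm.trans hj'

/-- The sum of the values at `y` and `s * y` is an even integer congruent to the values at `1` and `s`. -/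
theorem exists_value_sum (χ : Cfsg.IrrCharacter G) {y s : G} (hy : orderOf y = 5) (hs : orderOf s = 2)
    (hsy : Commute s y) (hfix : ∀ k, ¬ 5 ∣ k → ∃ g : G, g * y * g⁻¹ = y ^ k ∧ g * s * g⁻¹ = s)
    {a : ℤ} (ha : χ.1 s = a) :
    ∃ t : ℤ, χ.1 y + χ.1 (s * y) = ((2 * t : ℤ) : ℂ) ∧ (10 : ℤ) ∣ (Char.degree χ.1 : ℤ) + a - 2 * t := by
  have hs2 : s ^ 2 = 1 := by rw [← hs]; exact pow_orderOf_eq_one s
  have ho : orderOf (s * y) = 10 := by
    rw [hsy.orderOf_mul_eq_mul_orderOf_of_coprime (by rw [hs, hy]; norm_num), hs, hy]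
  have hv : ∀ k, ¬ 5 ∣ k → χ.1 (y ^ k) = χ.1 y ∧ χ.1 (s * y ^ k) = χ.1 (s * y) := fun k hk => by
    obtain ⟨g, hg, hgs⟩ := hfix k hk
    refine ⟨by rw [← hg, apply_conj], ?_⟩
    rw [← hg, show s * (g * y * g⁻¹) = g * (s * y) * g⁻¹ from by
      conv_lhs => rw [← hgs]
      group, apply_conj]
  have hpow : ∀ i, (s * y) ^ i = s ^ (i % 2) * y ^ i := fun i => by
    rw [hsy.mul_pow]
    congr 1
    rw [← hs, pow_mod_orderOf]
  have hodd : ∀ i, i % 2 = 1 → ¬ 5 ∣ i → χ.1 ((s * y) ^ i) = χ.1 (s * y) := fun i h1 h2 => by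
    rw [hpow, h1, pow_one]; exact (hv i h2).2
  have heven : ∀ i, i % 2 = 0 → ¬ 5 ∣ i → χ.1 ((s * y) ^ i) = χ.1 y := fun i h1 h2 => by
    rw [hpow, h1, pow_zero, one_mul]; exact (hv i h2).1
  have h5 : χ.1 ((s * y) ^ 5) = a := by
    rw [hpow, show 5 % 2 = 1 from rfl, pow_one, show y ^ 5 = 1 by rw [← hy]; exact pow_orderOf_eq_one y,
      mul_one, ha]
  obtain ⟨ζ, hζ⟩ : ∃ ζ : ℂ, IsPrimitiveRoot ζ 5 := ⟨_, Complex.isPrimitiveRoot_exp 5 (by norm_num)⟩
  have hsum : 1 + ζ + ζ ^ 2 + ζ ^ 3 + ζ ^ 4 = 0 := by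
    have h := hζ.geom_sum_eq_zero (by norm_num)
    simpa [Finset.sum_range_succ] using h
  obtain ⟨m, hm⟩ := exists_sum_pow_one (Char.IsIrrCharacter.isCharacter χ.2) (s * y)
  obtain ⟨q, hq⟩ := exists_sum_pow (Char.IsIrrCharacter.isCharacter χ.2) (s * y) (ζ := ζ)
    (by rw [ho, show (10 : ℕ) = 5 * 2 from rfl, pow_mul, hζ.pow_eq_one, one_pow])
  rw [ho] at hm hq
  have h6 : ζ ^ 6 = ζ := by rw [show 6 = 5 + 1 from rfl, pow_succ, hζ.pow_eq_one, one_mul]
  have h7 : ζ ^ 7 = ζ ^ 2 := by rw [show 7 = 5 + 2 from rfl, pow_add, hζ.pow_eq_one, one_mul]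
  have h8 : ζ ^ 8 = ζ ^ 3 := by rw [show 8 = 5 + 3 from rfl, pow_add, hζ.pow_eq_one, one_mul]
  have h9 : ζ ^ 9 = ζ ^ 4 := by rw [show 9 = 5 + 4 from rfl, pow_add, hζ.pow_eq_one, one_mul]
  simp only [Finset.sum_range_succ, Finset.sum_range_zero] at hm hq
  rw [h5, hodd 1 rfl (by norm_num), hodd 3 rfl (by norm_num), hodd 7 rfl (by norm_num),
    hodd 9 rfl (by norm_num), heven 2 rfl (by norm_num), heven 4 rfl (by norm_num),
    heven 6 rfl (by norm_num), heven 8 rfl (by norm_num)] at hm hq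
  simp only [pow_zero, pow_one] at hm hq
  rw [← Char.IsCharacter.degree_cast (Char.IsIrrCharacter.isCharacter χ.2)] at hm hq
  rw [h6, h7, h8, h9, hζ.pow_eq_one, one_mul, one_mul] at hq
  have hval : χ.1 y + χ.1 (s * y) = ((2 * ((m : ℤ) - q) : ℤ) : ℂ) := by
    push_cast at hm hq ⊢
    linear_combination (1 / 5 : ℂ) * hm - (1 / 5 : ℂ) * hq + ((χ.1 y + χ.1 (s * y)) / 5) * hsum
  refine ⟨(m : ℤ) - q, hval, ⟨(q : ℤ), ?_⟩⟩
  apply Int.cast_injective (α := ℂ)
  push_cast at hq hval ⊢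
  linear_combination hq - (χ.1 y + χ.1 (s * y)) * hsum + hval

/-- The column norms at `y` and `s * y` bound the sums of the two values. -/
theorem sum_norm_add_sq_le {x z : G} (hxz : ¬ IsConj x z) (t : Finset (Cfsg.IrrCharacter G)) :
    ∑ χ ∈ t, ‖χ.1 x + χ.1 z‖ ^ 2 ≤ (Nat.card ↥(centralizer ({x} : Set G)) : ℝ) +
      Nat.card ↥(centralizer ({z} : Set G)) := by
  classical
  have h1 := Char.sum_mul_conj x x
  have h2 := Char.sum_mul_conj z z
  have h3 := Char.sum_mul_conj x z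
  have h4 := Char.sum_mul_conj z x
  rw [if_pos (IsConj.refl x)] at h1
  rw [if_pos (IsConj.refl z)] at h2
  rw [if_neg hxz] at h3
  rw [if_neg (fun h => hxz h.symm)] at h4
  have h' : ∑ χ : Cfsg.IrrCharacter G, ‖χ.1 x + χ.1 z‖ ^ 2 =
      (Nat.card ↥(centralizer ({x} : Set G)) : ℝ) + Nat.card ↥(centralizer ({z} : Set G)) := by
    apply Complex.ofReal_injective
    push_cast
    have e : ∀ χ : Cfsg.IrrCharacter G, ((‖χ.1 x + χ.1 z‖ : ℂ)) ^ 2 =
        (χ.1 x * conj (χ.1 x) + χ.1 z * conj (χ.1 z)) + (χ.1 x * conj (χ.1 z) + χ.1 z * conj (χ.1 x)) := by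
      intro χ
      have h : (χ.1 x + χ.1 z) * conj (χ.1 x + χ.1 z) = ((‖χ.1 x + χ.1 z‖ : ℂ)) ^ 2 := by
        rw [Complex.mul_conj, Complex.normSq_eq_norm_sq]; push_cast; rfl
      rw [← h, map_add]; ring
    rw [Finset.sum_congr rfl (fun χ _ => e χ), Finset.sum_add_distrib, Finset.sum_add_distrib,
      Finset.sum_add_distrib, h1, h2, h3, h4]
    ring
  rw [← h']
  exact Finset.sum_le_sum_of_subset_of_nonneg (Finset.subset_univ _) fun χ _ _ => sq_nonneg _

variable [IsSimpleGroup G]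

/-- There is no character of degree 5 when an element of order 3 centralises one of order 5. -/
theorem no_five_three (hG : Nat.card G = 95040) (χ : Cfsg.IrrCharacter G) (hχ : χ ≠ Char.principalIrr)
    (hd : Char.degree χ.1 = 5) {y u : G} (hy : orderOf y = 5) (hu : orderOf u = 3) (huy : Commute u y) :
    False := by
  classical
  have hna : ¬ IsMulCommutative G := SmallOrder.not_comm_of_not_prime (by rw [hG]; norm_num)
  have hu3 : u ^ 3 = 1 := by rw [← hu]; exact pow_orderOf_eq_one u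
  have hu1 : u ≠ 1 := fun h => by rw [h, orderOf_one] at hu; norm_num at hu
  obtain ⟨μ, hμ, hval, -, hns⟩ := SmallOrder.exists_eigen_data hna hχ hu1 hu3
  have ho : orderOf (u * y) = 15 := by
    rw [huy.orderOf_mul_eq_mul_orderOf_of_coprime (by rw [hu, hy]; norm_num), hu, hy]
  have h0 : ∀ i : ℕ, 0 < i → i < 15 → ¬ 5 ∣ 3 * i → i % 5 ≠ 0 → χ.1 ((u * y) ^ i) = 0 := fun i h1 h2 _ hi => by
    refine vanish (p := 5) (by norm_num) hG χ hd (by norm_num) (by norm_num) ?_
    rw [orderOf_pow, ho]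
    interval_cases i <;> simp_all
  have h5 : (u * y) ^ 5 = u ^ 2 := by
    rw [huy.mul_pow, show y ^ 5 = 1 by rw [← hy]; exact pow_orderOf_eq_one y, mul_one,
      show 5 = 3 + 2 from rfl, pow_add, hu3, one_mul]
  have h10 : (u * y) ^ 10 = u ^ 1 := by
    rw [show 10 = 5 * 2 from rfl, pow_mul, h5, ← pow_mul, show 2 * 2 = 3 + 1 from rfl, pow_add, hu3, one_mul]
  have key : ∀ ω : ℂ, ω ^ 3 = 1 → ∃ m : ℕ, (Finset.univ.filter fun i => μ i = ω).card = 5 * m := by
    intro ω hω
    obtain ⟨m, hm⟩ := exists_sum_pow (Char.IsIrrCharacter.isCharacter χ.2) (u * y) (ζ := ω ^ 2)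
      (by rw [ho, ← pow_mul, show 2 * 15 = 3 * 10 from rfl, pow_mul, hω, one_pow])
    rw [ho] at hm
    simp only [Finset.sum_range_succ, Finset.sum_range_zero] at hm
    rw [pow_zero (u * y), h5, h10, h0 1 (by norm_num) (by norm_num) (by norm_num) (by norm_num),
      h0 2 (by norm_num) (by norm_num) (by norm_num) (by norm_num),
      h0 3 (by norm_num) (by norm_num) (by norm_num) (by norm_num),
      h0 4 (by norm_num) (by norm_num) (by norm_num) (by norm_num),
      h0 6 (by norm_num) (by norm_num) (by norm_num) (by norm_num),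
      h0 7 (by norm_num) (by norm_num) (by norm_num) (by norm_num),
      h0 8 (by norm_num) (by norm_num) (by norm_num) (by norm_num),
      h0 9 (by norm_num) (by norm_num) (by norm_num) (by norm_num),
      h0 11 (by norm_num) (by norm_num) (by norm_num) (by norm_num),
      h0 12 (by norm_num) (by norm_num) (by norm_num) (by norm_num),
      h0 13 (by norm_num) (by norm_num) (by norm_num) (by norm_num),
      h0 14 (by norm_num) (by norm_num) (by norm_num) (by norm_num), hval, hval,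
      ← pow_one (χ.1 1)] at hm
    have e5 : (ω ^ 2) ^ 5 = ω := by
      rw [← pow_mul, show 2 * 5 = 3 * 3 + 1 from rfl, pow_succ, pow_mul, hω, one_pow, one_mul]
    have e10 : (ω ^ 2) ^ 10 = ω ^ 2 := by
      rw [← pow_mul, show 2 * 10 = 3 * 6 + 2 from rfl, pow_add, pow_mul, hω, one_pow, one_mul]
    have hterm : ∀ i, (if μ i = ω then (3 : ℂ) else 0) = 1 + ω ^ 2 * μ i + ω * μ i ^ 2 := by
      intro i
      have hx : (ω ^ 2 * μ i) ^ 3 = 1 := by
        rw [mul_pow, ← pow_mul, show 2 * 3 = 3 * 2 from rfl, pow_mul, hω, one_pow, one_mul, hμ i]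
      have hsq : ω * μ i ^ 2 = (ω ^ 2 * μ i) ^ 2 := by
        linear_combination (-(ω * μ i ^ 2)) * hω
      split_ifs with h
      · subst h
        have : μ i ^ 2 * μ i = 1 := by rw [← pow_succ]; exact hμ i
        linear_combination (-2 : ℂ) * this
      · rw [hsq]
        have hne : ω ^ 2 * μ i ≠ 1 := fun e => h (by linear_combination (ω) * e - (μ i) * hω)
        rcases mul_eq_zero.1 (show (ω ^ 2 * μ i - 1) * (1 + ω ^ 2 * μ i + (ω ^ 2 * μ i) ^ 2) = 0 by
          linear_combination hx) with e | e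
        · exact absurd (sub_eq_zero.1 e) hne
        · exact e.symm
    have hcount : (3 : ℂ) * (Finset.univ.filter fun i => μ i = ω).card = 15 * m := by
      rw [mul_comm, ← nsmul_eq_mul, ← Finset.sum_const, Finset.sum_filter, Finset.sum_congr rfl (fun i _ => hterm i),
        Finset.sum_add_distrib, Finset.sum_add_distrib, ← Finset.mul_sum, ← Finset.mul_sum,
        Finset.sum_congr rfl (fun i _ => (pow_one (μ i)).symm)]
      rw [e5, e10, pow_one, ← Char.IsCharacter.degree_cast (Char.IsIrrCharacter.isCharacter χ.2)] at hm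
      simp only [Finset.sum_const, Finset.card_univ, Fintype.card_fin, nsmul_eq_mul, mul_one]
      simp only [pow_zero, zero_add, mul_zero, add_zero, one_mul] at hm
      linear_combination hm
    exact ⟨m, by exact_mod_cast (mul_left_cancel₀ (by norm_num : (3 : ℂ) ≠ 0)
      (hcount.trans (by push_cast; ring : (15 : ℂ) * m = 3 * ((5 * m : ℕ) : ℂ))))⟩
  have hne : 0 < Char.degree χ.1 := by omega
  obtain ⟨m, hm⟩ := key (μ ⟨0, hne⟩) (hμ _)
  have hpos : 0 < (Finset.univ.filter fun i => μ i = μ ⟨0, hne⟩).card :=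
    Finset.card_pos.2 ⟨_, Finset.mem_filter.2 ⟨Finset.mem_univ _, rfl⟩⟩
  have hall : (Finset.univ.filter fun i => μ i = μ ⟨0, hne⟩) = Finset.univ := by
    refine Finset.eq_univ_of_card _ (le_antisymm (Finset.card_le_univ _) ?_)
    rw [Fintype.card_fin]
    omega
  exact hns ⟨μ ⟨0, hne⟩, fun i => by
    have h := Finset.mem_univ i
    rw [← hall] at h
    exact (Finset.mem_filter.1 h).2⟩

/-- Two characters cannot both take the value `-8` at all involutions if one has degree 12. -/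
theorem exists_invol_ne_neg_eight (hG : Nat.card G = 95040) (χ : Cfsg.IrrCharacter G)
    (hd : Char.degree χ.1 = 12) : ∃ y : G, y ≠ 1 ∧ y ^ 2 = 1 ∧ χ.1 y ≠ -8 := by
  classical
  by_contra h
  push Not at h
  have hna : ¬ IsMulCommutative G := SmallOrder.not_comm_of_not_prime (by rw [hG]; norm_num)
  obtain ⟨E, hE⟩ := SelfCentNoncyclic.exists_four hna (by rw [hG]; exact ⟨47520, rfl⟩)
  haveI := hE
  haveI : Fintype E := Fintype.ofFinite _
  obtain ⟨m, hm⟩ := exists_average (H := E)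
    (Char.IsCharacter.restrict (Char.IsIrrCharacter.isCharacter χ.2) E) 1
  have hc : Fintype.card E = 4 := by rw [← Nat.card_eq_fintype_card]; exact IsKleinFour.card_four
  simp only [MonoidHom.one_apply, one_mul] at hm
  have hrest : ∀ x ∈ (Finset.univ : Finset E).erase 1, χ.1 (x : G) = -8 := fun x hx => by
    refine h x (fun e => (Finset.mem_erase.1 hx).1 (Subtype.ext e)) ?_
    rw [pow_two, ← Subgroup.coe_mul, IsKleinFour.mul_self, Subgroup.coe_one]
  rw [← Finset.add_sum_erase _ _ (Finset.mem_univ (1 : E)), Finset.sum_congr rfl hrest, Finset.sum_const,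
    Finset.card_erase_of_mem (Finset.mem_univ _), Finset.card_univ, hc, Subgroup.coe_one,
    ← Char.IsCharacter.degree_cast (Char.IsIrrCharacter.isCharacter χ.2), hd] at hm
  have : ((12 : ℤ) + 3 * (-8) : ℂ) = ((4 * m : ℤ) : ℂ) := by
    norm_num [nsmul_eq_mul] at hm ⊢
    linear_combination hm
  have e : (12 : ℤ) + 3 * (-8) = 4 * (m : ℤ) := by exact_mod_cast this
  omega

end CfsgLib.M12Order
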