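import Cfsg.Agent.Lib.M12Order.ElevenAux

/-!
In a simple group of order `95040` a Sylow `11`-subgroup is self-centralising with normaliser of order `55`.
-/

set_option autoImplicit false

namespace CfsgLib.M12Order

open Subgroup CfsgLib.SmallOrder

variable {G : Type*} [Group G]

theorem card_centralizer_conj (a g : G) :
    Nat.card ↥(centralizer ({a * g * a⁻¹} : Set G)) = Nat.card ↥(centralizer ({g} : Set G)) := by
  refine Nat.card_congr ((MulAut.conj a).toEquiv.subtypeEquiv fun u => ?_).symm
  simp only [mem_centralizer_singleton_iff, MulEquiv.toEquiv_eq_coe, EquivLike.coe_coe, MulAut.conj_apply]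
  constructor
  · intro h
    calc a * u * a⁻¹ * (a * g * a⁻¹) = a * (u * g) * a⁻¹ := by group
      _ = a * (g * u) * a⁻¹ := by rw [h]
      _ = a * g * a⁻¹ * (a * u * a⁻¹) := by group
  · intro h
    calc u * g = a⁻¹ * (a * u * a⁻¹ * (a * g * a⁻¹)) * a := by group
      _ = a⁻¹ * (a * g * a⁻¹ * (a * u * a⁻¹)) * a := by rw [h]
      _ = g * u := by group

theorem card_centralizer_inv (g : G) :
    Nat.card ↥(centralizer ({g⁻¹} : Set G)) = Nat.card ↥(centralizer ({g} : Set G)) := by
  refine Nat.card_congr (Equiv.subtypeEquivRight fun u => ?_)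
  rw [mem_centralizer_singleton_iff, mem_centralizer_singleton_iff]
  exact ⟨fun h => Commute.inv_right_iff.1 (show Commute u g⁻¹ from h),
    fun h => Commute.inv_right (show Commute u g from h)⟩

/-- An element of a simple non-abelian group commuting with all its conjugates is trivial. -/
theorem eq_one_of_commute_conjugates [IsSimpleGroup G] (hG : ¬ IsMulCommutative G) {g : G}
    (h : ∀ x, IsConj g x → Commute g x) : g = 1 := by
  by_contra hg
  have hle : normalClosure ({g} : Set G) ≤ centralizer ({g} : Set G) := by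
    refine (closure_le _).2 fun x hx => ?_
    obtain ⟨a, ha, hax⟩ := Group.mem_conjugatesOfSet_iff.1 hx
    rw [Set.mem_singleton_iff] at ha
    subst ha
    exact mem_centralizer_singleton_iff.2 (h x hax).eq.symm
  have htop : normalClosure ({g} : Set G) = ⊤ := by
    refine normal_eq_top normalClosure_normal fun hb => hg ?_
    have := subset_normalClosure (Set.mem_singleton g) (s := ({g} : Set G))
    rw [hb] at this
    exact this
  apply hg
  have hcen : g ∈ Subgroup.center G := Subgroup.mem_center_iff.2 fun a =>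
    mem_centralizer_singleton_iff.1 (hle (htop ▸ Subgroup.mem_top a))
  rwa [center_eq_bot_of_not_comm hG, Subgroup.mem_bot] at hcen

/-- An element of the normaliser of order prime to the index over the centraliser centralises. -/
theorem mem_centralizer_of_coprime [Finite G] {S : Subgroup G} {a e : ℕ}
    (hC : Nat.card ↥(centralizer (S : Set G)) = a) (hN : Nat.card ↥(normalizer (S : Set G)) = a * e)
    {g : G} (hg : g ∈ normalizer (S : Set G)) (ho : Nat.Coprime e (orderOf g)) :
    g ∈ centralizer (S : Set G) := by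
  have ha : 0 < a := hC ▸ Nat.card_pos
  have : ((centralizer (S : Set G)).subgroupOf (normalizer (S : Set G))).Normal := by
    rw [← Subgroup.normalizerMonoidHom_ker]
    exact MonoidHom.normal_ker _
  have hidx : ((centralizer (S : Set G)).subgroupOf (normalizer (S : Set G))).index = e := by
    have h := ((centralizer (S : Set G)).subgroupOf (normalizer (S : Set G))).card_mul_index
    rw [Nat.card_congr (subgroupOfEquivOfLe (centralizer_le_normalizer _)).toEquiv, hC, hN] at h
    exact Nat.eq_of_mul_eq_mul_left ha h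
  have h := Subgroup.pow_index_mem ((centralizer (S : Set G)).subgroupOf (normalizer (S : Set G)))
    (⟨g, hg⟩ : ↥(normalizer (S : Set G)))
  rw [hidx, mem_subgroupOf, SubmonoidClass.coe_pow] at h
  obtain ⟨m, hm⟩ := exists_pow_eq_self_of_coprime ho
  rw [← hm]
  exact pow_mem h m

section

variable [Finite G] [IsSimpleGroup G] [Fact (Nat.Prime 11)]

/-- The part of the class of `g` outside the centraliser of `P` consists of `11 k` elements. -/
theorem card_outside_le (hG : Nat.card G = 95040) (P : Sylow 11 G)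
    (hP : Nat.card ↥(P : Subgroup G) = 11) (hn : Nat.card (Sylow 11 G) = 144) {q a m : ℕ} [Fact q.Prime]
    (hqm : 95040 = q ^ a * m) (hqm' : ¬ q ∣ m) (hq660 : ¬ q ^ a ∣ 660) {g : G} (hgo : orderOf g = q)
    (hgC : g ∈ centralizer ((P : Subgroup G) : Set G))
    (hNC : ∀ h ∈ normalizer ((P : Subgroup G) : Set G), orderOf h = q →
      h ∈ centralizer ((P : Subgroup G) : Set G))
    {b : ℕ} (hb : b ≤ 3)
    (hk : Nat.card {h : G // orderOf h = q ∧ h ∈ centralizer ((P : Subgroup G) : Set G)} ≤ b)
    (hsame : ∀ h ∈ centralizer ((P : Subgroup G) : Set G), orderOf h = q →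
      Nat.card ↥(centralizer ({h} : Set G)) = Nat.card ↥(centralizer ({g} : Set G))) :
    Nat.card (MulAction.orbitRel.Quotient ↥(P : Subgroup G) (Outside P g)) ≤ b := by
  classical
  have hG' : ¬ IsMulCommutative G := not_comm_of_not_prime (by rw [hG]; norm_num)
  have hqp := (Fact.out : q.Prime)
  set N := normalizer ((P : Subgroup G) : Set G) with hNdef
  set C := centralizer ((P : Subgroup G) : Set G) with hCdef
  have hCN : C ≤ N := centralizer_le_normalizer _
  have hidx : N.index = 144 := P.card_eq_index_normalizer.symm.trans hn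
  have hN660 : Nat.card N = 660 := by
    have := card_normalizer_mul P
    rw [hn, hG] at this
    rw [hNdef]
    omega
  have hNtop : N ≠ ⊤ := fun h => by rw [h, index_top] at hidx; omega
  have hg1 : g ≠ 1 := by rintro rfl; rw [orderOf_one] at hgo; exact hqp.ne_one hgo.symm
  have hbase : g • (QuotientGroup.mk (1 : G) : G ⧸ N) = QuotientGroup.mk (1 : G) := by
    rw [MulAction.Quotient.smul_mk, QuotientGroup.eq, smul_eq_mul, mul_one, mul_one]
    exact inv_mem (hCN hgC)
  set f := Nat.card (MulAction.fixedBy (G ⧸ N) g) with hf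
  have hflt : f < 144 := by
    rw [← hidx]
    refine lt_of_le_of_ne (Finite.card_subtype_le _) fun he => ?_
    have hF : MulAction.fixedBy (G ⧸ N) g = Set.univ := by
      refine Set.eq_of_subset_of_ncard_le (Set.subset_univ _) ?_ Set.finite_univ
      rw [Set.ncard_univ, ← Nat.card_coe_set_eq]
      exact (he.ge : N.index ≤ f)
    exact hg1 (toPermHom_injective hNtop (a₁ := g) (a₂ := 1) (by
      rw [map_one]
      exact Equiv.ext fun c => (hF ▸ Set.mem_univ c : c ∈ MulAction.fixedBy (G ⧸ N) g)))
  have hfmod : f % 11 = 1 := by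
    let F := {c : G ⧸ N // g • c = c}
    have hcomm : ∀ u ∈ (P : Subgroup G), u * g = g * u := fun u hu => mem_centralizer_iff.1 hgC u hu
    let _ : MulAction ↥(P : Subgroup G) F :=
      { smul := fun u c => ⟨(u : G) • c.1, by rw [← mul_smul, ← hcomm u u.2, mul_smul, c.2]⟩
        one_smul := fun c => Subtype.ext (one_smul G c.1)
        mul_smul := fun u v c => Subtype.ext (mul_smul (u : G) v c.1) }
    have hfp : MulAction.fixedPoints ↥(P : Subgroup G) F = {⟨QuotientGroup.mk (1 : G), hbase⟩} := by
      ext c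
      rw [MulAction.mem_fixedPoints, Set.mem_singleton_iff]
      constructor
      · intro h
        by_contra hne
        obtain ⟨⟨u, hu⟩, huo⟩ :=
          exists_prime_orderOf_dvd_card' (G := ↥(P : Subgroup G)) 11 (by rw [hP])
        rw [orderOf_mk] at huo
        have h1 := orbit_injective P hP (fun e => hne (Subtype.ext e)) hu
          (congrArg Subtype.val (h ⟨u, hu⟩))
        rw [h1, orderOf_one] at huo
        omega
      · rintro rfl ⟨u, hu⟩
        refine Subtype.ext ?_
        change (QuotientGroup.mk (u * 1) : G ⧸ N) = QuotientGroup.mk (1 : G)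
        rw [QuotientGroup.eq, mul_one, mul_one]
        exact inv_mem (le_normalizer hu)
    have h11 := P.2.card_modEq_card_fixedPoints F
    rw [hfp, Nat.card_coe_set_eq, Set.ncard_singleton] at h11
    change f ≡ 1 [MOD 11] at h11
    exact h11
  set k := Nat.card {h : G // IsConj g h ∧ h ∈ N} with hkdef
  have hcount : f * Nat.card {h : G // IsConj g h} = 144 * k := by
    rw [hkdef, ← hidx, hf]
    exact card_fixedBy_mul_card_class N g
  have hord : ∀ h, IsConj g h → orderOf h = q := by
    intro h hh
    obtain ⟨x, rfl⟩ := isConj_iff.1 hh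
    rw [show x * g * x⁻¹ = MulAut.conj x g by simp, MulEquiv.orderOf_eq, hgo]
  have hiff : ∀ h, IsConj g h → (h ∈ N ↔ h ∈ C) := fun h hh =>
    ⟨fun hN => hNC h hN (hord h hh), fun hC => hCN hC⟩
  have hk1 : 1 ≤ k := by
    have : Nonempty {h : G // IsConj g h ∧ h ∈ N} := ⟨⟨g, IsConj.refl _, hCN hgC⟩⟩
    exact Nat.card_pos
  have hkb : k ≤ b := by
    refine le_trans ?_ hk
    refine Nat.card_le_card_of_injective
      (fun h : {h : G // IsConj g h ∧ h ∈ N} => (⟨h.1, hord _ h.2.1, (hiff _ h.2.1).1 h.2.2⟩ :
        {h : G // orderOf h = q ∧ h ∈ C})) ?_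
    intro h₁ h₂ he
    exact Subtype.ext (congrArg (fun x : {h : G // orderOf h = q ∧ h ∈ C} => x.1) he)
  have hf12 : f = 1 ∨ f = 12 :=
    (by decide : ∀ f < 144, f % 11 = 1 → ∀ k ∈ [1, 2, 3], 144 * k % f = 0 → f = 1 ∨ f = 12) f hflt hfmod
      k (by simp only [List.mem_cons, List.not_mem_nil, or_false]; omega)
      (Nat.mod_eq_zero_of_dvd ⟨_, hcount.symm⟩)
  rcases hf12 with hf1 | hf12
  · exfalso
    apply hq660
    have hle : centralizer ({g} : Set G) ≤ N := by
      intro x hx
      rw [mem_centralizer_singleton_iff] at hx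
      have hmem : x • (QuotientGroup.mk (1 : G) : G ⧸ N) ∈ MulAction.fixedBy (G ⧸ N) g := by
        rw [MulAction.mem_fixedBy, ← mul_smul, ← hx, mul_smul, hbase]
      have hss : Subsingleton ↥(MulAction.fixedBy (G ⧸ N) g) := (Nat.card_eq_one_iff_unique.1 hf1).1
      have he := congrArg Subtype.val (hss.elim ⟨_, hmem⟩ ⟨QuotientGroup.mk (1 : G), hbase⟩)
      change x • (QuotientGroup.mk (1 : G) : G ⧸ N) = QuotientGroup.mk (1 : G) at he
      rw [MulAction.Quotient.smul_mk, QuotientGroup.eq, smul_eq_mul, mul_one, mul_one, inv_mem_iff] at he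
      exact he
    obtain ⟨T, hgT⟩ := (IsPGroup.of_card (p := q) (n := 1) (G := zpowers g)
      (by rw [Nat.card_zpowers, hgo, pow_one])).exists_le_sylow
    have hT : Nat.card ↥(T : Subgroup G) = q ^ a := card_sylow_eq (by rw [hG, hqm]) hqm' T
    have hgT' : g ∈ (T : Subgroup G) := hgT (mem_zpowers g)
    have hnt : Nontrivial ↥(T : Subgroup G) :=
      ⟨⟨⟨g, hgT'⟩, 1, fun h => hg1 (congrArg Subtype.val h)⟩⟩
    have hz := T.2.center_nontrivial
    obtain ⟨j, hj, hjc⟩ := (T.2.to_subgroup (Subgroup.center ↥(T : Subgroup G))).nontrivial_iff_card.1 hz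
    obtain ⟨⟨⟨w, hwT⟩, hwc⟩, hwo⟩ :=
      exists_prime_orderOf_dvd_card' (G := Subgroup.center ↥(T : Subgroup G)) q (by
        rw [hjc]; exact dvd_pow_self q (by omega))
    rw [orderOf_mk, orderOf_mk] at hwo
    have hwcomm : ∀ t ∈ (T : Subgroup G), t * w = w * t := fun t ht =>
      congrArg Subtype.val (Subgroup.mem_center_iff.1 hwc ⟨t, ht⟩)
    have hwC : w ∈ C := hNC w (hle (mem_centralizer_singleton_iff.2 (hwcomm g hgT').symm)) hwo
    rw [← hT, ← hN660]
    refine (card_dvd_of_le (fun t ht => mem_centralizer_singleton_iff.2 (hwcomm t ht))).trans ?_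
    rw [hsame w hwC hwo]
    exact card_dvd_of_le hle
  · have hsplit : Nat.card {h : G // IsConj g h} = k + Nat.card (Outside P g) := by
      rw [hkdef, ← Nat.card_congr (Equiv.sumCompl fun x : {h : G // IsConj g h} => x.1 ∈ C), Nat.card_sum]
      congr 1
      · exact Nat.card_congr ((Equiv.subtypeSubtypeEquivSubtypeInter (fun h => IsConj g h)
          (fun h => h ∈ C)).trans
          (Equiv.subtypeEquivRight fun h => and_congr_right fun hh => (hiff h hh).symm))
      · exact Nat.card_congr (Equiv.subtypeSubtypeEquivSubtypeInter (fun h => IsConj g h)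
          (fun h => h ∉ C))
    have horb := card_orbits_outside P hP g
    rw [hf12, hsplit, ← horb] at hcount
    omega

theorem no_144 (hG : Nat.card G = 95040) (P : Sylow 11 G) (hP : Nat.card ↥(P : Subgroup G) = 11)
    (hn : Nat.card (Sylow 11 G) = 144) {c e : ℕ} (hce : (c = 6 ∧ e = 10) ∨ (c = 12 ∧ e = 5))
    (hC : Nat.card ↥(centralizer ((P : Subgroup G) : Set G)) = 11 * c)
    (hN : Nat.card ↥(normalizer ((P : Subgroup G) : Set G)) = 11 * c * e) : False := by
  classical
  have hG' : ¬ IsMulCommutative G := not_comm_of_not_prime (by rw [hG]; norm_num)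
  have : Fact (Nat.Prime 3) := ⟨Nat.prime_three⟩
  have : Fact (Nat.Prime 2) := ⟨Nat.prime_two⟩
  obtain ⟨S⟩ := exists_csplit P hP
  have hVc : Nat.card S.V = c := by
    have := S.card_centralizer
    rw [hC] at this
    omega
  have hinV : ∀ h ∈ centralizer ((P : Subgroup G) : Set G), orderOf h ∣ c → h ∈ S.V := fun h hh hd =>
    S.mem_V_iff.2 ⟨hh, orderOf_dvd_iff_pow_eq_one.1 (hVc.symm ▸ hd)⟩
  have h3c : 3 ∣ c := by rcases hce with ⟨rfl, -⟩ | ⟨rfl, -⟩ <;> norm_num
  obtain ⟨x, hx⟩ := exists_prime_orderOf_dvd_card' (G := S.V) 3 (by rw [hVc]; exact h3c)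
  have hxo : orderOf (x : G) = 3 := by rw [orderOf_coe]; exact hx
  have hxC := S.v_mem_centralizer x.2
  by_cases hs : ∀ y : S.V, orderOf y = 3 → y ∈ zpowers x
  · -- at most two elements of order three
    have hco : Nat.Coprime e 3 := by rcases hce with ⟨-, rfl⟩ | ⟨-, rfl⟩ <;> norm_num
    have htwo : ∀ h ∈ centralizer ((P : Subgroup G) : Set G), orderOf h = 3 →
        h = (x : G) ∨ h = (x : G)⁻¹ := by
      intro h hh ho
      have hy := hs ⟨h, hinV h hh (ho ▸ h3c)⟩ (by rw [orderOf_mk]; exact ho)
      obtain ⟨k, hk⟩ := mem_powers_iff_mem_zpowers.2 hy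
      have hk' : (x : G) ^ k = h := by simpa using congrArg Subtype.val hk
      rw [← pow_mod_orderOf, hxo] at hk'
      have hlt : k % 3 < 3 := Nat.mod_lt _ (by norm_num)
      interval_cases hr : k % 3
      · rw [pow_zero] at hk'; rw [← hk', orderOf_one] at ho; omega
      · exact Or.inl (by rw [← hk', pow_one])
      · refine Or.inr (eq_inv_of_mul_eq_one_left ?_)
        rw [← hk', ← pow_succ, show 2 + 1 = orderOf (x : G) by rw [hxo], pow_orderOf_eq_one]
    have hle := card_outside_le hG P hP hn (q := 3) (a := 3) (m := 3520) (by norm_num) (by norm_num)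
      (by norm_num) hxo hxC
      (fun h hh ho => mem_centralizer_of_coprime hC hN hh (ho.symm ▸ hco)) (b := 2) (by norm_num)
      (by
        rw [show Nat.card {h : G // orderOf h = 3 ∧ h ∈ centralizer ((P : Subgroup G) : Set G)} =
          Set.ncard {h : G | orderOf h = 3 ∧ h ∈ centralizer ((P : Subgroup G) : Set G)} from
          Nat.card_coe_set_eq _]
        refine (Set.ncard_le_ncard (t := {(x : G), (x : G)⁻¹}) (fun h hh => ?_) (Set.toFinite _)).trans ?_
        · simpa using htwo h hh.2 hh.1
        · exact (Set.ncard_insert_le _ _).trans (by rw [Set.ncard_singleton]))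
      (fun h hh ho => by
        rcases htwo h hh ho with rfl | rfl
        · rfl
        · exact card_centralizer_inv _)
    have hφ : orbitHom P (x : G) ⟨x, hxC⟩ = 1 := by
      set φ := orbitHom P (x : G) ⟨x, hxC⟩ with hφdef
      have h1 : orderOf φ ∣ 3 := by
        refine (orderOf_map_dvd _ _).trans ?_
        rw [orderOf_mk, hxo]
      have h2 : orderOf φ ∣ 2 := by
        refine (orderOf_dvd_natCard φ).trans ?_
        rw [Nat.card_perm]
        exact Nat.factorial_dvd_factorial hle
      exact orderOf_eq_one_iff.1 (Nat.eq_one_of_dvd_coprimes (by norm_num) h1 h2)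
    have hx1 : (x : G) = 1 := by
      refine eq_one_of_commute_conjugates hG' fun h hh => ?_
      by_cases hhC : h ∈ centralizer ((P : Subgroup G) : Set G)
      · have ho : orderOf h = 3 := by
          obtain ⟨a, rfl⟩ := isConj_iff.1 hh
          rw [show a * (x : G) * a⁻¹ = MulAut.conj a (x : G) by simp, MulEquiv.orderOf_eq, hxo]
        rcases htwo h hhC ho with rfl | rfl
        · exact Commute.refl _
        · exact (Commute.refl _).inv_right
      · exact commute_of_orbitHom_eq_one P hP hxC (hxo ▸ pow_orderOf_eq_one (x : G)) (by norm_num) hφ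
          ⟨h, hh, hhC⟩
    rw [hx1, orderOf_one] at hxo
    omega
  · push Not at hs
    obtain ⟨y, hy, hyx⟩ := hs
    obtain ⟨hc12, z, z', hz, hz', hne, hcard, hall⟩ :=
      twelve_structure hVc (by rcases hce with ⟨h, -⟩ | ⟨h, -⟩ <;> omega) hx hy hyx
    obtain rfl : e = 5 := by omega
    have hzo : orderOf (z : G) = 2 := by rw [orderOf_coe]; exact hz
    have hzC := S.v_mem_centralizer z.2
    have hlift : ∀ h ∈ centralizer ((P : Subgroup G) : Set G), orderOf h = 2 →
        ∃ t : S.V, orderOf t = 2 ∧ (t : G) = h := fun h hh ho =>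
      ⟨⟨h, hinV h hh (by rw [ho, hc12]; norm_num)⟩, by rw [orderOf_mk]; exact ho, rfl⟩
    have hle := card_outside_le hG P hP hn (q := 2) (a := 6) (m := 1485) (by norm_num) (by norm_num)
      (by norm_num) hzo hzC
      (fun h hh ho => mem_centralizer_of_coprime hC hN hh (by rw [ho]; norm_num)) (b := 3) le_rfl
      (by
        refine le_trans ?_ hcard
        refine Nat.card_le_card_of_injective
          (fun h : {h : G // orderOf h = 2 ∧ h ∈ centralizer ((P : Subgroup G) : Set G)} =>
            (⟨⟨h.1, hinV h.1 h.2.2 (by rw [h.2.1, hc12]; norm_num)⟩, by rw [orderOf_mk]; exact h.2.1⟩ :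
              {t : S.V // orderOf t = 2})) ?_
        intro h₁ h₂ he
        exact Subtype.ext (congrArg (fun t : {t : S.V // orderOf t = 2} => (t.1 : G)) he))
      (fun h hh ho => by
        obtain ⟨t, ht, rfl⟩ := hlift h hh ho
        obtain ⟨v, rfl⟩ := isConj_iff.1 (hall t ht).2
        rw [coe_mul, coe_mul, coe_inv]
        exact card_centralizer_conj (v : G) (z : G))
    have hφ : orbitHom P (z : G) ⟨z, hzC⟩ = 1 := by
      let ι : ↥S.V →* ↥(centralizer ((P : Subgroup G) : Set G)) :=
        Subgroup.inclusion fun v hv => S.v_mem_centralizer hv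
      let Ω := MulAction.orbitRel.Quotient ↥(P : Subgroup G) (Outside P (z : G))
      obtain ⟨r⟩ : Nonempty (Ω ↪ Fin 3) := by
        have := Fintype.ofFinite Ω
        exact Function.Embedding.nonempty_of_card_le (by rwa [Fintype.card_fin, ← Nat.card_eq_fintype_card])
      let F : ↥S.V →* Equiv.Perm (Fin 3) :=
        (Equiv.Perm.viaEmbeddingHom r).comp ((orbitHom P (z : G)).comp ι)
      have key : ∀ t : ↥S.V, orderOf t = 2 → F t = 1 → F z = 1 := by
        intro t ht h1
        obtain ⟨v, hv⟩ := isConj_iff.1 (hall t ht).2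
        rw [show z = v⁻¹ * t * v by rw [← hv]; group, map_mul, map_mul, h1, mul_one, ← map_mul,
          inv_mul_cancel, map_one]
      have hsq : ∀ t : ↥S.V, orderOf t = 2 → t * t = 1 := fun t ht => by
        rw [← pow_two, ← ht, pow_orderOf_eq_one]
      have hzz : Commute z z' := (hall z' hz').1
      have hprod : orderOf (z * z') = 2 := by
        refine orderOf_eq_prime ?_ ?_
        · rw [hzz.mul_pow, pow_two, pow_two, hsq z hz, hsq z' hz', one_mul]
        · intro h
          exact hne (mul_right_cancel (h.trans (hsq z' hz').symm))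
      have hS3 : ∀ a b : Equiv.Perm (Fin 3), a * a = 1 → b * b = 1 → a * b = b * a →
          a = 1 ∨ b = 1 ∨ a * b = 1 := by decide
      have hFz : F z = 1 := by
        rcases hS3 (F z) (F z') (by rw [← map_mul, hsq z hz, map_one])
          (by rw [← map_mul, hsq z' hz', map_one]) (by rw [← map_mul, ← map_mul, hzz.eq]) with h | h | h
        · exact h
        · exact key z' hz' h
        · exact key (z * z') hprod (by rw [map_mul]; exact h)
      exact Equiv.Perm.viaEmbeddingHom_injective r (hFz.trans (map_one _).symm)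
    have hz1 : (z : G) = 1 := by
      refine eq_one_of_commute_conjugates hG' fun h hh => ?_
      by_cases hhC : h ∈ centralizer ((P : Subgroup G) : Set G)
      · have ho : orderOf h = 2 := by
          obtain ⟨a, rfl⟩ := isConj_iff.1 hh
          rw [show a * (z : G) * a⁻¹ = MulAut.conj a (z : G) by simp, MulEquiv.orderOf_eq, hzo]
        obtain ⟨t, ht, rfl⟩ := hlift h hhC ho
        exact congrArg Subtype.val (hall t ht).1.eq
      · exact commute_of_orbitHom_eq_one P hP hzC (hzo ▸ pow_orderOf_eq_one (z : G)) (by norm_num) hφ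
          ⟨h, hh, hhC⟩
    rw [hz1, orderOf_one] at hzo
    omega

end

/-- The centraliser and the normaliser of a Sylow `11`-subgroup have orders `11` and `55`. -/
theorem sylow_eleven {G : Type*} [Group G] [Finite G] [IsSimpleGroup G] (hG : Nat.card G = 95040)
    [Fact (Nat.Prime 11)] (P : Sylow 11 G) :
    Nat.card ↥(Subgroup.centralizer ((P : Subgroup G) : Set G)) = 11 ∧
      Nat.card ↥(Subgroup.normalizer ((P : Subgroup G) : Set G)) = 55 := by
  have hP : Nat.card ↥(P : Subgroup G) = 11 := by
    simpa using card_sylow_eq (e := 1) (m := 8640) (by rw [hG]; norm_num) (by norm_num) P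
  obtain ⟨n, c, e, hmem, hn, hC, hN⟩ := exists_option hG 8640 308 [(144, 6, 10), (144, 12, 5), (1728, 1, 5)]
    (by norm_num) (by norm_num) (by norm_num) (by decide +kernel) P
  simp only [List.mem_cons, List.not_mem_nil, or_false, Prod.mk.injEq] at hmem
  rcases hmem with ⟨rfl, rfl, rfl⟩ | ⟨rfl, rfl, rfl⟩ | ⟨rfl, rfl, rfl⟩
  · exact (no_144 hG P hP hn (Or.inl ⟨rfl, rfl⟩) hC hN).elim
  · exact (no_144 hG P hP hn (Or.inr ⟨rfl, rfl⟩) hC hN).elim
  · exact ⟨by omega, by omega⟩

end CfsgLib.M12Order
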