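import Cfsg.Agent.Lib.SmallOrder.Options
import Cfsg.Agent.Lib.SmallOrder.PrimeSylow
import Cfsg.Agent.Lib.SmallOrder.CentralizerSplit
import Mathlib.GroupTheory.Perm.ViaEmbedding

/-!
Auxiliary facts for the Sylow `11`-subgroup of a simple group of order `95040`: a group of order `6` or `12`
with more than two elements of order `3`, and the action of a centraliser on the part of a class outside it.
-/

set_option autoImplicit false

namespace CfsgLib.M12Order

open Subgroup CfsgLib.SmallOrder

/-- A group of order `6` or `12` with two subgroups of order `3` is like `A₄`: its involutions are three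
commuting conjugate elements. -/
theorem twelve_structure {V : Type*} [Group V] [Finite V] {c : ℕ} (hV : Nat.card V = c)
    (hc : c = 6 ∨ c = 12) {x y : V} (hx : orderOf x = 3) (hy : orderOf y = 3) (hyx : y ∉ zpowers x) :
    c = 12 ∧ ∃ z z' : V, orderOf z = 2 ∧ orderOf z' = 2 ∧ z ≠ z' ∧
      Nat.card {t : V // orderOf t = 2} ≤ 3 ∧
      ∀ t, orderOf t = 2 → Commute z t ∧ IsConj z t := by
  classical
  have : Fact (Nat.Prime 3) := ⟨Nat.prime_three⟩
  have : Fact (Nat.Prime 2) := ⟨Nat.prime_two⟩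
  have hsyl : ∀ u : V, orderOf u = 3 → ∃ Q : Sylow 3 V, (Q : Subgroup V) = zpowers u := by
    intro u hu
    exact exists_sylow_eq (m := c / 3) (by rcases hc with rfl | rfl <;> omega)
      (by rcases hc with rfl | rfl <;> norm_num) (by rw [Nat.card_zpowers, hu])
  have h3 : ∀ Q : Sylow 3 V, Nat.card ↥(Q : Subgroup V) = 3 := fun Q => by
    simpa using card_sylow_eq (e := 1) (m := c / 3) (by rcases hc with rfl | rfl <;> omega)
      (by rcases hc with rfl | rfl <;> norm_num) Q
  obtain ⟨Qx, hQx⟩ := hsyl x hx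
  obtain ⟨Qy, hQy⟩ := hsyl y hy
  have hne : Qy ≠ Qx := fun h => hyx (by rw [← hQx, ← h, hQy]; exact mem_zpowers y)
  have : Nontrivial (Sylow 3 V) := ⟨⟨Qy, Qx, hne⟩⟩
  have hn1 : 1 < Nat.card (Sylow 3 V) := Finite.one_lt_card
  have hmod := card_sylow_modEq_one 3 V
  unfold Nat.ModEq at hmod
  have key : ∀ Q : Sylow 3 V, c = 12 ∧ Nat.card (Sylow 3 V) = 4 ∧
      normalizer ((Q : Subgroup V) : Set V) = (Q : Subgroup V) := by
    intro Q
    have hle : (Q : Subgroup V) ≤ normalizer ((Q : Subgroup V) : Set V) := le_normalizer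
    obtain ⟨j, hj⟩ := card_dvd_of_le hle
    rw [h3] at hj
    have hmul := card_normalizer_mul Q
    rw [hj, hV, mul_assoc] at hmul
    have hnle : Nat.card (Sylow 3 V) ≤ 4 := by
      have hj0 : 0 < j := by
        have : 0 < 3 * j := hj ▸ Nat.card_pos
        omega
      have := Nat.le_mul_of_pos_left (Nat.card (Sylow 3 V)) hj0
      omega
    have hn4 : Nat.card (Sylow 3 V) = 4 := by omega
    rw [hn4] at hmul
    refine ⟨by omega, hn4, (eq_of_le_of_card_ge hle ?_).symm⟩
    rw [hj, h3]
    omega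
  obtain ⟨hc12, hn4, -⟩ := key Qx
  have hself : ∀ u : V, orderOf u = 3 → ∀ v : V, v * u * v⁻¹ ∈ zpowers u → v ∈ zpowers u := by
    intro u hu v hv
    obtain ⟨Q, hQ⟩ := hsyl u hu
    rw [← hQ, ← (key Q).2.2]
    refine mem_normalizer_fintype fun n hn => ?_
    have hn' : n ∈ zpowers u := hQ ▸ hn
    obtain ⟨k, rfl⟩ := mem_zpowers_iff.1 hn'
    rw [SetLike.mem_coe, hQ, ← conj_zpow]
    exact zpow_mem hv k
  -- eight elements of order three
  have hgen : ∀ Q : Sylow 3 V, ∃ g : V, orderOf g = 3 ∧ zpowers g = (Q : Subgroup V) := by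
    intro Q
    obtain ⟨⟨g, hg⟩, hgo⟩ := exists_prime_orderOf_dvd_card' (G := ↥(Q : Subgroup V)) 3 (by rw [h3])
    rw [orderOf_mk] at hgo
    exact ⟨g, hgo, eq_of_le_of_card_ge (zpowers_le.2 hg) (by rw [h3, Nat.card_zpowers, hgo])⟩
  choose gen hgo hgz using hgen
  let f : Sylow 3 V × Bool → {v : V // orderOf v = 3} := fun p =>
    if p.2 then ⟨gen p.1, hgo p.1⟩ else ⟨(gen p.1)⁻¹, by rw [orderOf_inv, hgo]⟩
  have hfz : ∀ p, zpowers (f p).1 = (p.1 : Subgroup V) := by
    rintro ⟨Q, _ | _⟩ <;> simp [f, hgz]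
  have hf : Function.Injective f := by
    rintro ⟨Q, b⟩ ⟨Q', b'⟩ h
    have hQ : Q = Q' := Sylow.ext (by
      rw [← hfz (Q, b), h, hfz (Q', b')])
    subst hQ
    refine Prod.ext rfl ?_
    have hne' : gen Q ≠ (gen Q)⁻¹ := by
      intro he
      have h2 : orderOf (gen Q) ∣ 2 := orderOf_dvd_of_pow_eq_one (by
        rw [pow_two]; exact eq_inv_iff_mul_eq_one.1 he)
      rw [hgo] at h2
      norm_num at h2
    rcases b with _ | _ <;> rcases b' with _ | _ <;> simp [f] at h ⊢
    · exact hne' h.symm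
    · exact hne' h
  have h8 : 8 ≤ Set.ncard {v : V | orderOf v = 3} := by
    have := Nat.card_le_card_of_injective f hf
    rw [Nat.card_prod, hn4] at this
    rw [Nat.card_eq_fintype_card (α := Bool), Fintype.card_bool] at this
    rw [← Nat.card_coe_set_eq]
    exact this
  obtain ⟨T⟩ := (inferInstance : Nonempty (Sylow 2 V))
  have hT : Nat.card ↥(T : Subgroup V) = 4 := by
    simpa using card_sylow_eq (e := 2) (m := 3) (by rw [hV, hc12]; norm_num) (by norm_num) T
  have hTn : Set.ncard ((T : Subgroup V) : Set V) = 4 := by rw [← Nat.card_coe_set_eq]; exact hT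
  have hdisj : ∀ t ∈ (T : Subgroup V), orderOf t ≠ 3 := by
    intro t ht h
    have := Subgroup.orderOf_dvd_natCard _ ht
    rw [h, hT] at this
    norm_num at this
  have hcover : ∀ v : V, orderOf v = 3 ∨ v ∈ (T : Subgroup V) := by
    intro v
    have hu : {v : V | orderOf v = 3} ∪ ((T : Subgroup V) : Set V) = Set.univ := by
      refine Set.eq_of_subset_of_ncard_le (Set.subset_univ _) ?_ Set.finite_univ
      have hd : Disjoint {v : V | orderOf v = 3} ((T : Subgroup V) : Set V) :=
        Set.disjoint_left.2 fun t h ht => hdisj t ht h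
      rw [Set.ncard_univ, hV, Set.ncard_union_eq hd (Set.toFinite _) (Set.toFinite _), hTn]
      omega
    exact (hu ▸ Set.mem_univ v : v ∈ {v : V | orderOf v = 3} ∪ ((T : Subgroup V) : Set V))
  obtain ⟨⟨z, hzT⟩, hzo⟩ := exists_prime_orderOf_dvd_card' (G := ↥(T : Subgroup V)) 2 (by rw [hT]; norm_num)
  rw [orderOf_mk] at hzo
  have hTconj : ∀ v t : V, t ∈ (T : Subgroup V) → v * t * v⁻¹ ∈ (T : Subgroup V) := fun v t ht =>
    (hcover _).resolve_left (by
      rw [show v * t * v⁻¹ = MulAut.conj v t by simp, MulEquiv.orderOf_eq]; exact hdisj t ht)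
  have hfix : ∀ t ∈ (T : Subgroup V), t ≠ 1 → x * t * x⁻¹ ≠ t := by
    intro t ht ht1 he
    have hm : t ∈ zpowers x := hself x hx t (by
      have : t * x * t⁻¹ = x := by
        rw [mul_inv_eq_iff_eq_mul]
        exact (mul_inv_eq_iff_eq_mul.1 he).symm
      rw [this]; exact mem_zpowers x)
    have h1 := Subgroup.orderOf_dvd_natCard _ hm
    rw [Nat.card_zpowers, hx] at h1
    rcases (Nat.dvd_prime Nat.prime_three).1 h1 with h | h
    · exact ht1 (orderOf_eq_one_iff.1 h)
    · exact hdisj t ht h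
  set a := x * z * x⁻¹ with ha
  set b := x * a * x⁻¹ with hb
  have hz1 : z ≠ 1 := by rintro rfl; rw [orderOf_one] at hzo; omega
  have haT : a ∈ (T : Subgroup V) := hTconj x z hzT
  have hbT : b ∈ (T : Subgroup V) := hTconj x a haT
  have hca : IsConj z a := isConj_iff.2 ⟨x, rfl⟩
  have hcb : IsConj z b := hca.trans (isConj_iff.2 ⟨x, rfl⟩)
  have hao : orderOf a = 2 := by
    rw [ha, show x * z * x⁻¹ = MulAut.conj x z by simp, MulEquiv.orderOf_eq, hzo]
  have hbo : orderOf b = 2 := by
    rw [hb, show x * a * x⁻¹ = MulAut.conj x a by simp, MulEquiv.orderOf_eq, hao]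
  have haz : a ≠ z := hfix z hzT hz1
  have ha1 : a ≠ 1 := by intro h; rw [h, orderOf_one] at hao; omega
  have hb1 : b ≠ 1 := by intro h; rw [h, orderOf_one] at hbo; omega
  have hab : b ≠ a := hfix a haT ha1
  have hbz : b ≠ z := by
    intro h
    apply hab
    have hx3 : x ^ 3 = 1 := hx ▸ pow_orderOf_eq_one x
    -- conjugation by `x` has order dividing three, so it cannot interchange `z` and `a`
    have h3' : x * b * x⁻¹ = z := by
      calc x * b * x⁻¹ = x ^ 3 * z * (x ^ 3)⁻¹ := by
            simp only [hb, ha, pow_succ, pow_zero, one_mul, mul_inv_rev, mul_assoc]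
        _ = z := by rw [hx3]; group
    rw [h] at h3'
    rw [h]
    exact h3'.symm
  have hall : ((T : Subgroup V) : Set V) = {1, z, a, b} := by
    refine (Set.eq_of_subset_of_ncard_le ?_ ?_).symm
    · intro t ht
      simp only [Set.mem_insert_iff, Set.mem_singleton_iff] at ht
      rcases ht with rfl | rfl | rfl | rfl
      exacts [one_mem _, hzT, haT, hbT]
    · rw [hTn, Set.ncard_insert_of_notMem, Set.ncard_insert_of_notMem, Set.ncard_pair hab.symm]
      · simp [haz.symm, hbz.symm]
      · simp [hz1.symm, ha1.symm, hb1.symm]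
  have hinv : ∀ t : V, orderOf t = 2 → t = z ∨ t = a ∨ t = b := by
    intro t ht
    have ht' : t ∈ ((T : Subgroup V) : Set V) := (hcover t).resolve_left (by omega)
    rw [hall] at ht'
    simp only [Set.mem_insert_iff, Set.mem_singleton_iff] at ht'
    exact ht'.resolve_left (by rintro rfl; rw [orderOf_one] at ht; omega)
  have hTab := isMulCommutative_of_card_eq_prime_or_sq T (Or.inr (by rw [hT]; norm_num))
  refine ⟨hc12, z, a, hzo, hao, haz.symm, ?_, fun t ht => ⟨?_, ?_⟩⟩
  · rw [show Nat.card {t : V // orderOf t = 2} = Set.ncard {t : V | orderOf t = 2} from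
      Nat.card_coe_set_eq _]
    refine (Set.ncard_le_ncard (t := {z, a, b}) (fun t ht => ?_) (Set.toFinite _)).trans ?_
    · simpa using hinv t ht
    · exact (Set.ncard_insert_le _ _).trans (Nat.add_le_add_right ((Set.ncard_insert_le _ _).trans
        (Nat.add_le_add_right (Set.ncard_singleton _).le 1)) 1)
  · have ht' : t ∈ (T : Subgroup V) := (hcover t).resolve_left (by omega)
    exact congrArg Subtype.val (hTab.is_comm.comm ⟨z, hzT⟩ ⟨t, ht'⟩)
  · rcases hinv t ht with rfl | rfl | rfl
    exacts [IsConj.refl _, hca, hcb]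

section Outside

variable {G : Type*} [Group G] {p : ℕ}

/-- the conjugates of `g` not centralising `P` -/
abbrev Outside (P : Sylow p G) (g : G) : Type _ :=
  {h : G // IsConj g h ∧ h ∉ centralizer ((P : Subgroup G) : Set G)}

theorem conj_mem_centralizer_iff (P : Sylow p G) {v h : G}
    (hv : v ∈ normalizer ((P : Subgroup G) : Set G)) :
    v * h * v⁻¹ ∈ centralizer ((P : Subgroup G) : Set G) ↔ h ∈ centralizer ((P : Subgroup G) : Set G) := by
  simp only [Subgroup.mem_centralizer_iff, SetLike.mem_coe]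
  constructor
  · intro hc y hy
    have h1 := hc _ ((mem_normalizer_iff.1 hv y).1 hy)
    calc y * h = v⁻¹ * (v * y * v⁻¹ * (v * h * v⁻¹)) * v := by group
      _ = v⁻¹ * (v * h * v⁻¹ * (v * y * v⁻¹)) * v := by rw [h1]
      _ = h * y := by group
  · intro hc y hy
    have h1 := hc _ ((mem_normalizer_iff''.1 hv y).1 hy)
    calc y * (v * h * v⁻¹) = v * (v⁻¹ * y * v * h) * v⁻¹ := by group
      _ = v * (h * (v⁻¹ * y * v)) * v⁻¹ := by rw [h1]
      _ = v * h * v⁻¹ * y := by group

/-- conjugation by a normalising element on `Outside` -/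
def outsideConj (P : Sylow p G) (g : G) (v : G) (hv : v ∈ normalizer ((P : Subgroup G) : Set G))
    (h : Outside P g) : Outside P g :=
  ⟨v * h.1 * v⁻¹, h.2.1.trans (isConj_iff.2 ⟨v, rfl⟩),
    fun hc => h.2.2 ((conj_mem_centralizer_iff P hv).1 hc)⟩

instance outsideActionSylow (P : Sylow p G) (g : G) : MulAction ↥(P : Subgroup G) (Outside P g) where
  smul u h := outsideConj P g u (le_normalizer u.2) h
  one_smul h := Subtype.ext (show (1 : G) * h.1 * 1⁻¹ = h.1 by group)
  mul_smul u v h := Subtype.ext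
    (show (u : G) * v * h.1 * ((u : G) * v)⁻¹ = u * (v * h.1 * (v : G)⁻¹) * (u : G)⁻¹ by group)

theorem coe_smul_outside (P : Sylow p G) (g : G) (u : ↥(P : Subgroup G)) (h : Outside P g) :
    (u • h).1 = (u : G) * h.1 * (u : G)⁻¹ := rfl

/-- the centraliser acts on the orbits of `P` on `Outside` -/
def orbitHom (P : Sylow p G) (g : G) : ↥(centralizer ((P : Subgroup G) : Set G)) →*
    Equiv.Perm (MulAction.orbitRel.Quotient ↥(P : Subgroup G) (Outside P g)) :=
  let _ : MulAction ↥(centralizer ((P : Subgroup G) : Set G))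
      (MulAction.orbitRel.Quotient ↥(P : Subgroup G) (Outside P g)) :=
    { smul := fun v => Quotient.map' (outsideConj P g v (centralizer_le_normalizer _ v.2)) (by
        rintro h₁ h₂ ⟨u, rfl⟩
        refine ⟨u, Subtype.ext ?_⟩
        have hc : (u : G) * v = v * u := mem_centralizer_iff.1 v.2 u u.2
        change (u : G) * (v * h₂.1 * (v : G)⁻¹) * (u : G)⁻¹ = v * (u * h₂.1 * (u : G)⁻¹) * (v : G)⁻¹
        calc (u : G) * (v * h₂.1 * (v : G)⁻¹) * (u : G)⁻¹
            = ((u : G) * v) * h₂.1 * ((u : G) * v)⁻¹ := by group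
          _ = ((v : G) * u) * h₂.1 * ((v : G) * u)⁻¹ := by rw [hc]
          _ = _ := by group)
      one_smul := by
        rintro ⟨h⟩
        exact congrArg Quotient.mk'' (Subtype.ext (show (1 : G) * h.1 * 1⁻¹ = h.1 by group))
      mul_smul := by
        rintro v w ⟨h⟩
        exact congrArg Quotient.mk'' (Subtype.ext
          (show (v : G) * w * h.1 * ((v : G) * w)⁻¹ = v * (w * h.1 * (w : G)⁻¹) * (v : G)⁻¹ by group)) }
  MulAction.toPermHom _ _

theorem orbitHom_mk (P : Sylow p G) (g : G) (v : ↥(centralizer ((P : Subgroup G) : Set G)))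
    (h : Outside P g) : orbitHom P g v (Quotient.mk'' h) =
      Quotient.mk'' (outsideConj P g v (centralizer_le_normalizer _ v.2) h) := rfl

variable [Finite G] [Fact p.Prime]

theorem zpowers_eq_sylow (P : Sylow p G) (hP : Nat.card ↥(P : Subgroup G) = p) {u : G}
    (hu : u ∈ (P : Subgroup G)) (hu1 : u ≠ 1) : zpowers u = (P : Subgroup G) := by
  refine Subgroup.eq_of_le_of_card_ge (zpowers_le.2 hu) ?_
  have := ((Nat.dvd_prime (Fact.out : p.Prime)).1 (hP ▸ Subgroup.orderOf_dvd_natCard _ hu)).resolve_left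
    (fun h => hu1 (orderOf_eq_one_iff.1 h))
  rw [hP, Nat.card_zpowers, this]

omit [Finite G] [Fact p.Prime] in
theorem mem_centralizer_of_commute_generator (P : Sylow p G) {u h : G}
    (hu : zpowers u = (P : Subgroup G)) (hc : Commute u h) :
    h ∈ centralizer ((P : Subgroup G) : Set G) := by
  refine mem_centralizer_iff.2 fun y hy => ?_
  rw [← hu] at hy
  obtain ⟨k, rfl⟩ := mem_zpowers_iff.1 hy
  exact (hc.zpow_left k).eq

theorem card_orbits_outside (P : Sylow p G) (hP : Nat.card ↥(P : Subgroup G) = p) (g : G) :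
    Nat.card (MulAction.orbitRel.Quotient ↥(P : Subgroup G) (Outside P g)) * p =
      Nat.card (Outside P g) := by
  classical
  have := Fintype.ofFinite (MulAction.orbitRel.Quotient ↥(P : Subgroup G) (Outside P g))
  have horb : ∀ h : Outside P g, Nat.card (MulAction.orbit ↥(P : Subgroup G) h) = p := by
    intro h
    have hst : MulAction.stabilizer ↥(P : Subgroup G) h = ⊥ := by
      rw [eq_bot_iff]
      intro u hu
      rw [Subgroup.mem_bot]
      by_contra h1
      refine h.2.2 (mem_centralizer_of_commute_generator P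
        (zpowers_eq_sylow P hP u.2 (fun e => h1 (Subtype.ext e))) ?_)
      have he : (u : G) * h.1 * (u : G)⁻¹ = h.1 := congrArg Subtype.val (MulAction.mem_stabilizer_iff.1 hu)
      exact mul_inv_eq_iff_eq_mul.1 he
    rw [Nat.card_coe_set_eq, ← MulAction.index_stabilizer, hst, Subgroup.index_bot, hP]
  rw [Nat.card_congr (MulAction.selfEquivSigmaOrbits ↥(P : Subgroup G) (Outside P g)), Nat.card_sigma,
    Finset.sum_congr rfl (fun ω _ => horb ω.out), Finset.sum_const, smul_eq_mul, Finset.card_univ,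
    Nat.card_eq_fintype_card]

/-- An element of prime order `q ≠ p` centralising `P` and fixing all orbits commutes with everything. -/
theorem commute_of_orbitHom_eq_one (P : Sylow p G) (hP : Nat.card ↥(P : Subgroup G) = p) {g : G}
    (hg : g ∈ centralizer ((P : Subgroup G) : Set G)) {q : ℕ} (hq : g ^ q = 1) (hpq : ¬ p ∣ q)
    (h1 : orbitHom P g ⟨g, hg⟩ = 1) (h : Outside P g) : Commute g h.1 := by
  have he := orbitHom_mk P g ⟨g, hg⟩ h
  rw [h1] at he
  obtain ⟨u, hu⟩ := MulAction.orbitRel_apply.1 (Quotient.exact' he.symm)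
  have hu' : (u : G) * h.1 * (u : G)⁻¹ = g * h.1 * g⁻¹ := congrArg Subtype.val hu
  have hug : Commute (u : G) g := mem_centralizer_iff.1 hg u u.2
  by_cases hu1 : (u : G) = 1
  · rw [hu1, one_mul, inv_one, mul_one] at hu'
    exact mul_inv_eq_iff_eq_mul.1 hu'.symm
  exfalso
  apply h.2.2
  have hc : Commute ((u : G)⁻¹ * g) h.1 := by
    change (u : G)⁻¹ * g * h.1 = h.1 * ((u : G)⁻¹ * g)
    calc (u : G)⁻¹ * g * h.1 = (u : G)⁻¹ * (g * h.1 * g⁻¹) * g := by group
      _ = (u : G)⁻¹ * ((u : G) * h.1 * (u : G)⁻¹) * g := by rw [hu']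
      _ = _ := by group
  have hc' := hc.pow_left q
  rw [hug.inv_left.mul_pow, hq, mul_one] at hc'
  refine mem_centralizer_of_commute_generator P
    (zpowers_eq_sylow P hP (pow_mem (inv_mem u.2) q) ?_) hc'
  intro hq1
  have h2 := orderOf_dvd_of_pow_eq_one hq1
  rw [orderOf_inv, ← Nat.card_zpowers, zpowers_eq_sylow P hP u.2 hu1, hP] at h2
  exact hpq h2

end Outside

end CfsgLib.M12Order
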