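import Cfsg.Agent.Lib.M12Order.Block11
import Cfsg.Agent.Lib.M12Order.Avg
import Cfsg.Agent.Lib.DegMultiset.Basic
import Cfsg.Agent.Lib.RealChar.Indicator
import Cfsg.Agent.Lib.RealChar.Trichotomy
import Cfsg.Agent.Lib.SmallOrder.BlockValues
import Cfsg.Agent.Lib.SmallOrder.PrincipalColumns
import Mathlib.RingTheory.RootsOfUnity.Complex
import Mathlib.GroupTheory.Sylow

/-!
A simple group of order 95040: the centraliser of an involution commuting with an element of order 5, and a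
bound on the number of involutions.
-/

set_option autoImplicit false
set_option linter.style.haveILetI false

open scoped ComplexConjugate

namespace CfsgLib.M12Order

open Subgroup SmallOrder

universe u

variable {G : Type u} [Group G] [Fintype G]

section Five

variable (h5 : ∀ y : G, orderOf y = 5 → Nat.card ↥(centralizer ({y} : Set G)) = 10 ∧
    Nat.card ↥(normalizer ((zpowers y : Subgroup G) : Set G)) = 40)
  {y s : G} (hy : orderOf y = 5) (hs : orderOf s = 2) (hc : Commute s y)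

include hy hs hc in
theorem orderOf_mul_ten : orderOf (s * y) = 10 := by
  rw [hc.orderOf_mul_eq_mul_orderOf_of_coprime (by rw [hs, hy]; norm_num), hs, hy]

include h5 hy hs hc in
theorem eq_of_mem_centralizer_five {x : G} (hx : x ∈ centralizer ({y} : Set G)) (hx2 : orderOf x = 2) :
    x = s := by
  classical
  have hg := orderOf_mul_ten hy hs hc
  have hle : zpowers (s * y) ≤ centralizer ({y} : Set G) :=
    zpowers_le.2 (mem_centralizer_singleton_iff.2 (hc.mul_left (Commute.refl y)).eq)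
  have heq : zpowers (s * y) = centralizer ({y} : Set G) :=
    eq_of_le_of_card_ge hle (by rw [Nat.card_zpowers, hg, (h5 y hy).1])
  rw [← heq, mem_zpowers_iff_mem_range_orderOf, Finset.mem_image] at hx
  obtain ⟨k, hk, rfl⟩ := hx
  rw [Finset.mem_range, hg] at hk
  rw [orderOf_pow, hg] at hx2
  have hk5 : k = 5 := by
    interval_cases k <;> first | rfl | (norm_num at hx2)
  subst hk5
  have h1 : y ^ 5 = 1 := by rw [← hy]; exact pow_orderOf_eq_one y
  have h2 : s ^ 2 = 1 := by rw [← hs]; exact pow_orderOf_eq_one s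
  rw [hc.mul_pow, h1, mul_one, show (5 : ℕ) = 2 * 2 + 1 from rfl, pow_succ, pow_mul, h2, one_pow, one_mul]

include h5 hy hs hc in
theorem conj_eq_of_mem_normalizer {n : G} (hn : n ∈ normalizer ((zpowers y : Subgroup G) : Set G)) :
    n * s * n⁻¹ = s := by
  refine eq_of_mem_centralizer_five h5 hy hs hc ?_ ?_
  · have h : n⁻¹ * y * n ∈ zpowers y := (mem_normalizer_iff'.1 hn (n⁻¹ * y)).2 (by
      rw [mul_inv_cancel_left]; exact mem_zpowers y)
    obtain ⟨k, hk⟩ := mem_zpowers_iff.1 h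
    have hcom : Commute s (n⁻¹ * y * n) := hk ▸ hc.zpow_right k
    rw [mem_centralizer_singleton_iff]
    have e : s * (n⁻¹ * y * n) = n⁻¹ * y * n * s := hcom.eq
    calc n * s * n⁻¹ * y = n * (s * (n⁻¹ * y * n)) * n⁻¹ := by group
      _ = n * (n⁻¹ * y * n * s) * n⁻¹ := by rw [e]
      _ = y * (n * s * n⁻¹) := by group
  · rw [show n * s * n⁻¹ = MulAut.conj n s from rfl, MulEquiv.orderOf_eq, hs]

include h5 hy hs hc in
theorem exists_conj_pow {k : ℕ} (hk : ¬ 5 ∣ k) : ∃ n : G, n * y * n⁻¹ = y ^ k ∧ n * s * n⁻¹ = s := by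
  classical
  set N := normalizer ((zpowers y : Subgroup G) : Set G) with hN
  set f : ↥N → G := fun n => (n : G) * y * (n : G)⁻¹ with hf
  set T : Finset G := (Finset.Ioo 0 5).image fun i => y ^ i with hT
  have hsub : Finset.univ.image f ⊆ T := by
    intro z hz
    obtain ⟨n, -, rfl⟩ := Finset.mem_image.1 hz
    have h : (n : G) * y * (n : G)⁻¹ ∈ zpowers y := (mem_normalizer_iff.1 n.2 y).1 (mem_zpowers y)
    rw [mem_zpowers_iff_mem_range_orderOf, Finset.mem_image] at h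
    obtain ⟨i, hi, hie⟩ := h
    rw [Finset.mem_range, hy] at hi
    refine Finset.mem_image.2 ⟨i, Finset.mem_Ioo.2 ⟨Nat.pos_of_ne_zero fun h0 => ?_, hi⟩, hie⟩
    rw [h0, pow_zero, eq_comm, conj_eq_one_iff] at hie
    rw [hie, orderOf_one] at hy
    norm_num at hy
  have hle := Finset.card_le_mul_card_image (s := (Finset.univ : Finset ↥N)) (f := f) 10 (fun a _ => by
    rcases (Finset.univ.filter fun x => f x = a).eq_empty_or_nonempty with h | ⟨x0, hx0⟩
    · rw [h]; simp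
    · rw [Finset.mem_filter] at hx0
      refine le_of_le_of_eq (le_of_eq_of_le (Nat.card_eq_finsetCard _).symm ?_) (h5 y hy).1
      refine Nat.card_le_card_of_injective
        (fun x => (⟨(x0 : G)⁻¹ * (x.1 : G), ?_⟩ : ↥(centralizer ({y} : Set G)))) ?_
      · have hx := ((Finset.mem_filter.1 x.2).2).trans hx0.2.symm
        simp only [hf] at hx
        rw [mem_centralizer_singleton_iff]
        calc (x0 : G)⁻¹ * (x.1 : G) * y = (x0 : G)⁻¹ * ((x.1 : G) * y * (x.1 : G)⁻¹) * (x.1 : G) := by group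
          _ = (x0 : G)⁻¹ * ((x0 : G) * y * (x0 : G)⁻¹) * (x.1 : G) := by rw [hx]
          _ = y * ((x0 : G)⁻¹ * (x.1 : G)) := by group
      · intro u v huv
        exact Subtype.ext (Subtype.ext (mul_left_cancel (congrArg Subtype.val huv))))
  rw [Finset.card_univ, Fintype.card_eq_nat_card, (h5 y hy).2] at hle
  have hT4 : T.card ≤ 4 := Finset.card_image_le.trans (by simp)
  have heq := Finset.eq_of_subset_of_card_le hsub (by omega)
  have hmem : y ^ k ∈ T := by
    refine Finset.mem_image.2 ⟨k % 5, Finset.mem_Ioo.2 ⟨Nat.pos_of_ne_zero fun h0 =>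
      hk (Nat.dvd_of_mod_eq_zero h0), Nat.mod_lt _ (by norm_num)⟩, ?_⟩
    rw [← hy, pow_mod_orderOf]
  rw [← heq, Finset.mem_image] at hmem
  obtain ⟨n, -, hn⟩ := hmem
  exact ⟨n, hn, conj_eq_of_mem_normalizer h5 hy hs hc n.2⟩

include h5 hy hs hc in
theorem apply_pow_eq {χ : G → ℂ} (hχ : Cfsg.IsClassFunction G χ) {k : ℕ} (hk : ¬ 5 ∣ k) :
    χ (y ^ k) = χ y ∧ χ (s * y ^ k) = χ (s * y) := by
  obtain ⟨n, h1, h2⟩ := exists_conj_pow h5 hy hs hc hk
  refine ⟨(Char.IsClassFunction.eq_of_isConj hχ (isConj_iff.2 ⟨n, h1⟩)).symm,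
    (Char.IsClassFunction.eq_of_isConj hχ (isConj_iff.2 ⟨n, ?_⟩)).symm⟩
  calc n * (s * y) * n⁻¹ = n * s * n⁻¹ * (n * y * n⁻¹) := by group
    _ = s * y ^ k := by rw [h1, h2]

include h5 hy hs hc in
/-- The values at `y` and `s * y` are integers, with congruences. -/
theorem exists_values {χ : G → ℂ} (hχ : Cfsg.IsCharacter G χ) {f : ℕ} (hf : χ 1 = f) {a : ℤ}
    (ha : χ s = a) : ∃ v w : ℤ, χ y = v ∧ χ (s * y) = w ∧ (5 : ℤ) ∣ v - f ∧
      (10 : ℤ) ∣ (f : ℤ) + a - v - w ∧ (10 : ℤ) ∣ (f : ℤ) + a + 4 * v + 4 * w := by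
  have hcl := Char.IsCharacter.isClassFunction hχ
  have hg := orderOf_mul_ten hy hs hc
  have hy5 : y ^ 5 = 1 := by rw [← hy]; exact pow_orderOf_eq_one y
  have hs2 : s ^ 2 = 1 := by rw [← hs]; exact pow_orderOf_eq_one s
  have hsodd : ∀ j, s ^ (2 * j + 1) = s := fun j => by rw [pow_succ, pow_mul, hs2, one_pow, one_mul]
  have hseven : ∀ j, s ^ (2 * j) = 1 := fun j => by rw [pow_mul, hs2, one_pow]
  obtain ⟨ζ, hζ⟩ : ∃ ζ : ℂ, IsPrimitiveRoot ζ 5 := ⟨_, Complex.isPrimitiveRoot_exp 5 (by norm_num)⟩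
  have hz : 1 + ζ + ζ ^ 2 + ζ ^ 3 + ζ ^ 4 = 0 := by
    have := hζ.geom_sum_eq_zero (by norm_num)
    simpa [Finset.sum_range_succ] using this
  have hz5 : ζ ^ 5 = 1 := hζ.pow_eq_one
  have pv : ∀ k, ¬ 5 ∣ k → χ (y ^ k) = χ y := fun k hk => (apply_pow_eq h5 hy hs hc hcl hk).1
  have pw : ∀ k, ¬ 5 ∣ k → χ (s * y ^ k) = χ (s * y) := fun k hk => (apply_pow_eq h5 hy hs hc hcl hk).2
  obtain ⟨m, hm⟩ := exists_sum_pow hχ y (ζ := ζ) (by rw [hy, hz5])
  simp only [hy, Finset.sum_range_succ, Finset.sum_range_zero, pow_zero, hf, pow_one,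
    pv 2 (by norm_num), pv 3 (by norm_num), pv 4 (by norm_num)] at hm
  have hv : χ y = (((f : ℤ) - 5 * m : ℤ) : ℂ) := by
    push_cast at hm ⊢
    linear_combination -hm + (χ y) * hz
  have e0 : χ ((s * y) ^ 0) = f := by rw [pow_zero, hf]
  have e5 : χ ((s * y) ^ 5) = a := by rw [hc.mul_pow, hy5, hsodd 2, mul_one, ha]
  have ev : ∀ j, ¬ 5 ∣ 2 * j → χ ((s * y) ^ (2 * j)) = χ y := fun j hj => by
    rw [hc.mul_pow, hseven, one_mul, pv _ hj]
  have eo : ∀ j, ¬ 5 ∣ 2 * j + 1 → χ ((s * y) ^ (2 * j + 1)) = χ (s * y) := fun j hj => by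
    rw [hc.mul_pow, hsodd, pw _ hj]
  have e2 := ev 1 (by norm_num)
  have e4 := ev 2 (by norm_num)
  have e6 := ev 3 (by norm_num)
  have e8 := ev 4 (by norm_num)
  have e1 := eo 0 (by norm_num)
  have e3 := eo 1 (by norm_num)
  have e7 := eo 3 (by norm_num)
  have e9 := eo 4 (by norm_num)
  norm_num only at e1 e2 e3 e4 e6 e7 e8 e9
  obtain ⟨m1, hm1⟩ := exists_sum_pow hχ (s * y) (ζ := 1) (one_pow _)
  obtain ⟨m2, hm2⟩ := exists_sum_pow hχ (s * y) (ζ := ζ)
    (by rw [hg, show (10 : ℕ) = 5 * 2 from rfl, pow_mul, hz5, one_pow])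
  simp only [hg, Finset.sum_range_succ, Finset.sum_range_zero, e0, e1, e2, e3, e4, e5, e6, e7, e8,
    e9] at hm1 hm2
  have hz6 : ζ ^ 6 = ζ := by rw [pow_succ, hz5, one_mul]
  have hz7 : ζ ^ 7 = ζ ^ 2 := by rw [show (7 : ℕ) = 5 + 2 from rfl, pow_add, hz5, one_mul]
  have hz8 : ζ ^ 8 = ζ ^ 3 := by rw [show (8 : ℕ) = 5 + 3 from rfl, pow_add, hz5, one_mul]
  have hz9 : ζ ^ 9 = ζ ^ 4 := by rw [show (9 : ℕ) = 5 + 4 from rfl, pow_add, hz5, one_mul]
  rw [hz5, hz6, hz7, hz8, hz9] at hm2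
  refine ⟨(f : ℤ) - 5 * m, 5 * m + a - 10 * m2, hv, ?_, ⟨-(m : ℤ), by ring⟩, ⟨m2, by ring⟩, ?_⟩
  · push_cast at hm2 hv ⊢
    linear_combination -hm2 + (χ y + χ (s * y)) * hz - hv
  · refine ⟨m1, ?_⟩
    apply Int.cast_injective (α := ℂ)
    push_cast at hm1 hv hm2 ⊢
    linear_combination hm1 - 4 * hv - 4 * (-hm2 + (χ y + χ (s * y)) * hz - hv)

end Five

/-- The pointwise inequality for a character of degree `11 m`. -/
theorem pointwise_bound (m a v w : ℤ) (hm : 0 < m) (hm' : m ≤ 21) (hmd : m ∣ 8640) (ha : a ^ 2 ≤ 130)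
    (hv : v ^ 2 ≤ 5) (hw : w ^ 2 ≤ 5) (h1 : (4 : ℤ) ∣ a - 11 * m) (h2 : (5 : ℤ) ∣ v - 11 * m)
    (h3 : (5 : ℤ) ∣ a - w) (h4 : (2 : ℤ) ∣ v - w) (h0 : (5 : ℤ) ∣ m → v = 0 ∧ w = 0)
    (ha1 : -(11 * m) < a) (ha2 : a < 11 * m) :
    15 * m + 17 * w ^ 2 + 4 * (m * v) ≤ m ^ 2 + 2 * a ^ 2 + 33 * v ^ 2 := by
  have key : ∀ m : Fin 22, ∀ a : Fin 23, ∀ v w : Fin 5,
      let m : ℤ := (m : ℕ)
      let a : ℤ := ((a : ℕ) : ℤ) - 11
      let v : ℤ := ((v : ℕ) : ℤ) - 2
      let w : ℤ := ((w : ℕ) : ℤ) - 2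
      0 < m → m ∣ 8640 → (4 : ℤ) ∣ a - 11 * m → (5 : ℤ) ∣ v - 11 * m → (5 : ℤ) ∣ a - w →
      (2 : ℤ) ∣ v - w → ((5 : ℤ) ∣ m → v = 0 ∧ w = 0) → -(11 * m) < a → a < 11 * m →
      15 * m + 17 * w ^ 2 + 4 * (m * v) ≤ m ^ 2 + 2 * a ^ 2 + 33 * v ^ 2 := by
    decide +kernel
  have ba : -11 ≤ a ∧ a ≤ 11 := ⟨by nlinarith, by nlinarith⟩
  have bv : -2 ≤ v ∧ v ≤ 2 := ⟨by nlinarith, by nlinarith⟩
  have bw : -2 ≤ w ∧ w ≤ 2 := ⟨by nlinarith, by nlinarith⟩
  have := key ⟨m.toNat, by omega⟩ ⟨(a + 11).toNat, by omega⟩ ⟨(v + 2).toNat, by omega⟩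
    ⟨(w + 2).toNat, by omega⟩
  simp only [Int.toNat_of_nonneg hm.le, Int.toNat_of_nonneg (show (0 : ℤ) ≤ a + 11 by omega),
    Int.toNat_of_nonneg (show (0 : ℤ) ≤ v + 2 by omega), Int.toNat_of_nonneg (show (0 : ℤ) ≤ w + 2 by omega),
    add_sub_cancel_right] at this
  exact this hm hmd h1 h2 h3 h4 h0 ha1 ha2

theorem known_v {c e x S : ℤ} (h : 1 + 2 * x ^ 2 + c ^ 2 + e ^ 2 + S = 10) (hS : 0 ≤ S)
    (hc : (5 : ℤ) ∣ c - (54 : ℕ)) (he : (5 : ℤ) ∣ e - (144 : ℕ)) (hx : (5 : ℤ) ∣ x - (16 : ℕ))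
    (hb : -1 + c - e + x = 0) : c = -1 ∧ e = -1 ∧ x = 1 := by
  have hc' : c ^ 2 ≤ 9 := by linarith [sq_nonneg e, sq_nonneg x]
  have he' : e ^ 2 ≤ 9 := by linarith [sq_nonneg c, sq_nonneg x]
  have c1 : c ≤ 3 := by nlinarith
  have c2 : -3 ≤ c := by nlinarith
  have e1 : e ≤ 3 := by nlinarith
  have e2 : -3 ≤ e := by nlinarith
  push_cast at hc he hx
  omega

theorem known_w {c e x S : ℤ} (h : 1 + 2 * x ^ 2 + c ^ 2 + e ^ 2 + S = 10) (hS : 0 ≤ S)
    (hc : (2 : ℤ) ∣ -1 - c) (he : (2 : ℤ) ∣ -1 - e) (hx : (2 : ℤ) ∣ 1 - x) :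
    c ^ 2 = 1 ∧ e ^ 2 = 1 ∧ x ^ 2 = 1 := by
  have hpos : ∀ z : ℤ, z % 2 = 1 → 1 ≤ z ^ 2 := fun z hz => by
    have h : 1 ≤ z ∨ z ≤ -1 := by omega
    rcases h with h | h <;> nlinarith
  have key : ∀ z : ℤ, z % 2 = 1 → z ^ 2 ≤ 8 → z ^ 2 = 1 := fun z h1 h2 => by
    have h3 : z ≤ 2 := by nlinarith
    have h4 : -2 ≤ z := by nlinarith
    have h5 : z = 1 ∨ z = -1 := by omega
    rcases h5 with rfl | rfl <;> norm_num
  have pc := hpos c (by omega)
  have pe := hpos e (by omega)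
  have px := hpos x (by omega)
  exact ⟨key c (by omega) (by linarith), key e (by omega) (by linarith), key x (by omega) (by linarith)⟩

theorem known_a {ab ac ad ae ax wc we wx : ℤ} (hb : (5 : ℤ) ∣ ab - 0) (hb' : (4 : ℤ) ∣ ab - (45 : ℕ))
    (hc' : (4 : ℤ) ∣ ac - (54 : ℕ)) (hc : (5 : ℤ) ∣ ac - wc) (hwc : wc ^ 2 = 1)
    (he' : (4 : ℤ) ∣ ae - (144 : ℕ)) (he : (5 : ℤ) ∣ ae - we) (hwe : we ^ 2 = 1)
    (hx' : (4 : ℤ) ∣ ax - (16 : ℕ)) (hx : (5 : ℤ) ∣ ax - wx) (hwx : wx ^ 2 = 1) :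
    110 ≤ 1 + 2 * ax ^ 2 + ab ^ 2 + ac ^ 2 + ad ^ 2 + ae ^ 2 := by
  rw [sq_eq_one_iff] at hwc hwe hwx
  push_cast at hb' hc' he' hx'
  have h1 : 25 ≤ ab ^ 2 := by
    have h : 5 ≤ ab ∨ ab ≤ -5 := by omega
    rcases h with h | h <;> nlinarith
  have h2 : 36 ≤ ac ^ 2 := by
    have h : 6 ≤ ac ∨ ac ≤ -6 := by omega
    rcases h with h | h <;> nlinarith
  have h3 : 16 ≤ ae ^ 2 := by
    have h : 4 ≤ ae ∨ ae ≤ -4 := by omega
    rcases h with h | h <;> nlinarith
  have h4 : 16 ≤ ax ^ 2 := by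
    have h : 4 ≤ ax ∨ ax ≤ -4 := by omega
    rcases h with h | h <;> nlinarith
  linarith [sq_nonneg ad]

theorem class_excl {n : ℕ} (hn : n = 66 ∨ n = 11) {a w k : ℤ} (hk : (n : ℤ) * a = 54 * k)
    (h4 : (4 : ℤ) ∣ a - (54 : ℕ)) (h5' : (5 : ℤ) ∣ a - w) (hw : w ^ 2 = 1) (l : -((54 : ℕ) : ℤ) < a)
    (r : a < ((54 : ℕ) : ℤ)) : False := by
  rw [sq_eq_one_iff] at hw
  rcases hn with rfl | rfl <;> push_cast at hk h4 l r <;> omega

variable [IsSimpleGroup G]

/-- The possible orders of the centraliser of an involution commuting with an element of order 5. -/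
theorem card_centralizer_cases (hG : Nat.card G = 95040)
    (h5 : ∀ y : G, orderOf y = 5 → Nat.card ↥(centralizer ({y} : Set G)) = 10 ∧
      Nat.card ↥(normalizer ((zpowers y : Subgroup G) : Set G)) = 40)
    (h11 : ∀ z : G, orderOf z = 11 → Nat.card ↥(centralizer ({z} : Set G)) = 11)
    {y s : G} (hy : orderOf y = 5) (hs : orderOf s = 2) (hc : Commute s y) :
    Nat.card ↥(centralizer ({s} : Set G)) ∈ [40, 240, 1440, 8640] := by
  have : Fact (Nat.Prime 5) := ⟨by norm_num⟩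
  set C := centralizer ({s} : Set G) with hC
  set N := normalizer ((zpowers y : Subgroup G) : Set G) with hN
  have hNC : N ≤ C := fun n hn => mem_centralizer_singleton_iff.2
    (mul_inv_eq_iff_eq_mul.1 (conj_eq_of_mem_normalizer h5 hy hs hc hn))
  have hZC : zpowers y ≤ C := zpowers_le.2 (mem_centralizer_singleton_iff.2 hc.eq.symm)
  have hcd : Nat.card ↥C ∣ 95040 := hG ▸ Subgroup.card_subgroup_dvd_card C
  have h5C : 5 ∣ Nat.card ↥C := by
    have := Subgroup.card_dvd_of_le hZC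
    rwa [Nat.card_zpowers, hy] at this
  have hfac : (Nat.card ↥C).factorization 5 = 1 := by
    have h0 : Nat.card ↥C ≠ 0 := Nat.card_pos.ne'
    refine le_antisymm ?_ ((Nat.Prime.dvd_iff_one_le_factorization (by norm_num) h0).1 h5C)
    by_contra hlt
    have h25 : 5 ^ 2 ∣ Nat.card ↥C :=
      (Nat.Prime.pow_dvd_iff_le_factorization (by norm_num) h0).2 (by omega)
    exact absurd (h25.trans hcd) (by norm_num)
  have hP : Nat.card ↥((zpowers y).subgroupOf C) = 5 ^ (Nat.card ↥C).factorization 5 := by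
    rw [hfac, pow_one, Nat.card_congr (subgroupOfEquivOfLe hZC).toEquiv, Nat.card_zpowers, hy]
  let P := Sylow.ofCard ((zpowers y).subgroupOf C) hP
  have hn : Nat.card ↥(normalizer ((P : Subgroup ↥C) : Set ↥C)) = 40 := by
    rw [Sylow.coe_ofCard, ← Subgroup.subgroupOf_normalizer_eq hZC,
      Nat.card_congr (subgroupOfEquivOfLe hNC).toEquiv]
    exact (h5 y hy).2
  have hidx := Subgroup.card_mul_index (normalizer ((P : Subgroup ↥C) : Set ↥C))
  rw [hn] at hidx
  have hsyl := P.card_eq_index_normalizer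
  replace hidx : 40 * Nat.card (Sylow 5 ↥C) = Nat.card ↥C := by rw [hsyl]; exact hidx
  have hmod := card_sylow_modEq_one 5 ↥C
  rw [Nat.ModEq] at hmod
  have h11C : ¬ 11 ∣ Nat.card ↥C := by
    intro hd
    have : Fact (Nat.Prime 11) := ⟨by norm_num⟩
    obtain ⟨⟨z, hz⟩, hzo⟩ := exists_prime_orderOf_dvd_card' 11 hd
    rw [Subgroup.orderOf_mk] at hzo
    have hsz : s ∈ centralizer ({z} : Set G) :=
      mem_centralizer_singleton_iff.2 (mem_centralizer_singleton_iff.1 hz).symm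
    have h := Subgroup.orderOf_dvd_natCard _ hsz
    rw [hs, h11 z hzo] at h
    norm_num at h
  set k := Nat.card (Sylow 5 ↥C) with hk
  have hkd : k ∈ Nat.divisors 2376 := Nat.mem_divisors.2
    ⟨Nat.dvd_of_mul_dvd_mul_left (by norm_num : 0 < 40) (by rw [hidx]; exact hcd), by norm_num⟩
  have hall : ∀ d ∈ Nat.divisors 2376, d % 5 = 1 → ¬ 11 ∣ 40 * d → 40 * d ∈ [40, 240, 1440, 8640] := by
    decide +kernel
  rw [← hidx] at h11C ⊢
  exact hall k hkd hmod h11C

variable (hG : Nat.card G = 95040) (K : Eleven G) (hW : K.W = 1 ∧ K.f0 = 16)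
  (hL : (K.L.map fun χ => (K.w χ, Char.degree χ.1)).Perm [(-1, 45), (1, 54), (1, 120), (-1, 144)])
  (h5 : ∀ y : G, orderOf y = 5 → Nat.card ↥(centralizer ({y} : Set G)) = 10 ∧
    Nat.card ↥(normalizer ((zpowers y : Subgroup G) : Set G)) = 40)
  (h11 : ∀ z : G, orderOf z = 11 → Nat.card ↥(centralizer ({z} : Set G)) = 11)

include hG hW hL h5 h11 in
theorem centralizer_and_sum_degree {y s : G} (hy : orderOf y = 5) (hs : orderOf s = 2)
    (hc : Commute s y) : Nat.card ↥(centralizer ({s} : Set G)) = 240 ∧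
      ∑ χ : Cfsg.IrrCharacter G, Char.degree χ.1 ≤ 924 := by
  classical
  have hs1 : s ≠ 1 := fun h => by rw [h, orderOf_one] at hs; norm_num at hs
  have hy1 : y ≠ 1 := fun h => by rw [h, orderOf_one] at hy; norm_num at hy
  have hs2 : s ^ 2 = 1 := by rw [← hs]; exact pow_orderOf_eq_one s
  have hg := orderOf_mul_ten hy hs hc
  have hnc := not_comm hG
  -- the values of a non-principal character
  have hval : ∀ χ : Cfsg.IrrCharacter G, χ ≠ Char.principalIrr → ∃ a v w : ℤ,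
      χ.1 s = a ∧ χ.1 y = v ∧ χ.1 (s * y) = w ∧ (5 : ℤ) ∣ v - Char.degree χ.1 ∧ (2 : ℤ) ∣ v - w ∧
      (5 : ℤ) ∣ a - w ∧ (4 : ℤ) ∣ a - Char.degree χ.1 ∧ -(Char.degree χ.1 : ℤ) < a ∧
      a < Char.degree χ.1 ∧ (5 ∣ Char.degree χ.1 → v = 0 ∧ w = 0) := by
    intro χ hχ
    obtain ⟨m, ⟨j, rfl⟩, hm0, hmf, hm⟩ := exists_involution_value hnc hχ hs1 hs2
    obtain ⟨v, w, hv, hw, d1, d2, d3⟩ := exists_values h5 hy hs hc (Char.IsIrrCharacter.isCharacter χ.2)
      (f := Char.degree χ.1) (Char.IsCharacter.degree_cast (Char.IsIrrCharacter.isCharacter χ.2)).symm hm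
    refine ⟨_, v, w, hm, hv, hw, d1, by omega, by omega, ⟨-(j : ℤ), by push_cast; ring⟩, by omega,
      by omega, fun hd => ?_⟩
    have hdvd : Char.degree χ.1 ∣ Nat.card G := degree_dvd_card χ
    have hk : ¬ 5 ∣ Nat.card G / Char.degree χ.1 := fun hh => by
      have := Nat.mul_dvd_mul hd hh
      rw [Nat.mul_div_cancel' hdvd, hG] at this
      norm_num at this
    have hcard : Nat.card G = Cfsg.charDegree (χ : G → ℂ) * (Nat.card G / Char.degree χ.1) :=
      (Nat.mul_div_cancel' hdvd).symm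
    have z1 := DegMultiset.vanish_of_cofactor (by norm_num) χ hcard hk (g := y) (by rw [hy])
    have z2 := DegMultiset.vanish_of_cofactor (by norm_num) χ hcard hk (g := s * y) (by rw [hg]; norm_num)
    rw [hv] at z1; rw [hw] at z2
    exact ⟨by exact_mod_cast z1, by exact_mod_cast z2⟩
  -- the four characters of the block
  have hmem : ∀ e : ℤ, ∀ d : ℕ, (e, d) ∈ [((-1 : ℤ), (45 : ℕ)), (1, 54), (1, 120), (-1, 144)] →
      ∃ χ ∈ K.L, K.w χ = e ∧ Char.degree χ.1 = d := fun e d h => by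
    obtain ⟨χ, hχ, he⟩ := List.mem_map.1 (hL.mem_iff.2 h)
    exact ⟨χ, hχ, congrArg Prod.fst he, congrArg Prod.snd he⟩
  obtain ⟨b, hbL, hbw, hbd⟩ := hmem (-1) 45 (by simp)
  obtain ⟨c, hcL, hcw, hcd⟩ := hmem 1 54 (by simp)
  obtain ⟨d, hdL, hdw, hdd⟩ := hmem 1 120 (by simp)
  obtain ⟨e, heL, hew, hed⟩ := hmem (-1) 144 (by simp)
  have hnd4 : [b, c, d, e].Nodup := by
    refine List.Nodup.of_map (fun χ => Char.degree χ.1) ?_
    simp [hbd, hcd, hdd, hed]
  have hperm : [b, c, d, e].Perm K.L := by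
    refine (List.subperm_of_subset hnd4 ?_).perm_of_length_le ?_
    · intro x hx
      simp only [List.mem_cons, List.not_mem_nil, or_false] at hx
      rcases hx with rfl | rfl | rfl | rfl <;> assumption
    · have := hL.length_eq
      simp only [List.length_map, List.length_cons, List.length_nil] at this ⊢
      omega
  set P : List (Cfsg.IrrCharacter G) := [Char.principalIrr, K.x1, K.x2, b, c, d, e] with hP
  have hPnd : P.Nodup :=
    ((((hperm.cons K.x2).cons K.x1).cons Char.principalIrr).nodup_iff).2 K.nodup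
  set R := Finset.univ \ P.toFinset with hR
  have hsplit : ∀ {M : Type} [AddCommMonoid M] (F : Cfsg.IrrCharacter G → M),
      ∑ χ, F χ = F Char.principalIrr + (F K.x1 + (F K.x2 + (F b + (F c + (F d + (F e + 0)))))) +
        ∑ χ ∈ R, F χ := by
    intro M _ F
    rw [← Finset.sum_sdiff (Finset.subset_univ P.toFinset), add_comm, List.sum_toFinset F hPnd]
    rfl
  have hRmem : ∀ χ ∈ R, χ ≠ Char.principalIrr ∧ 11 ∣ Char.degree χ.1 := by
    intro χ hχ
    simp only [hR, hP, Finset.mem_sdiff, List.mem_toFinset, List.mem_cons, List.not_mem_nil, or_false,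
      not_or] at hχ
    obtain ⟨-, h1, h2, h3, h4, h5', h6, h7⟩ := hχ
    refine ⟨h1, K.hout χ h1 (fun h => ?_) h2 h3⟩
    have := hperm.mem_iff.2 h
    simp only [List.mem_cons, List.not_mem_nil, or_false] at this
    rcases this with h' | h' | h' | h' <;> contradiction
  have hx1 : Char.degree K.x1.1 = 16 := K.hx1.trans hW.2
  have hx2 : Char.degree K.x2.1 = 16 := K.hx2.trans hW.2
  have hne : ∀ χ : Cfsg.IrrCharacter G, Char.degree χ.1 ≠ 1 → χ ≠ Char.principalIrr := fun χ h h' =>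
    h (h' ▸ M11Order.principal_degree)
  -- values as integer functions
  have hall : ∀ χ : Cfsg.IrrCharacter G, ∃ a v w : ℤ, χ.1 s = a ∧ χ.1 y = v ∧ χ.1 (s * y) = w ∧
      (χ = Char.principalIrr → a = 1 ∧ v = 1 ∧ w = 1) ∧
      (χ ≠ Char.principalIrr → (5 : ℤ) ∣ v - Char.degree χ.1 ∧ (2 : ℤ) ∣ v - w ∧
        (5 : ℤ) ∣ a - w ∧ (4 : ℤ) ∣ a - Char.degree χ.1 ∧ -(Char.degree χ.1 : ℤ) < a ∧
        a < Char.degree χ.1 ∧ (5 ∣ Char.degree χ.1 → v = 0 ∧ w = 0)) := by
    intro χ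
    by_cases h : χ = Char.principalIrr
    · subst h
      exact ⟨1, 1, 1, by simp [Char.principalIrr_apply], by simp [Char.principalIrr_apply],
        by simp [Char.principalIrr_apply], fun _ => ⟨rfl, rfl, rfl⟩, fun h => absurd rfl h⟩
    · obtain ⟨a, v, w, ha, hv, hw, hh⟩ := hval χ h
      exact ⟨a, v, w, ha, hv, hw, fun h' => absurd h' h, fun _ => hh⟩
  choose A V W hA hV hWW hpr hnp using hall
  obtain ⟨p1, p2, p3⟩ := hpr _ rfl
  have hprd : Char.degree (Char.principalIrr : Cfsg.IrrCharacter G).1 = 1 := M11Order.principal_degree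
  -- the exceptional characters agree
  have ox : ∀ z : G, ¬ 11 ∣ orderOf z → K.x2.1 z = K.x1.1 z := fun z hz => (K.orth z hz).1
  have ea : A K.x2 = A K.x1 :=
    Int.cast_injective (α := ℂ) (by rw [← hA, ← hA, ox s (by rw [hs]; norm_num)])
  have ev : V K.x2 = V K.x1 :=
    Int.cast_injective (α := ℂ) (by rw [← hV, ← hV, ox y (by rw [hy]; norm_num)])
  have ew : W K.x2 = W K.x1 :=
    Int.cast_injective (α := ℂ) (by rw [← hWW, ← hWW, ox (s * y) (by rw [hg]; norm_num)])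
  have hblock : -1 + (-V b + (V c + (V d + -V e))) + V K.x1 = 0 := by
    have h := (K.orth y (by rw [hy]; norm_num)).2
    rw [← (hperm.map _).sum_eq, hW.1] at h
    simp only [List.map_cons, List.map_nil, List.sum_cons, List.sum_nil, hbw, hcw, hdw, hew, hV] at h
    apply Int.cast_injective (α := ℂ)
    push_cast at h ⊢
    linear_combination h
  -- the columns
  have norm : ∀ (g : G) (F : Cfsg.IrrCharacter G → ℤ), (∀ χ, χ.1 g = F χ) →
      ∑ χ, F χ ^ 2 = (Nat.card ↥(centralizer ({g} : Set G)) : ℤ) := by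
    intro g F hF
    apply Int.cast_injective (α := ℂ)
    have h := Char.sum_mul_conj g g
    rw [if_pos (IsConj.refl g)] at h
    push_cast
    rw [← h]
    refine Finset.sum_congr rfl fun χ _ => ?_
    rw [hF, map_intCast, sq]
  have nV := norm y V hV
  rw [(h5 y hy).1] at nV
  have hCg : centralizer ({s * y} : Set G) = centralizer ({y} : Set G) := by
    refine le_antisymm ?_ ?_
    · intro x hx
      rw [mem_centralizer_singleton_iff] at hx ⊢
      have h6 : (s * y) ^ 6 = y := by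
        rw [hc.mul_pow, show (6 : ℕ) = 5 + 1 from rfl, pow_succ y, show y ^ 5 = 1 by
          rw [← hy]; exact pow_orderOf_eq_one y, one_mul, show (5 : ℕ) + 1 = 2 * 3 from rfl, pow_mul,
          hs2, one_pow, one_mul]
      have h' : Commute x ((s * y) ^ 6) := Commute.pow_right hx 6
      rw [h6] at h'
      exact h'.eq
    · intro x hx
      rw [mem_centralizer_singleton_iff]
      have hxs : Commute x s := by
        have hxn : x ∈ normalizer ((zpowers y : Subgroup G) : Set G) := by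
          have hxy : Commute x y := mem_centralizer_singleton_iff.1 hx
          refine mem_normalizer_iff.2 fun h => ⟨fun hh => ?_, fun hh => ?_⟩
          · obtain ⟨k, rfl⟩ := mem_zpowers_iff.1 hh
            rwa [(hxy.zpow_right k).eq, mul_inv_cancel_right]
          · obtain ⟨k, hk⟩ := mem_zpowers_iff.1 hh
            have e : h = x⁻¹ * y ^ k * x := by rw [hk]; group
            rw [e, mul_assoc, ← (hxy.zpow_right k).eq, inv_mul_cancel_left]
            exact zpow_mem (mem_zpowers y) k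
        exact (mul_inv_eq_iff_eq_mul.1 (conj_eq_of_mem_normalizer h5 hy hs hc hxn))
      exact (hxs.mul_right (mem_centralizer_singleton_iff.1 hx)).eq
  have nW := norm (s * y) W hWW
  rw [hCg, (h5 y hy).1] at nW
  have nA := norm s A hA
  have colV : ∑ χ, (Char.degree χ.1 : ℤ) * V χ = 0 := by
    apply Int.cast_injective (α := ℂ)
    have h := Char.sum_apply_one_mul y
    rw [if_neg hy1] at h
    push_cast
    rw [← h]
    refine Finset.sum_congr rfl fun χ _ => ?_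
    rw [Char.IsCharacter.degree_cast (Char.IsIrrCharacter.isCharacter χ.2), hV]
  have hsq : ∑ χ : Cfsg.IrrCharacter G, (Char.degree χ.1 : ℤ) ^ 2 = 95040 := by
    have h := Char.sum_degree_sq (G := G)
    rw [hG] at h
    exact_mod_cast h
  rw [hsplit] at nV nW nA colV hsq
  simp only [hprd, hx1, hx2, hbd, hcd, hdd, hed, p1, p2, p3, ea, ev, ew] at nV nW nA colV hsq
  obtain ⟨b1, b2, b3, b4, b5, b6, b7⟩ := hnp b (hne b (by omega))
  obtain ⟨c1, c2, c3, c4, c5, c6, -⟩ := hnp c (hne c (by omega))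
  obtain ⟨d1, d2, d3, d4, d5, d6, d7⟩ := hnp d (hne d (by omega))
  obtain ⟨e1, e2, e3, e4, e5, e6, -⟩ := hnp e (hne e (by omega))
  obtain ⟨x1', x2', x3, x4, x5, x6, -⟩ := hnp K.x1 (hne K.x1 (by omega))
  rw [hbd] at b1 b4 b5 b6 b7
  rw [hcd] at c1 c4 c5 c6
  rw [hdd] at d1 d4 d5 d6 d7
  rw [hed] at e1 e4 e5 e6
  rw [hx1] at x1' x4 x5 x6
  obtain ⟨bv, bw⟩ := b7 (by norm_num)
  obtain ⟨dv, dw⟩ := d7 (by norm_num)
  rw [bv, dv] at nV colV hblock
  rw [bw, dw] at nW
  simp only [Nat.cast_ofNat] at nV nW colV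
  rw [bw] at b3
  rw [dw] at d3
  have rV : 0 ≤ ∑ χ ∈ R, V χ ^ 2 := Finset.sum_nonneg fun χ _ => sq_nonneg _
  have rW : 0 ≤ ∑ χ ∈ R, W χ ^ 2 := Finset.sum_nonneg fun χ _ => sq_nonneg _
  have rA : 0 ≤ ∑ χ ∈ R, A χ ^ 2 := Finset.sum_nonneg fun χ _ => sq_nonneg _
  obtain ⟨vc, ve, vx⟩ := known_v (c := V c) (e := V e) (x := V K.x1) (S := ∑ χ ∈ R, V χ ^ 2)
    (by linarith only [nV]) rV c1 e1 x1' (by linarith only [hblock])
  rw [vc, ve, vx] at nV colV
  rw [vc] at c2
  rw [ve] at e2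
  rw [vx] at x2'
  obtain ⟨sc1, se1, sx1⟩ := known_w (c := W c) (e := W e) (x := W K.x1) (S := ∑ χ ∈ R, W χ ^ 2)
    (by linarith only [nW]) rW c2 e2 x2'
  rw [sc1, se1, sx1] at nW
  have hka := known_a (ab := A b) (ac := A c) (ad := A d) (ae := A e) (ax := A K.x1)
    b3 b4 c4 c3 sc1 e4 e3 se1 x4 x3 sx1
  -- the order of the centraliser
  have h240 : Nat.card ↥(centralizer ({s} : Set G)) = 240 := by
    have hcases := card_centralizer_cases hG h5 h11 hy hs hc
    simp only [List.mem_cons, List.not_mem_nil, or_false] at hcases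
    have hidx := Subgroup.card_mul_index (centralizer ({s} : Set G))
    rw [hG] at hidx
    obtain ⟨k, hk⟩ : ∃ k : ℤ, ((centralizer ({s} : Set G)).index : ℤ) * A c = 54 * k := by
      obtain ⟨n, ρ, hρ, hρc⟩ := c.2
      haveI := hρ
      have hi := Char.isIntegral_index_mul_char_div ρ s
      have hn : (Module.finrank ℂ (Fin n → ℂ) : ℂ) = (54 : ℕ) := by
        rw [← hcd, Char.IsCharacter.degree_cast (Char.IsIrrCharacter.isCharacter c.2)]
        rw [← hρc, Representation.char_one]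
      rw [hn, hρc, hA] at hi
      obtain ⟨k, hk⟩ := Char.exists_int_of_isIntegral_ratCast
        (q := (((centralizer ({s} : Set G)).index : ℤ) * A c : ℤ) / 54) (by push_cast at hi ⊢; exact hi)
      refine ⟨k, ?_⟩
      have : ((((centralizer ({s} : Set G)).index : ℤ) * A c : ℤ) : ℚ) = ((54 * k : ℤ) : ℚ) := by
        rw [eq_div_iff (by norm_num)] at hk
        rw [← hk]; push_cast; ring
      exact_mod_cast this
    rcases hcases with h | h | h | h
    · exfalso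
      rw [h] at nA
      push_cast at nA
      linarith only [nA, hka, rA]
    · exact h
    · exfalso
      rw [h] at hidx
      rw [show (centralizer ({s} : Set G)).index = 66 by omega] at hk
      exact class_excl (Or.inl rfl) hk c4 c3 sc1 c5 c6
    · exfalso
      rw [h] at hidx
      rw [show (centralizer ({s} : Set G)).index = 11 by omega] at hk
      exact class_excl (Or.inr rfl) hk c4 c3 sc1 c5 c6
  refine ⟨h240, ?_⟩
  rw [h240] at nA
  push_cast at nA nV nW colV hsq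
  -- the degrees of the other characters
  have hsum := hsplit (fun χ : Cfsg.IrrCharacter G => Char.degree χ.1)
  simp only [hprd, hx1, hx2, hbd, hcd, hdd, hed] at hsum
  have hpt : ∀ χ ∈ R, 165 * (Char.degree χ.1 : ℤ) + 2057 * W χ ^ 2 +
      44 * ((Char.degree χ.1 : ℤ) * V χ) ≤
        (Char.degree χ.1 : ℤ) ^ 2 + 242 * A χ ^ 2 + 3993 * V χ ^ 2 := by
    intro χ hχ
    obtain ⟨h1, m, hm⟩ := hRmem χ hχ
    obtain ⟨q1, q2, q3, q4, q5, q6, q7⟩ := hnp χ h1
    have hpos : 0 < Char.degree χ.1 := Char.IsIrrCharacter.degree_pos χ.2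
    have sA : A χ ^ 2 ≤ 130 := by
      have := Finset.single_le_sum (f := fun χ => A χ ^ 2) (fun i _ => sq_nonneg _) hχ
      linarith
    have sV : V χ ^ 2 ≤ 5 := by
      have := Finset.single_le_sum (f := fun χ => V χ ^ 2) (fun i _ => sq_nonneg _) hχ
      linarith
    have sW : W χ ^ 2 ≤ 5 := by
      have := Finset.single_le_sum (f := fun χ => W χ ^ 2) (fun i _ => sq_nonneg _) hχ
      linarith
    have sF : (Char.degree χ.1 : ℤ) ^ 2 ≤ 54450 := by
      have := Finset.single_le_sum (f := fun χ : Cfsg.IrrCharacter G => (Char.degree χ.1 : ℤ) ^ 2)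
        (fun i _ => sq_nonneg _) hχ
      linarith
    have hdm : (m : ℤ) ∣ 8640 := by
      have h := degree_dvd_card χ
      rw [hG, hm, show 95040 = 11 * 8640 from rfl] at h
      exact_mod_cast Nat.dvd_of_mul_dvd_mul_left (by norm_num) h
    rw [hm] at q7
    rw [hm] at hpos
    have hmz : (Char.degree χ.1 : ℤ) = 11 * (m : ℤ) := by rw [hm]; push_cast; ring
    rw [hmz] at q1 q4 q5 q6 sF ⊢
    have hm21 : (m : ℤ) ≤ 21 := by nlinarith
    have h0 : (5 : ℤ) ∣ (m : ℤ) → V χ = 0 ∧ W χ = 0 := fun h =>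
      q7 (Dvd.dvd.mul_left (by exact_mod_cast h) 11)
    have := pointwise_bound m (A χ) (V χ) (W χ) (by omega) hm21 hdm sA sV sW q4 q1 q3 q2 h0 q5 q6
    linarith
  have hI := Finset.sum_le_sum hpt
  simp only [Finset.sum_add_distrib, ← Finset.mul_sum] at hI
  have : ((∑ χ ∈ R, Char.degree χ.1 : ℕ) : ℤ) ≤ 535 := by
    push_cast
    linarith
  have : 11 ∣ ∑ χ ∈ R, Char.degree χ.1 := Finset.dvd_sum fun χ hχ => (hRmem χ hχ).2
  omega

include hG hW hL h5 h11 in
theorem card_centralizer_invol {y s : G} (hy : orderOf y = 5) (hs : orderOf s = 2) (hc : Commute s y) :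
    Nat.card ↥(centralizer ({s} : Set G)) = 240 :=
  (centralizer_and_sum_degree hG K hW hL h5 h11 hy hs hc).1

include hG hW hL h5 h11 in
theorem card_involutions_le : Nat.card {g : G // orderOf g = 2} ≤ 923 := by
  classical
  obtain ⟨y, hy⟩ : ∃ y : G, orderOf y = 5 := by
    have : Fact (Nat.Prime 5) := ⟨by norm_num⟩
    exact exists_prime_orderOf_dvd_card' 5 (by rw [hG]; norm_num)
  obtain ⟨s, hs, hc⟩ : ∃ s : G, orderOf s = 2 ∧ Commute s y := by
    have : Fact (Nat.Prime 2) := ⟨Nat.prime_two⟩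
    obtain ⟨⟨s, hs⟩, hso⟩ := exists_prime_orderOf_dvd_card' 2
      (show 2 ∣ Nat.card ↥(centralizer ({y} : Set G)) by rw [(h5 y hy).1]; norm_num)
    rw [Subgroup.orderOf_mk] at hso
    exact ⟨s, hso, mem_centralizer_singleton_iff.1 hs⟩
  have hsum := (centralizer_and_sum_degree hG K hW hL h5 h11 hy hs hc).2
  have hfs := congrArg Complex.re (RealChar.sum_fsInd_mul_apply (G := G) 1)
  rw [Complex.re_sum, Complex.natCast_re] at hfs
  have hle : (Nat.card {x : G // x * x = 1} : ℝ) ≤ 924 := by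
    rw [← hfs]
    refine le_trans (Finset.sum_le_sum (g := fun χ : Cfsg.IrrCharacter G => (Char.degree χ.1 : ℝ))
      fun χ _ => ?_) (by exact_mod_cast hsum)
    rw [← Char.IsCharacter.degree_cast (Char.IsIrrCharacter.isCharacter χ.2)]
    rcases RealChar.fsInd_eq χ.2 with h | h | h <;> rw [h] <;> simp
  have hcount : Nat.card {x : G // x * x = 1} = Nat.card {g : G // orderOf g = 2} + 1 := by
    rw [Nat.card_eq_fintype_card, Nat.card_eq_fintype_card, Fintype.card_subtype, Fintype.card_subtype,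
      show (Finset.univ.filter fun x : G => x * x = 1) =
        insert 1 (Finset.univ.filter fun g : G => orderOf g = 2) from ?_,
      Finset.card_insert_of_notMem (by simp)]
    ext x
    simp only [Finset.mem_filter, Finset.mem_univ, true_and, Finset.mem_insert, orderOf_eq_prime_iff, sq]
    by_cases hx : x = 1 <;> simp [hx]
  rw [hcount] at hle
  have : Nat.card {g : G // orderOf g = 2} + 1 ≤ 924 := by exact_mod_cast hle
  omega

end CfsgLib.M12Order
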