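import Cfsg.Agent.Lib.M12Order.Avg
import Cfsg.Agent.Lib.DegMultiset.Basic
import Cfsg.Agent.Lib.SmallOrder.BlockValues

/-!
A simple group of order 95040: averages over small subgroups containing an element of order 5.
-/

set_option autoImplicit false
set_option linter.style.haveILetI false

namespace CfsgLib.M12Order

open CfsgLib Subgroup

universe u

variable {G : Type u} [Group G] [Finite G]

theorem vanish {p : ℕ} (hp : p.Prime) {d : ℕ} (hG : Nat.card G = 95040) (χ : Cfsg.IrrCharacter G)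
    (hd : Char.degree χ.1 = d) (hdiv : d ∣ 95040) (hk : ¬ p ∣ 95040 / d) {g : G} (hg : p ∣ orderOf g) :
    χ.1 g = 0 :=
  DegMultiset.vanish_of_cofactor hp χ (k := 95040 / d)
    (by rw [hG, show Cfsg.charDegree χ.1 = d from hd, Nat.mul_div_cancel' hdiv]) hk hg

/-- The sum of the values at the non-trivial powers of an element of order 5. -/
noncomputable def S4 (χ : G → ℂ) (y : G) : ℂ := χ y + χ (y ^ 2) + χ (y ^ 3) + χ (y ^ 4)

theorem exists_sum_pow_one {χ : G → ℂ} (hχ : Cfsg.IsCharacter G χ) (w : G) :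
    ∃ m : ℕ, ∑ k ∈ Finset.range (orderOf w), χ (w ^ k) = (orderOf w : ℂ) * m := by
  obtain ⟨m, hm⟩ := exists_sum_pow hχ w (ζ := 1) (one_pow _)
  exact ⟨m, by simpa using hm⟩

theorem exists_S4 (χ : Cfsg.IrrCharacter G) {y : G} (hy : orderOf y = 5) :
    ∃ m : ℕ, (Char.degree χ.1 : ℂ) + S4 χ.1 y = 5 * m := by
  obtain ⟨m, hm⟩ := exists_sum_pow_one (Char.IsIrrCharacter.isCharacter χ.2) y
  refine ⟨m, ?_⟩
  rw [hy] at hm
  norm_num [Finset.sum_range_succ] at hm
  rw [Char.IsCharacter.degree_cast (Char.IsIrrCharacter.isCharacter χ.2), ← hm, S4]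
  ring

/-- A character of degree divisible by 5 takes values divisible by 5 at involutions commuting with elements of
order 5. -/
theorem exists_value_five [Fintype G] [IsSimpleGroup G] (hG : Nat.card G = 95040) (χ : Cfsg.IrrCharacter G)
    (hχ : χ ≠ Char.principalIrr) {d : ℕ} (hd : Char.degree χ.1 = d) (hdiv : d ∣ 95040) (h5 : 5 ∣ d)
    {y s : G} (hy : orderOf y = 5) (hs : orderOf s = 2) (hsy : Commute s y) :
    ∃ a : ℤ, χ.1 s = (a : ℂ) ∧ (5 : ℤ) ∣ a ∧ (4 : ℤ) ∣ (d : ℤ) - a ∧ -(d : ℤ) < a ∧ a < d := by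
  have hna : ¬ IsMulCommutative G := SmallOrder.not_comm_of_not_prime (by rw [hG]; norm_num)
  have hs1 : s ≠ 1 := fun h => by rw [h, orderOf_one] at hs; omega
  have hs2 : s ^ 2 = 1 := by rw [← hs]; exact pow_orderOf_eq_one s
  have hy5 : y ^ 5 = 1 := by rw [← hy]; exact pow_orderOf_eq_one y
  obtain ⟨k, ⟨j, hj⟩, hk0, hklt, hval⟩ := SmallOrder.exists_involution_value hna hχ hs1 hs2
  rw [hd] at hklt hval
  refine ⟨(d : ℤ) - 2 * k, hval, ?_, ⟨j, by omega⟩, by omega, by omega⟩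
  have hk5 : ¬ 5 ∣ 95040 / d := fun h =>
    absurd ((mul_dvd_mul h5 h).trans (by rw [Nat.mul_div_cancel' hdiv])) (by norm_num)
  have ho : orderOf (s * y) = 10 := by
    rw [hsy.orderOf_mul_eq_mul_orderOf_of_coprime (by rw [hs, hy]; norm_num), hs, hy]
  obtain ⟨m, hm⟩ := exists_sum_pow_one (Char.IsIrrCharacter.isCharacter χ.2) (s * y)
  rw [ho] at hm
  have h0 : ∀ i : ℕ, ¬ 5 ∣ i → χ.1 ((s * y) ^ i) = 0 := fun i hi => by
    refine vanish (by norm_num) hG χ hd hdiv hk5 ?_
    rw [orderOf_pow, ho]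
    rcases Nat.coprime_or_dvd_of_prime (by norm_num : Nat.Prime 5) i with h | h
    · have h' : Nat.gcd 10 i ∣ 10 := Nat.gcd_dvd_left _ _
      have h'' : ¬ 5 ∣ Nat.gcd 10 i := fun e => hi (e.trans (Nat.gcd_dvd_right _ _))
      have hle : Nat.gcd 10 i ≤ 10 := Nat.le_of_dvd (by norm_num) h'
      interval_cases hg : Nat.gcd 10 i <;> simp_all
    · exact absurd h hi
  have h5s : (s * y) ^ 5 = s := by
    rw [hsy.mul_pow, hy5, mul_one, show (5 : ℕ) = 2 * 2 + 1 from rfl, pow_succ, pow_mul, hs2, one_pow, one_mul]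
  simp only [Finset.sum_range_succ, Finset.sum_range_zero] at hm
  rw [pow_zero, h5s, h0 1 (by norm_num), h0 2 (by norm_num), h0 3 (by norm_num), h0 4 (by norm_num),
    h0 6 (by norm_num), h0 7 (by norm_num), h0 8 (by norm_num), h0 9 (by norm_num), hval,
    ← Char.IsCharacter.degree_cast (Char.IsIrrCharacter.isCharacter χ.2), hd] at hm
  have e : (d : ℤ) + ((d : ℤ) - 2 * k) = 10 * (m : ℤ) := by
    apply Int.cast_injective (α := ℂ)
    push_cast at hm ⊢
    linear_combination hm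
  obtain ⟨t, rfl⟩ := h5
  push_cast at e ⊢
  omega

/-- A character of degree divisible by 27 at an element of order 5 commuting with one of order 3. -/
theorem exists_S4_three (hG : Nat.card G = 95040) (χ : Cfsg.IrrCharacter G) {d : ℕ}
    (hd : Char.degree χ.1 = d) (hdiv : d ∣ 95040) (hk : ¬ 3 ∣ 95040 / d)
    {y u : G} (hy : orderOf y = 5) (hu : orderOf u = 3) (huy : Commute u y) :
    ∃ m : ℕ, (d : ℂ) + S4 χ.1 y = 15 * m := by
  have hu3 : u ^ 3 = 1 := by rw [← hu]; exact pow_orderOf_eq_one u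
  have ho : orderOf (u * y) = 15 := by
    rw [huy.orderOf_mul_eq_mul_orderOf_of_coprime (by rw [hu, hy]; norm_num), hu, hy]
  obtain ⟨m, hm⟩ := exists_sum_pow_one (Char.IsIrrCharacter.isCharacter χ.2) (u * y)
  refine ⟨m, ?_⟩
  rw [ho] at hm
  have h0 : ∀ i : ℕ, 0 < i → i < 15 → ¬ 3 ∣ i → χ.1 ((u * y) ^ i) = 0 := fun i h1 h2 hi => by
    refine vanish (by norm_num) hG χ hd hdiv hk ?_
    rw [orderOf_pow, ho]
    interval_cases i <;> simp_all
  have hp : ∀ i : ℕ, (u * y) ^ (3 * i) = y ^ (3 * i % 5) := fun i => by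
    rw [huy.mul_pow, pow_mul u, hu3, one_pow, one_mul]
    conv_rhs => rw [← hy, pow_mod_orderOf]
  simp only [Finset.sum_range_succ, Finset.sum_range_zero] at hm
  rw [pow_zero, h0 1 (by norm_num) (by norm_num) (by norm_num), h0 2 (by norm_num) (by norm_num) (by norm_num),
    h0 4 (by norm_num) (by norm_num) (by norm_num), h0 5 (by norm_num) (by norm_num) (by norm_num),
    h0 7 (by norm_num) (by norm_num) (by norm_num), h0 8 (by norm_num) (by norm_num) (by norm_num),
    h0 10 (by norm_num) (by norm_num) (by norm_num), h0 11 (by norm_num) (by norm_num) (by norm_num),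
    h0 13 (by norm_num) (by norm_num) (by norm_num), h0 14 (by norm_num) (by norm_num) (by norm_num),
    show (3 : ℕ) = 3 * 1 from rfl, show (6 : ℕ) = 3 * 2 from rfl, show (9 : ℕ) = 3 * 3 from rfl,
    show (12 : ℕ) = 3 * 4 from rfl, hp 1, hp 2, hp 3, hp 4,
    ← Char.IsCharacter.degree_cast (Char.IsIrrCharacter.isCharacter χ.2), hd] at hm
  norm_num at hm
  rw [S4]
  linear_combination hm

end CfsgLib.M12Order
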